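import Cfsg.Agent.H79.Co1T.NotSing

/-!
Groups of Conway type: the two-parts of the centralisers of independent involutions of a radical.
-/

set_option autoImplicit false
set_option linter.unusedSectionVars false

namespace H79.Co1T

open H43
open H69 (LXFam)
open H69.LXFam (Sing)
open H69.Pair (half mem_half)

/-- A two-group of bounded order as far as a bound allows. -/
theorem two_pow_le {n : ℕ} {m b : ℕ} (hn : n = 2 ^ m) (hd : n ∣ b) (hb : b ∣ 2 ^ 3 * 15) :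
    n ∣ 8 := by
  have h : 2 ^ m ∣ 2 ^ 3 * 15 := hn ▸ hd.trans hb
  rw [hn]
  exact ((Nat.Coprime.pow_left m (by norm_num)).dvd_of_dvd_mul_right h)

variable {G : Type*} [Group G] [Finite G]

/-- The cardinality of a group through a homomorphism. -/
theorem card_le_range_ker {A B : Type*} [Group A] [Group B] (f : A →* B) {a b : ℕ}
    (ha : Nat.card f.range ≤ a) (hb : Nat.card f.ker ≤ b) : Nat.card A ≤ a * b := by
  rw [Subgroup.card_eq_card_quotient_mul_card_subgroup f.ker,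
    Nat.card_congr (QuotientGroup.quotientKerEquivRange f).toEquiv]
  exact Nat.mul_le_mul ha hb

namespace Frame

variable {F : G → Subgroup G} {z p u : G} {π : G → V8} {ρ : G → orthGroup q8} {x' : V8}
  {r : G} {w₁ w₂ : V8}

/-- The centraliser of an element in the radical. -/
abbrev T (_ : Frame F z p u π ρ x') (r : G) : Subgroup G :=
  radR F p u ⊓ Subgroup.centralizer ({r} : Set G)

theorem mem_T {Fr : Frame F z p u π ρ x'} {x : G} :
    x ∈ Fr.T r ↔ x ∈ radR F p u ∧ Commute x r :=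
  ⟨fun h => ⟨h.1, Subgroup.mem_centralizer_singleton_iff.mp h.2⟩,
    fun h => ⟨h.1, Subgroup.mem_centralizer_singleton_iff.mpr h.2⟩⟩

theorem T_comm (Fr : Frame F z p u π ρ x') {x : G} (hx : x ∈ Fr.T r) :
    Commute x p ∧ Commute x u := by
  obtain ⟨v₁, v₂, hv⟩ := Fr.exists_pair (mem_T.mp hx).1
  exact hv.comm

theorem IsPair.commute_iff {Fr : Frame F z p u π ρ x'} (h : Fr.IsPair r w₁ w₂) {s : G} {v₁ v₂ : V8}
    (h' : Fr.IsPair s v₁ v₂) : Commute s r ↔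
      B8 v₁ w₁ + B8 v₁ w₂ + B8 w₁ v₂ = 0 ∧ B8 v₂ w₂ + B8 v₁ w₂ + B8 w₁ v₂ = 0 := by
  have hc := h'.commutator h
  refine ⟨fun e => Fr.ep_inj (i' := 0) (j' := 0) ?_, fun e => ?_⟩
  · rw [← hc, Fr.ep_zero, e.eq]; group
  · rw [e.1, e.2, Fr.ep_zero] at hc
    exact mul_inv_eq_iff_eq_mul.mp (mul_inv_eq_one.mp hc)

theorem T_fst (Fr : Frame F z p u π ρ x') (h : Fr.IsPair r w₁ w₂) (hi : Ind w₁ w₂) {v₁ : V8}
    (hv : InW (π u) x' v₁) : ∃ t v₂, t ∈ Fr.T r ∧ Fr.IsPair t v₁ v₂ := by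
  have hi' : Ind w₁ (w₁ + w₂) := by
    have := hi.symm.sum.symm
    rwa [add_comm w₂] at this
  obtain ⟨v₂, hv₂, e1, e2⟩ := Fr.H.exists_two h.inW.1 (h.inW.1.add h.inW.2) hi'
    (B8 v₁ w₁ + B8 v₁ w₂) (B8 v₁ w₂)
  obtain ⟨a, ha, hα, -⟩ := Fr.α_surj hv
  obtain ⟨b, hb, hβ⟩ := Fr.β_surj hv₂
  have hp := (Fr.pair_A ha).mul (Fr.pair_B hb)
  rw [add_zero, zero_add, hα, hβ] at hp
  refine ⟨a * b, v₂, mem_T.mpr ⟨hp.mem, (h.commute_iff hp).mpr ?_⟩, hp⟩
  rw [map_add] at e2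
  rw [show B8 w₁ v₂ = B8 v₂ w₁ from polB_comm _ _]
  revert e1 e2
  generalize B8 v₁ w₁ = a1
  generalize B8 v₁ w₂ = a2
  generalize B8 v₂ w₁ = a3
  generalize B8 v₂ w₂ = a4
  revert a1 a2 a3 a4
  decide

theorem T_snd (Fr : Frame F z p u π ρ x') (h : Fr.IsPair r w₁ w₂) (hi : Ind w₁ w₂) {v₂ : V8}
    (hv : InW (π u) x' v₂) : ∃ t v₁, t ∈ Fr.T r ∧ Fr.IsPair t v₁ v₂ := by
  obtain ⟨v₁, hv₁, e1, e2⟩ := Fr.H.exists_two (h.inW.1.add h.inW.2) h.inW.2 hi.sum
    (B8 w₁ v₂) (B8 v₂ w₂ + B8 w₁ v₂)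
  obtain ⟨a, ha, hα, -⟩ := Fr.α_surj hv₁
  obtain ⟨b, hb, hβ⟩ := Fr.β_surj hv
  have hp := (Fr.pair_A ha).mul (Fr.pair_B hb)
  rw [add_zero, zero_add, hα, hβ] at hp
  refine ⟨a * b, v₁, mem_T.mpr ⟨hp.mem, (h.commute_iff hp).mpr ?_⟩, hp⟩
  rw [map_add] at e1
  revert e1 e2
  generalize B8 v₁ w₁ = a1
  generalize B8 v₁ w₂ = a2
  generalize B8 w₁ v₂ = a3
  generalize B8 v₂ w₂ = a4
  revert a1 a2 a3 a4
  decide

theorem ep_mem_T (Fr : Frame F z p u π ρ x') (h : Fr.IsPair r w₁ w₂) (i j : ZMod 2) :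
    ep p u i j ∈ Fr.T r :=
  mem_T.mpr ⟨(Fr.pair_ep i j).mem, (h.commute_iff (Fr.pair_ep i j)).mpr (by simp)⟩

theorem gW_of_T (Fr : Frame F z p u π ρ x') (h : Fr.IsPair r w₁ w₂) (hi : Ind w₁ w₂) {d : G}
    (hdp : Commute d p) (hdu : Commute d u) (hT : ∀ t ∈ Fr.T r, Commute d t) :
    d ∈ radR F p u := by
  refine Fr.mem_radR_of hdp hdu fun w hw => ?_
  obtain ⟨t, v₂, ht, hp⟩ := Fr.T_fst h hi hw
  have hc := hp.conj hdp hdu
  rw [(hT t ht).eq, mul_inv_cancel_right] at hc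
  exact (hc.unique hp).1

/-- The four-group of a frame without the identity. -/
def Tri (_ : Frame F z p u π ρ x') (e : G) : Prop := e ∈ F p ⊓ F u ∧ e ≠ 1

theorem Tri.cases {Fr : Frame F z p u π ρ x'} {e : G} (he : Fr.Tri e) :
    e = p ∨ e = u ∨ e = p * u := by
  obtain ⟨i, j, rfl⟩ := Fr.inf_cases he.1
  rcases z2c i with rfl | rfl <;> rcases z2c j with rfl | rfl
  · exact absurd Fr.ep_zero he.2
  · simp [ep, bp_zero, bp_one]
  · simp [ep, bp_zero, bp_one]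
  · simp [ep, bp_one]

theorem tri_p (Fr : Frame F z p u π ρ x') : Fr.Tri p :=
  ⟨Fr.pair.u_mem_inf, Fr.P.pne⟩

theorem tri_u (Fr : Frame F z p u π ρ x') : Fr.Tri u := ⟨Fr.pair.v_mem_inf, Fr.upne⟩

theorem tri_pu (Fr : Frame F z p u π ρ x') : Fr.Tri (p * u) :=
  ⟨mul_mem Fr.pair.u_mem_inf Fr.pair.v_mem_inf, Fr.pair.prod_ne_one⟩

theorem Tri.sing {Fr : Frame F z p u π ρ x'} {e : G} (he : Fr.Tri e) : Sing z e :=
  Fr.W.sing_mem Fr.sp he.1.1 (Fr.pair.inf_sq he.1) he.2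

theorem card_tri (Fr : Frame F z p u π ρ x') : Nat.card {e // Fr.Tri e} = 3 := by
  have hb : Function.Bijective (fun v : {v : ZMod 2 × ZMod 2 // v ≠ 0} =>
      (⟨ep p u v.1.1 v.1.2, Fr.ep_mem _ _, fun e => v.2 (by
        rw [← Fr.ep_zero] at e
        exact Prod.ext (Fr.ep_inj e).1 (Fr.ep_inj e).2)⟩ : {e // Fr.Tri e})) := by
    refine ⟨fun v w e => ?_, fun e => ?_⟩
    · obtain ⟨h1, h2⟩ := Fr.ep_inj (congrArg Subtype.val e)
      exact Subtype.ext (Prod.ext h1 h2)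
    · obtain ⟨i, j, hij⟩ := Fr.inf_cases e.2.1
      exact ⟨⟨(i, j), fun h0 => e.2.2 (by
        rw [hij, (Prod.mk.inj h0).1, (Prod.mk.inj h0).2, Fr.ep_zero])⟩, Subtype.ext hij.symm⟩
  rw [← Nat.card_congr (Equiv.ofBijective _ hb), Nat.card_eq_fintype_card]
  decide

/-- Conjugates of the central involution centralising `T`. -/
theorem sing_comm_T (Fr : Frame F z p u π ρ x') (h : Fr.IsPair r w₁ w₂) (hi : Ind w₁ w₂) {x : G}
    (hs : Sing z x) (hT : ∀ t ∈ Fr.T r, Commute x t) : Fr.Tri x := by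
  have hx1 := Fr.W.L.ne_one hs
  have hxp : Commute x p := hT p (by simpa [ep, bp_zero, bp_one] using Fr.ep_mem_T h 1 0)
  have hxu : Commute x u := hT u (by simpa [ep, bp_zero, bp_one] using Fr.ep_mem_T h 0 1)
  obtain ⟨v₁, v₂, hv⟩ := Fr.exists_pair (Fr.gW_of_T h hi hxp hxu hT)
  have hd : ¬ Ind v₁ v₂ := fun hv' => Fr.not_sing hv hv' (Fr.W.L.sq_one hs) hs
  have hzero : v₁ = 0 ∧ v₂ = 0 := by
    simp only [Ind, not_and_or, not_not] at hd
    rcases hd with rfl | rfl | rfl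
    · refine ⟨rfl, ?_⟩
      by_contra hne
      obtain ⟨w, hw, hw1⟩ := Fr.H.exists_dual hv.inW.2 hne
      obtain ⟨t, v, ht, hp⟩ := Fr.T_fst h hi hw
      have := (hv.commute_iff hp).mp (hT t ht).symm
      simp [hw1] at this
    · refine ⟨?_, rfl⟩
      by_contra hne
      obtain ⟨w, hw, hw1⟩ := Fr.H.exists_dual hv.inW.1 hne
      obtain ⟨t, v, ht, hp⟩ := Fr.T_snd h hi hw
      have := (hv.commute_iff hp).mp (hT t ht).symm
      simp [show B8 v₁ w = 1 from (polB_comm _ _).trans hw1] at this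
    · suffices v₁ = 0 from ⟨this, this⟩
      by_contra hne
      obtain ⟨w, hw, hw1⟩ := Fr.H.exists_dual hv.inW.1 hne
      obtain ⟨t, v, ht, hp⟩ := Fr.T_fst h hi hw
      have := ((hv.commute_iff hp).mp (hT t ht).symm).2
      rw [hw1, show B8 v v₁ = B8 v₁ v from polB_comm _ _] at this
      revert this
      generalize B8 v₁ v = k
      revert k
      decide
  rw [hzero.1, hzero.2] at hv
  obtain ⟨i, j, rfl⟩ := hv.zero
  exact ⟨Fr.ep_mem i j, hx1⟩

/-! ### The upper bound -/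

/-- The conjugates forming a frame with `p` are determined. -/
theorem uniq (Fr : Frame F z p u π ρ x') (h : Fr.IsPair r w₁ w₂) (hq : q8 w₂ = 1) {u' : G}
    (hu : u' ∈ F p) (su : Sing z u') (ne : u' ≠ p) (hr : r ∈ radR F p u') :
    u' = u ∨ u' = p * u := by
  obtain ⟨qa, na⟩ := Fr.P.sing_coord hu (Fr.W.L.sq_one su) (Fr.W.L.ne_one su) ne
  obtain ⟨x₁, H₁⟩ := exists_hyp qa na
  have Fu : Frame F z p u' π ρ x₁ := ⟨Fr.W, Fr.P, Fr.sp, hu, su, ne, H₁.qx, H₁.cx⟩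
  obtain ⟨v₁, v₂, hv⟩ := Fu.exists_pair hr
  have e : eichler q8 (π u) w₂ = eichler q8 (π u') v₂ := h.rho.symm.trans hv.rho
  have hw20 : w₂ ≠ 0 := fun e' => by rw [e', map_zero] at hq; exact zero_ne_one hq
  have comb : ∀ v, ∃ i j : ZMod 2,
      (eichler q8 (π u) w₂).1 v = v + (i • π u' + j • v₂) := by
    intro v
    refine ⟨B8 v v₂ + q8 v₂ * B8 v (π u'), B8 v (π u'), ?_⟩
    rw [e, eichler2 Fu.H.qc hv.inW.2.mono.1]
    simp only [add_smul, B8]
    abel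
  obtain ⟨d, hd, hd1⟩ := Fr.H.exists_dual h.inW.2 hw20
  obtain ⟨i, j, h1⟩ := comb d
  obtain ⟨i', j', h2⟩ := comb x'
  rw [eichler2 Fr.H.qc h.inW.2.mono.1, show polB q8 d (π u) = 0 from hd.1,
    show polB q8 d w₂ = 1 from hd1, zero_smul, mul_zero, zero_smul, one_smul, add_zero, add_zero,
    add_right_inj] at h1
  rw [Fr.H.eichler_x h.inW.2, hq, one_smul, add_assoc, add_right_inj] at h2
  have qn : q8 (w₂ + π u) = 1 := by
    rw [q_add, hq, Fr.H.qc, show polB q8 w₂ (π u) = 0 from h.inW.2.1]; simp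
  have qv : ∀ a b : ZMod 2, q8 (a • π u' + b • v₂) = b * q8 v₂ := by
    intro a b
    rw [q_add, qmap_smul, qmap_smul, Fu.H.qc, map_smul (polB q8), LinearMap.smul_apply, map_smul,
      show polB q8 (π u') v₂ = 0 from hv.inW.2.mono.1]
    rcases z2c a with rfl | rfl <;> rcases z2c b with rfl | rfl <;> simp
  rw [h2, qv] at qn
  obtain ⟨hj', hq2⟩ : j' = 1 ∧ q8 v₂ = 1 := by
    revert qn
    generalize q8 v₂ = k
    generalize j' = l
    revert l k
    decide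
  have hj : j = 0 := by
    have := qv i j
    rw [← h1, Fr.H.qc, hq2, mul_one] at this
    exact this.symm
  rw [hj, zero_smul, add_zero] at h1
  have hi : π u = π u' := by
    rcases z2c i with rfl | rfl
    · rw [zero_smul] at h1; exact absurd h1 Fr.H.ne
    · rw [one_smul] at h1; exact h1
  rcases Fr.P.eq_cases Fr.hu hu hi with e' | e'
  · exact Or.inl e'
  · exact Or.inr (e'.trans Fr.upc.eq)

/-- The normaliser of the four-group. -/
abbrev N (_ : Frame F z p u π ρ x') : Subgroup G :=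
  Subgroup.normalizer ((F p ⊓ F u : Subgroup G) : Set G)

theorem mem_N (Fr : Frame F z p u π ρ x') {n : G} (h1 : n * p * n⁻¹ ∈ F p ⊓ F u)
    (h2 : n * u * n⁻¹ ∈ F p ⊓ F u) : n ∈ Fr.N := by
  refine Subgroup.mem_normalizer_fintype fun e he => ?_
  obtain ⟨i, j, rfl⟩ := Fr.inf_cases he
  rw [ep, show n * (bp p i * bp u j) * n⁻¹ = n * bp p i * n⁻¹ * (n * bp u j * n⁻¹) by group]
  simp only [bp]
  rw [← conj_pow, ← conj_pow]
  exact mul_mem (pow_mem h1 _) (pow_mem h2 _)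

theorem N_tri (Fr : Frame F z p u π ρ x') {n e : G} (hn : n ∈ Fr.N) (he : Fr.Tri e) :
    Fr.Tri (n * e * n⁻¹) :=
  ⟨(Subgroup.mem_normalizer_iff.mp hn e).mp he.1, fun h => he.2 (conj_eq_one_iff.mp h)⟩

/-- Each point of the triple can be normalised to `p`. -/
theorem normal_form (Fr : Frame F z p u π ρ x') (h : Fr.IsPair r w₁ w₂) (q1 : q8 w₁ = 1)
    (q2 : q8 w₂ = 1) (hB : B8 w₁ w₂ = 1) {e : G} (he : Fr.Tri e) :
    ∃ g ∈ Fr.N, g * e * g⁻¹ = p ∧
      ∃ v₁ v₂, Fr.IsPair (g * r * g⁻¹) v₁ v₂ ∧ q8 v₂ = 1 := by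
  obtain ⟨g, g1, g2⟩ := Fr.exists_swap
  have hg : g ∈ Fr.N := Fr.mem_N (by rw [g1]; exact Fr.tri_u.1) (by rw [g2]; exact Fr.tri_p.1)
  rcases he.cases with rfl | rfl | rfl
  · exact ⟨1, one_mem _, by group, w₁, w₂, by simpa using h, q2⟩
  · obtain ⟨v₁, v₂, hv, -, hq⟩ := h.swap g1 g2
    exact ⟨g, hg, g2, v₁, v₂, hv, hq.trans q1⟩
  · obtain ⟨m, hm, hmv⟩ := Fr.P.surj x'
    have mp : m * p * m⁻¹ = p := mul_inv_eq_iff_eq_mul.mpr (Fr.P.comm m hm).eq
    have mu := Fr.mover hm hmv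
    have hmN : m ∈ Fr.N := Fr.mem_N (by rw [mp]; exact Fr.tri_p.1) (by rw [mu]; exact Fr.tri_pu.1)
    obtain ⟨v₁, v₂, hv, -, hq⟩ := (h.mover hm hmv).swap g1 g2
    refine ⟨g * m, mul_mem hg hmN, ?_, v₁, v₂, ?_, ?_⟩
    · rw [show g * m * (p * u) * (g * m)⁻¹ = g * ((m * p * m⁻¹) * (m * u * m⁻¹)) * g⁻¹ by group,
        mp, mu, ← mul_assoc p, Fr.P.pp, one_mul, g2]
    · rw [show g * m * r * (g * m)⁻¹ = g * (m * r * m⁻¹) * g⁻¹ by group]; exact hv
    · rw [hq, q_add, q1, q2, show polB q8 w₁ w₂ = 1 from hB]; decide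

theorem comm_in_N (Fr : Frame F z p u π ρ x') (h : Fr.IsPair r w₁ w₂) (q1 : q8 w₁ = 1)
    (q2 : q8 w₂ = 1) (hB : B8 w₁ w₂ = 1) {n e : G} (hn : Commute n r) (he : Fr.Tri e)
    (he' : Fr.Tri (n * e * n⁻¹)) : n ∈ Fr.N := by
  obtain ⟨g, hg, ge, a₁, a₂, ha, -⟩ := Fr.normal_form h q1 q2 hB he
  obtain ⟨k, hk, ke, b₁, b₂, hb, hqb⟩ := Fr.normal_form h q1 q2 hB he'
  set m := k * n * g⁻¹ with hm
  have mp : m * p * m⁻¹ = p := by
    rw [← ge, hm, show k * n * g⁻¹ * (g * e * g⁻¹) * (k * n * g⁻¹)⁻¹ = k * (n * e * n⁻¹) * k⁻¹ by group,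
      ke, ge]
  have mc : Commute m p := mul_inv_eq_iff_eq_mul.mp mp
  have mr : m * (g * r * g⁻¹) * m⁻¹ = k * r * k⁻¹ := by
    rw [hm, show k * n * g⁻¹ * (g * r * g⁻¹) * (k * n * g⁻¹)⁻¹ = k * (n * r * n⁻¹) * k⁻¹ by group,
      mul_inv_eq_iff_eq_mul.mpr hn.eq]
  have hR := radR_map Fr.W.L m ha.mem
  rw [mp, mr] at hR
  have hu' := Fr.uniq hb hqb (Fr.W.L.conj_mem Fr.hu mc) (World.sing_conj Fr.su m)
    (fun e' => Fr.ne (mul_left_cancel (mul_right_cancel (e'.trans mp.symm)))) hR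
  have hmN : m ∈ Fr.N := Fr.mem_N (by rw [mp]; exact Fr.tri_p.1) (by
    rcases hu' with e' | e' <;> rw [e']
    exacts [Fr.tri_u.1, Fr.tri_pu.1])
  rw [show n = k⁻¹ * m * g by rw [hm]; group]
  exact mul_mem (mul_mem (inv_mem hk) hmN) hg

/-- Permutations given by the action on a set of vectors. -/
noncomputable def permOn (Fr : Frame F z p u π ρ x') (P : V8 → Prop)
    (hP : ∀ w, P w → InW (π u) x' w) (D : Subgroup G)
    (hD : ∀ d ∈ D, Commute d p ∧ Commute d u) (hpres : ∀ d ∈ D, ∀ w, P w → P (Fr.gW d w)) :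
    D →* Equiv.Perm {w // P w} :=
  MonoidHom.mk'
    (fun d =>
      { toFun := fun w => ⟨Fr.gW d w, hpres d d.2 w w.2⟩
        invFun := fun w => ⟨Fr.gW (d : G)⁻¹ w, hpres _ (inv_mem d.2) w w.2⟩
        left_inv := fun w => Subtype.ext (by
          obtain ⟨h1, h2⟩ := hD d d.2
          obtain ⟨h3, h4⟩ := hD _ (inv_mem d.2)
          show Fr.gW _ (Fr.gW _ _) = _
          rw [← Fr.gW_mul h3 h4 h1 h2 (hP w w.2), inv_mul_cancel, Fr.gW_ep (hP w w.2)])
        right_inv := fun w => Subtype.ext (by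
          obtain ⟨h1, h2⟩ := hD d d.2
          obtain ⟨h3, h4⟩ := hD _ (inv_mem d.2)
          show Fr.gW _ (Fr.gW _ _) = _
          rw [← Fr.gW_mul h1 h2 h3 h4 (hP w w.2), mul_inv_cancel, Fr.gW_ep (hP w w.2)]) })
    (fun d e => Equiv.ext fun w => Subtype.ext (by
      obtain ⟨h1, h2⟩ := hD d d.2
      obtain ⟨h3, h4⟩ := hD e e.2
      exact Fr.gW_mul h1 h2 h3 h4 (hP w w.2)))

theorem permOn_apply (Fr : Frame F z p u π ρ x') (P : V8 → Prop)
    (hP : ∀ w, P w → InW (π u) x' w) (D : Subgroup G)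
    (hD : ∀ d ∈ D, Commute d p ∧ Commute d u) (hpres : ∀ d ∈ D, ∀ w, P w → P (Fr.gW d w))
    (d : D) (w : {w // P w}) :
    (Fr.permOn P hP D hD hpres d w : V8) = Fr.gW d w := rfl

/-- The action of conjugation on the triple. -/
noncomputable def triHom (Fr : Frame F z p u π ρ x') (D : Subgroup G) (hD : D ≤ Fr.N) :
    D →* Equiv.Perm {e // Fr.Tri e} :=
  MonoidHom.mk'
    (fun d =>
      { toFun := fun e => ⟨d * e * (d : G)⁻¹, Fr.N_tri (hD d.2) e.2⟩
        invFun := fun e => ⟨(d : G)⁻¹ * e * (d : G)⁻¹⁻¹, Fr.N_tri (inv_mem (hD d.2)) e.2⟩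
        left_inv := fun e => Subtype.ext (by simp [mul_assoc])
        right_inv := fun e => Subtype.ext (by simp [mul_assoc]) })
    (fun d e => Equiv.ext fun x => Subtype.ext (by simp [mul_assoc]))

theorem card_T (Fr : Frame F z p u π ρ x') (h : Fr.IsPair r w₁ w₂) (hi : Ind w₁ w₂) :
    Nat.card ↥(Fr.T r) = 4096 := by
  have hp : ∀ s : radR F p u, ∃ k : ZMod 2 × ZMod 2, (s : G) * r * (s : G)⁻¹ * r⁻¹ = ep p u k.1 k.2 := by
    intro s
    obtain ⟨v₁, v₂, hv⟩ := Fr.exists_pair s.2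
    exact ⟨(_, _), hv.commutator h⟩
  choose k hk using hp
  let f : radR F p u →* Multiplicative (ZMod 2 × ZMod 2) := MonoidHom.mk'
    (fun s => Multiplicative.ofAdd (k s)) (fun s t => by
      apply Multiplicative.toAdd.injective
      have e := hk (s * t)
      obtain ⟨a₁, a₂, ha⟩ := Fr.exists_pair s.2
      have e1 : ((s * t : radR F p u) : G) * r * ((s * t : radR F p u) : G)⁻¹ * r⁻¹
          = (s : G) * ((t : G) * r * (t : G)⁻¹ * r⁻¹) * (s : G)⁻¹ * ((s : G) * r * (s : G)⁻¹ * r⁻¹) := by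
        simp only [Subgroup.coe_mul]; group
      rw [e, hk t, hk s, Fr.ep_conj ha.comm.1 ha.comm.2, Fr.ep_mul] at e1
      exact Prod.ext ((Fr.ep_inj e1).1.trans (add_comm _ _)) ((Fr.ep_inj e1).2.trans (add_comm _ _)))
  have hs : Function.Surjective f := fun v => by
    obtain ⟨x, hx, he⟩ := h.coset hi (Multiplicative.toAdd v).1 (Multiplicative.toAdd v).2
    refine ⟨⟨x, Subgroup.mem_sup_right hx⟩, Multiplicative.toAdd.injective ?_⟩
    have e := hk ⟨x, Subgroup.mem_sup_right hx⟩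
    simp only at e
    rw [he, mul_inv_cancel_right] at e
    exact Prod.ext (Fr.ep_inj e).1.symm (Fr.ep_inj e).2.symm
  have hker : f.ker = (Fr.T r).subgroupOf (radR F p u) := by
    ext s
    rw [MonoidHom.mem_ker, Subgroup.mem_subgroupOf, mem_T, ← toAdd_eq_zero]
    refine ⟨fun e => ⟨s.2, ?_⟩, fun e => ?_⟩
    · have := hk s
      rw [show k s = 0 from e] at this
      simp only [Prod.fst_zero, Prod.snd_zero, Fr.ep_zero] at this
      exact mul_inv_eq_iff_eq_mul.mp (mul_inv_eq_one.mp this)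
    · have := hk s
      rw [e.2.eq, mul_inv_cancel_right, mul_inv_cancel, ← Fr.ep_zero] at this
      exact Prod.ext (Fr.ep_inj this).1.symm (Fr.ep_inj this).2.symm
  have hc := Subgroup.card_eq_card_quotient_mul_card_subgroup f.ker
  rw [Fr.card_radR, Nat.card_congr (QuotientGroup.quotientKerEquivOfSurjective _ hs).toEquiv, hker,
    Nat.card_congr (Subgroup.subgroupOfEquivOfLe inf_le_left).toEquiv,
    Nat.card_congr Multiplicative.toAdd] at hc
  simp only [Nat.card_prod, Nat.card_zmod] at hc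
  show Nat.card ↥(radR F p u ⊓ Subgroup.centralizer ({r} : Set G)) = 4096
  omega

theorem gW_fix (Fr : Frame F z p u π ρ x') (h : Fr.IsPair r w₁ w₂) {d : G} (hdp : Commute d p)
    (hdu : Commute d u) (hdr : Commute d r) : Fr.gW d w₁ = w₁ ∧ Fr.gW d w₂ = w₂ := by
  have := h.conj hdp hdu
  rw [hdr.eq, mul_inv_cancel_right] at this
  exact this.unique h

/-- Two-subgroups of the centraliser containing `T`. -/
theorem bound_above (Fr : Frame F z p u π ρ x') (h : Fr.IsPair r w₁ w₂) (q1 : q8 w₁ = 1)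
    (q2 : q8 w₂ = 1) (hB : B8 w₁ w₂ = 1) {S : Subgroup G} (hS : IsPGroup 2 S)
    (hSr : S ≤ Subgroup.centralizer ({r} : Set G)) (hTS : Fr.T r ≤ S) : Nat.card S ≤ 65536 := by
  classical
  have : Fact (Nat.Prime 2) := ⟨Nat.prime_two⟩
  have hi := ind_of_B hB
  have hr : ∀ s ∈ S, Commute s r := fun s hs => Subgroup.mem_centralizer_singleton_iff.mp (hSr hs)
  have hTN : Fr.T r ≤ Fr.N := fun t ht => by
    obtain ⟨h1, h2⟩ := Fr.T_comm ht
    exact Fr.mem_N (by rw [mul_inv_eq_iff_eq_mul.mpr h1.eq]; exact Fr.tri_p.1)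
      (by rw [mul_inv_eq_iff_eq_mul.mpr h2.eq]; exact Fr.tri_u.1)
  have hSN : S ≤ Fr.N := by
    by_contra hne
    have : Group.IsNilpotent S := hS.isNilpotent
    have hlt : Fr.N.subgroupOf S < ⊤ :=
      lt_top_iff_ne_top.mpr fun e => hne (Subgroup.subgroupOf_eq_top.mp e)
    obtain ⟨⟨n, hnS⟩, hn, hn'⟩ := SetLike.exists_of_lt (Group.normalizerCondition_of_isNilpotent _ hlt)
    let M : Subgroup G := S ⊓ Fr.N
    have hM : IsPGroup 2 M := hS.to_le inf_le_left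
    let θ := Fr.triHom M inf_le_right
    let : MulAction M {e // Fr.Tri e} := MulAction.compHom _ θ
    obtain ⟨e, he⟩ := hM.nonempty_fixed_point_of_prime_not_dvd_card {e // Fr.Tri e}
      (by rw [Fr.card_tri]; decide)
    have hfix : ∀ t ∈ M, Commute t e.1 := fun t ht => by
      have := congrArg Subtype.val (he ⟨t, ht⟩)
      exact mul_inv_eq_iff_eq_mul.mp this
    refine hn' (Subgroup.mem_subgroupOf.mpr (Fr.comm_in_N h q1 q2 hB (hr n hnS) e.2 ?_))
    refine Fr.sing_comm_T h hi (World.sing_conj e.2.sing n) fun t ht => ?_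
    have htM : n⁻¹ * t * n ∈ M := by
      have hS' : n⁻¹ * t * n ∈ S := mul_mem (mul_mem (inv_mem hnS) (hTS ht)) hnS
      refine ⟨hS', ?_⟩
      have := (Subgroup.mem_normalizer_iff.mp hn ⟨n⁻¹ * t * n, hS'⟩).mpr
      apply this
      show n * (n⁻¹ * t * n) * n⁻¹ ∈ Fr.N
      rw [show n * (n⁻¹ * t * n) * n⁻¹ = t by group]
      exact hTN ht
    have hc := (hfix _ htM).eq
    show n * e.1 * n⁻¹ * t = t * (n * e.1 * n⁻¹)
    calc n * e.1 * n⁻¹ * t = n * (e.1 * (n⁻¹ * t * n)) * n⁻¹ := by group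
      _ = n * ((n⁻¹ * t * n) * e.1) * n⁻¹ := by rw [hc]
      _ = _ := by group
  let θ := Fr.triHom S hSN
  have hθ : Nat.card θ.range ≤ 2 := by
    obtain ⟨m, hm⟩ := IsPGroup.iff_card.mp (hS.of_surjective θ.rangeRestrict θ.rangeRestrict_surjective)
    have hd : Nat.card θ.range ∣ 6 := by
      have := Subgroup.card_subgroup_dvd_card θ.range
      rwa [Nat.card_perm, Fr.card_tri] at this
    rw [hm] at hd ⊢
    have : 2 ^ m ∣ 2 := (Nat.Coprime.pow_left m (by norm_num : Nat.Coprime 2 3)).dvd_of_dvd_mul_right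
      (by norm_num; exact hd)
    exact Nat.le_of_dvd (by norm_num) this
  have hker : Nat.card θ.ker ≤ 8 * 4096 := by
    let S₁ : Subgroup G := θ.ker.map S.subtype
    have hS₁ : ∀ d ∈ S₁, d ∈ S ∧ Commute d p ∧ Commute d u := by
      rintro d ⟨d, hd, rfl⟩
      rw [SetLike.mem_coe, MonoidHom.mem_ker] at hd
      have key : ∀ e : {e // Fr.Tri e}, (d : G) * e.1 * (d : G)⁻¹ = e.1 := fun e =>
        congrArg Subtype.val (Equiv.congr_fun hd e)
      exact ⟨d.2, mul_inv_eq_iff_eq_mul.mp (key ⟨p, Fr.tri_p⟩),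
        mul_inv_eq_iff_eq_mul.mp (key ⟨u, Fr.tri_u⟩)⟩
    have hpres : ∀ d ∈ S₁, ∀ w, Pts (π u) x' w₁ w₂ w → Pts (π u) x' w₁ w₂ (Fr.gW d w) := by
      intro d hd w ⟨hw, hq, h0, h1, h2⟩
      obtain ⟨hdS, hdp, hdu⟩ := hS₁ d hd
      obtain ⟨f1, f2⟩ := Fr.gW_fix h hdp hdu (hr d hdS)
      refine ⟨Fr.gW_inW d w, (Fr.gW_q hdp hdu hw).trans hq, fun e => h0 ?_, ?_, ?_⟩
      · have hi' := Fr.gW_mul hdp.inv_left hdu.inv_left hdp hdu hw
        rw [inv_mul_cancel, Fr.gW_ep hw, e] at hi'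
        rw [hi', gW, map_zero, map_zero]
      · rw [← f1, Fr.gW_B hdp hdu hw h.inW.1]; exact h1
      · rw [← f2, Fr.gW_B hdp hdu hw h.inW.2]; exact h2
    let ψ := Fr.permOn (Pts (π u) x' w₁ w₂) (fun w hw => hw.1) S₁ (fun d hd => (hS₁ d hd).2) hpres
    obtain ⟨hfive, hperp⟩ := Fr.H.five h.inW.1 h.inW.2 q1 q2 hB
    have hrange : Nat.card ψ.range ≤ 8 := by
      have hp1 : IsPGroup 2 S₁ := (hS.to_subgroup θ.ker).map S.subtype
      obtain ⟨m, hm⟩ := IsPGroup.iff_card.mp (hp1.of_surjective ψ.rangeRestrict ψ.rangeRestrict_surjective)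
      refine Nat.le_of_dvd (by norm_num) (two_pow_le hm ?_ dvd_rfl)
      have := Subgroup.card_subgroup_dvd_card ψ.range
      rw [Nat.card_perm, hfive] at this
      exact this
    have hψker : Nat.card ψ.ker ≤ 4096 := by
      rw [← Fr.card_T h hi]
      refine Nat.card_le_card_of_injective (fun d : ψ.ker => (⟨(d.1 : G), ?_⟩ : Fr.T r))
        fun a b e => Subtype.ext (Subtype.ext (congrArg Subtype.val e :))
      obtain ⟨hdS, hdp, hdu⟩ := hS₁ d.1 d.1.2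
      obtain ⟨f1, f2⟩ := Fr.gW_fix h hdp hdu (hr _ hdS)
      refine mem_T.mpr ⟨Fr.mem_radR_of hdp hdu fun w hw => ?_, hr _ hdS⟩
      refine eq_of_vadd_eq_zero (hperp _ ((Fr.gW_inW _ w).add hw) ?_ ?_ fun f hf => ?_)
      · rw [map_add, LinearMap.add_apply]
        conv_lhs => arg 1; arg 2; rw [← f1]
        rw [Fr.gW_B hdp hdu hw h.inW.1]
        exact ZModModule.add_self _
      · rw [map_add, LinearMap.add_apply]
        conv_lhs => arg 1; arg 2; rw [← f2]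
        rw [Fr.gW_B hdp hdu hw h.inW.2]
        exact ZModModule.add_self _
      · have hff : Fr.gW d.1 f = f :=
          congrArg Subtype.val (Equiv.congr_fun (MonoidHom.mem_ker.mp d.2) ⟨f, hf⟩)
        rw [map_add, LinearMap.add_apply]
        conv_lhs => arg 1; arg 2; rw [← hff]
        rw [Fr.gW_B hdp hdu hw hf.1]
        exact ZModModule.add_self _
    have := card_le_range_ker ψ hrange hψker
    rwa [Subgroup.card_map_of_injective S.subtype_injective] at this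
  have := card_le_range_ker θ hθ hker
  omega

/-- The two-part of the centraliser of an anisotropic involution. -/
theorem type_one (Fr : Frame F z p u π ρ x') (h : Fr.IsPair r w₁ w₂) (q1 : q8 w₁ = 1)
    (q2 : q8 w₂ = 1) (hB : B8 w₁ w₂ = 1) {S : Subgroup G} (hS : IsPGroup 2 S)
    (hSr : S ≤ Subgroup.centralizer ({r} : Set G)) : Nat.card S ≤ 65536 := by
  have : Fact (Nat.Prime 2) := ⟨Nat.prime_two⟩
  set C := Subgroup.centralizer ({r} : Set G)
  have hT : IsPGroup 2 (Fr.T r) := (Fr.pair.rad_pGroup).to_le inf_le_left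
  obtain ⟨P, hP⟩ := (hS.of_equiv (Subgroup.subgroupOfEquivOfLe hSr).symm).exists_le_sylow
  obtain ⟨R, hR⟩ := (hT.of_equiv
    (Subgroup.subgroupOfEquivOfLe (inf_le_right : Fr.T r ≤ C)).symm).exists_le_sylow
  have hb := Fr.bound_above h q1 q2 hB (S := (R : Subgroup C).map C.subtype)
    (R.isPGroup'.map _) (Subgroup.map_subtype_le _) (fun t ht => ⟨⟨t, ht.2⟩, hR ht, rfl⟩)
  rw [Subgroup.card_map_of_injective C.subtype_injective] at hb
  have h1 : Nat.card S ≤ Nat.card (P : Subgroup C) := by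
    rw [← Nat.card_congr (Subgroup.subgroupOfEquivOfLe hSr).toEquiv]
    exact Nat.card_le_card_of_injective _ (Subgroup.inclusion_injective hP)
  rw [P.card_eq_multiplicity, ← R.card_eq_multiplicity] at h1
  exact h1.trans hb

/-! ### The lower bound -/

/-- A large two-group centralising an isotropic involution. -/
theorem type_zero (Fr : Frame F z p u π ρ x') (h : Fr.IsPair r w₁ w₂) (hi : Ind w₁ w₂)
    (q1 : q8 w₁ = 0) (q2 : q8 w₂ = 0) (hB : B8 w₁ w₂ = 0) :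
    ∃ S : Subgroup G, IsPGroup 2 S ∧ S ≤ Subgroup.centralizer ({r} : Set G) ∧
      Nat.card S = 131072 := by
  classical
  obtain ⟨U, hU, hfix, hmin⟩ := Fr.H.exists_unip h.inW.1 h.inW.2 hi q1 q2 hB
  let K : Subgroup (orthGroup q8) :=
    { carrier := {g | ∃ d, Commute d p ∧ ρ d = g}
      one_mem' := ⟨1, Commute.one_left p, Fr.P.ρ_one⟩
      mul_mem' := fun ⟨a, ha, ea⟩ ⟨b, hb, eb⟩ =>
        ⟨a * b, ha.mul_left hb, by rw [Fr.P.ρ_mul ha hb, ea, eb]⟩
      inv_mem' := fun ⟨a, ha, ea⟩ => ⟨a⁻¹, ha.inv_left, by rw [Fr.P.ρ_inv ha, ea]⟩ }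
  have hUK : U ≤ K := by
    refine hmin K fun s v hs hsv => ?_
    obtain ⟨sW, sq, sne⟩ : InW (π u) x' s ∧ q8 s = 0 ∧ s ≠ 0 := by
      rcases hs with rfl | rfl
      exacts [⟨h.inW.1, q1, hi.1⟩, ⟨h.inW.2, q2, hi.2.1⟩]
    obtain ⟨a, ha, hπ⟩ := Fr.P.surj s
    have ha2 : a * a = 1 := by rw [Fr.P.sq a ha, hπ, sq]; simp
    have ha1 : a ≠ 1 := fun e => sne (by rw [← hπ, e, Fr.P.one])
    have hap : a ≠ p := fun e => sne (by rw [← hπ, e, Fr.P.πp])
    obtain ⟨qc, nc⟩ := Fr.P.sing_coord ha ha2 ha1 hap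
    obtain ⟨x₁, H₁⟩ := exists_hyp qc nc
    have Fa : Frame F z p a π ρ x₁ :=
      ⟨Fr.W, Fr.P, Fr.sp, ha, Fr.W.sing_mem Fr.sp ha ha2 ha1, hap, H₁.qx, H₁.cx⟩
    obtain ⟨b, hb, hρ, -⟩ := Fa.exists_eichler (w := v) (by rw [hπ]; exact hsv)
    exact ⟨b, (Fa.bcomm hb).1, by rw [hρ, hπ]⟩
  have hlift : ∀ g ∈ U, ∃ d, Commute d p ∧ Commute d u ∧ Commute d r ∧ ρ d = g := by
    intro g hg
    obtain ⟨gc, -, g1, g2⟩ := hfix g hg
    obtain ⟨d₀, hd₀, rfl⟩ := hUK hg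
    obtain ⟨d, hdp, hdu, hdg⟩ := Fr.exists_stab (Fr.P.even d₀ hd₀) gc
    have hc := h.conj hdp hdu
    rw [gW, gW, hdg, g1, g2, h.inW.1.proj_eq, h.inW.2.proj_eq] at hc
    obtain ⟨v₁, v₂, hv⟩ := Fr.exists_pair (inv_mem hc.mem)
    have h0 := hc.mul hv
    rw [mul_inv_cancel] at h0
    obtain ⟨z1, z2⟩ := h0.unique (by have := Fr.pair_ep 0 0; rwa [Fr.ep_zero] at this)
    rw [← eq_of_vadd_eq_zero z1, ← eq_of_vadd_eq_zero z2] at hv
    have he := h.mul hv
    rw [vadd_self, vadd_self] at he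
    obtain ⟨i, j, hij⟩ := he.zero
    obtain ⟨x, hx, hxe⟩ := hc.coset hi i j
    refine ⟨x * d, (Fr.acomm hx).1.mul_left hdp, (Fr.acomm hx).2.mul_left hdu,
      mul_inv_eq_iff_eq_mul.mp ?_, ?_⟩
    · rw [show x * d * r * (x * d)⁻¹ = x * (d * r * d⁻¹) * x⁻¹ by group, hxe, ← hij]
      group
    · rw [Fr.P.ρ_mul (Fr.acomm hx).1 hdp, Fr.P.ρ_mem (mem_half.mp hx).1, one_mul, hdg]
  let D : Subgroup G := Subgroup.centralizer ({p} : Set G) ⊓ Subgroup.centralizer ({u} : Set G) ⊓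
    Subgroup.centralizer ({r} : Set G)
  have hD : ∀ d ∈ D, Commute d p ∧ Commute d u := fun d hd =>
    ⟨Subgroup.mem_centralizer_singleton_iff.mp hd.1.1, Subgroup.mem_centralizer_singleton_iff.mp hd.1.2⟩
  have hDr : ∀ d ∈ D, Commute d r := fun d hd => Subgroup.mem_centralizer_singleton_iff.mp hd.2
  have hmD : ∀ {d}, Commute d p → Commute d u → Commute d r → d ∈ D := fun a b c =>
    ⟨⟨Subgroup.mem_centralizer_singleton_iff.mpr a, Subgroup.mem_centralizer_singleton_iff.mpr b⟩,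
      Subgroup.mem_centralizer_singleton_iff.mpr c⟩
  let ψ := Fr.permOn (InW (π u) x') (fun w hw => hw) D hD (fun d _ w _ => Fr.gW_inW d w)
  have hUW : ∀ g ∈ U, ∀ w, InW (π u) x' w → InW (π u) x' (g.1 w) := by
    intro g hg w hw
    obtain ⟨gc, gx, -, -⟩ := hfix g hg
    refine ⟨perp_g gc hw.1, perp_g gx hw.2⟩
  let σ : U →* Equiv.Perm {w // InW (π u) x' w} := MonoidHom.mk'
    (fun g =>
      { toFun := fun w => ⟨(g : orthGroup q8).1 w, hUW g g.2 w w.2⟩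
        invFun := fun w => ⟨((g⁻¹ : U) : orthGroup q8).1 w, hUW _ (g⁻¹).2 w w.2⟩
        left_inv := fun w => Subtype.ext (by
          show ((g⁻¹ : U) : orthGroup q8).1 ((g : orthGroup q8).1 w) = w
          rw [Subgroup.coe_inv, orth_inv_apply_self])
        right_inv := fun w => Subtype.ext (by
          show (g : orthGroup q8).1 (((g⁻¹ : U) : orthGroup q8).1 w) = w
          rw [Subgroup.coe_inv, orth_apply_inv_self]) })
    (fun g g' => Equiv.ext fun w => Subtype.ext (by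
      show ((g * g' : U) : orthGroup q8).1 w
        = (g : orthGroup q8).1 ((g' : orthGroup q8).1 w)
      rw [Subgroup.coe_mul, orth_mul_apply]))
  have hσ : Function.Injective σ := by
    intro g g' e
    refine Subtype.ext (orth_ext fun v => ?_)
    obtain ⟨gc, gx, -, -⟩ := hfix g g.2
    obtain ⟨gc', gx', -, -⟩ := hfix g' g'.2
    have key : (g : orthGroup q8).1 (proj (π u) x' v) = (g' : orthGroup q8).1 (proj (π u) x' v) :=
      congrArg Subtype.val (Equiv.congr_fun e ⟨_, Fr.H.proj_inW v⟩)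
    have ev : v = proj (π u) x' v + (B8 v x' • π u + B8 v (π u) • x') := by
      rw [proj_apply, add_assoc v, add_assoc, vadd_self, add_zero]
    rw [ev]
    simp only [map_add, map_smul, key, gc, gx, gc', gx']
  let H : Subgroup D := σ.range.comap ψ
  have hsurj : ∀ g : U, ∃ d : H, ψ d = σ g := by
    intro g
    obtain ⟨d, hdp, hdu, hdr, hdg⟩ := hlift g g.2
    have e : ψ ⟨d, hmD hdp hdu hdr⟩ = σ g := Equiv.ext fun w => Subtype.ext (by
      show Fr.gW d w = _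
      rw [gW, hdg, (hUW g g.2 w w.2).proj_eq]; rfl)
    exact ⟨⟨⟨d, hmD hdp hdu hdr⟩, by rw [Subgroup.mem_comap, e]; exact ⟨g, rfl⟩⟩, e⟩
  let f : H →* σ.range := MonoidHom.codRestrict (ψ.comp H.subtype) σ.range fun d => d.2
  have hf : Function.Surjective f := by
    rintro ⟨_, g, rfl⟩
    obtain ⟨d, hd⟩ := hsurj g
    exact ⟨d, Subtype.ext hd⟩
  have hTD : Fr.T r ≤ D := fun t ht =>
    hmD (Fr.T_comm ht).1 (Fr.T_comm ht).2 (mem_T.mp ht).2
  have hker : Nat.card f.ker = 4096 := by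
    rw [← Fr.card_T h hi]
    refine Nat.card_congr
      { toFun := fun d => ⟨(d.1.1 : G), mem_T.mpr ⟨Fr.mem_radR_of (hD _ d.1.1.2).1 (hD _ d.1.1.2).2
          fun w hw => congrArg (fun e : {w // InW (π u) x' w} => (e : V8))
            (Equiv.congr_fun (congrArg Subtype.val (MonoidHom.mem_ker.mp d.2) :
              ψ d.1.1 = 1) ⟨w, hw⟩), hDr _ d.1.1.2⟩⟩
        invFun := fun t => ⟨⟨⟨t, hTD t.2⟩, ?_⟩, ?_⟩
        left_inv := fun d => rfl
        right_inv := fun t => rfl }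
    · rw [Subgroup.mem_comap]
      obtain ⟨v₁, v₂, hv⟩ := Fr.exists_pair (mem_T.mp t.2).1
      rw [show ψ ⟨t, hTD t.2⟩ = 1 from Equiv.ext fun w => Subtype.ext (Fr.gW_rad hv w.2)]
      exact one_mem _
    · obtain ⟨v₁, v₂, hv⟩ := Fr.exists_pair (mem_T.mp t.2).1
      exact Subtype.ext (Equiv.ext fun w => Subtype.ext (Fr.gW_rad hv w.2))
  have hc : Nat.card H = 131072 := by
    rw [Subgroup.card_eq_card_quotient_mul_card_subgroup f.ker,
      Nat.card_congr (QuotientGroup.quotientKerEquivOfSurjective _ hf).toEquiv, hker,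
      ← Nat.card_congr (MonoidHom.ofInjective hσ).toEquiv, hU]
  refine ⟨H.map D.subtype, ?_, (Subgroup.map_subtype_le _).trans inf_le_right, ?_⟩
  · exact (IsPGroup.of_card (n := 17) (by rw [hc]; norm_num)).map _
  · rw [Subgroup.card_map_of_injective D.subtype_injective, hc]

/-- The two types are not conjugate. -/
theorem not_isConj (Fr : Frame F z p u π ρ x') {r' : G} {v₁ v₂ : V8} (h : Fr.IsPair r w₁ w₂)
    (q1 : q8 w₁ = 1) (q2 : q8 w₂ = 1) (hB : B8 w₁ w₂ = 1) (h' : Fr.IsPair r' v₁ v₂)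
    (hi' : Ind v₁ v₂) (q1' : q8 v₁ = 0) (q2' : q8 v₂ = 0) (hB' : B8 v₁ v₂ = 0) :
    ¬ IsConj r r' := by
  intro hc
  obtain ⟨g, hg⟩ := isConj_iff.mp hc.symm
  obtain ⟨S, hS, hSr, hcard⟩ := Fr.type_zero h' hi' q1' q2' hB'
  have hle := Fr.type_one h q1 q2 hB (S := S.map (MulAut.conj g).toMonoidHom) (hS.map _) (by
    rintro _ ⟨s, hs, rfl⟩
    rw [Subgroup.mem_centralizer_singleton_iff, ← hg]
    have := Subgroup.mem_centralizer_singleton_iff.mp (hSr hs)
    show g * s * g⁻¹ * (g * r' * g⁻¹) = _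
    calc g * s * g⁻¹ * (g * r' * g⁻¹) = g * (s * r') * g⁻¹ := by group
      _ = g * (r' * s) * g⁻¹ := by rw [this]
      _ = _ := by simp [MulAut.conj_apply, mul_assoc])
  rw [Subgroup.card_map_of_injective (f := (MulAut.conj g).toMonoidHom) (MulAut.conj g).injective,
    hcard] at hle
  omega

end Frame

end H79.Co1T
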