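import Cfsg.Agent.H79.Co1T.Build
import Cfsg.Agent.H79.Co1T.Count

/-!
Groups of Conway type: there are exactly three classes of involutions.
-/

set_option autoImplicit false
set_option linter.unusedSectionVars false

namespace H79.Co1T

open H43
open H69 (LXFam)
open H69.LXFam (Sing)

variable {G : Type*} [Group G] [Finite G]

namespace World

variable {F : G → Subgroup G} {z : G}

/-- Every involution is conjugate to one centralising the central involution. -/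
theorem conj_to_centralizer (W : World F z) {y : G} (hy : y * y = 1) :
    ∃ g : G, Commute (g * y * g⁻¹) z := by
  have : Fact (Nat.Prime 2) := ⟨Nat.prime_two⟩
  have hFz : IsPGroup 2 (F z) := fun a => ⟨2, Subtype.ext (by
    show (a : G) ^ (2 ^ 2) = 1
    rcases W.L.mul_self_cases sing_self a.2 with h | h
    · rw [show (2 : ℕ) ^ 2 = 2 * 2 from rfl, pow_mul, pow_two (a : G), h, one_pow]
    · rw [show (2 : ℕ) ^ 2 = 2 * 2 from rfl, pow_mul, pow_two (a : G), h, pow_two]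
      exact W.L.zsq)⟩
  obtain ⟨P, hP⟩ := hFz.exists_le_sylow
  have hyp : IsPGroup 2 (Subgroup.zpowers y) := by
    intro ⟨a, ha⟩
    obtain ⟨k, rfl⟩ := Subgroup.mem_zpowers_iff.mp ha
    refine ⟨1, Subtype.ext ?_⟩
    show (y ^ k) ^ (2 ^ 1) = 1
    rw [pow_one, ← zpow_natCast, ← zpow_mul, mul_comm, zpow_mul, zpow_natCast, pow_two, hy, one_zpow]
  obtain ⟨R, hR⟩ := hyp.exists_le_sylow
  obtain ⟨g, rfl⟩ := MulAction.exists_smul_eq G R P
  refine ⟨g, ?_⟩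
  have hyP : g * y * g⁻¹ ∈ ((g • R : Sylow 2 G) : Subgroup G) :=
    ⟨y, hR (Subgroup.mem_zpowers y), rfl⟩
  have hzP : z ∈ ((g • R : Sylow 2 G) : Subgroup G) := hP W.L.mem_Q_z
  have : Nontrivial ((g • R : Sylow 2 G) : Subgroup G) :=
    ⟨⟨⟨z, hzP⟩, 1, fun e => W.L.ne_one sing_self (congrArg Subtype.val e)⟩⟩
  obtain ⟨w, hw⟩ := @exists_ne _ (g • R).isPGroup'.center_nontrivial 1
  have hall : ∀ b ∈ ((g • R : Sylow 2 G) : Subgroup G), Commute (w.1.1 : G) b := fun b hb =>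
    (congrArg Subtype.val (Subgroup.mem_center_iff.mp w.2 ⟨b, hb⟩)).symm
  have hwF : (w.1.1 : G) ∈ F z := W.L.centralizes sing_self fun b hb => hall b (hP hb)
  rcases W.L.center_cases sing_self hwF fun b hb => hall b (hP hb) with h | h
  · exact absurd (Subtype.ext (Subtype.ext h)) hw
  · exact (h ▸ hall _ hyP).symm

/-- The classification of the involutions. -/
theorem three_classes (W : World F z) : ∃ a b c : G, orderOf a = 2 ∧ orderOf b = 2 ∧ orderOf c = 2 ∧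
    ¬ IsConj a b ∧ ¬ IsConj a c ∧ ¬ IsConj b c ∧
    ∀ x : G, orderOf x = 2 → IsConj x a ∨ IsConj x b ∨ IsConj x c := by
  obtain ⟨u, hu, su, hne⟩ := W.nwc
  obtain ⟨π, ρ, x', Fr⟩ := exists_frame W sing_self hu su hne
  obtain ⟨g, -, g0, g1⟩ := witt2 std_hyp Fr.H
  have hInW : ∀ {w}, InW (eI 0) (fI 0) w → InW (π u) x' (g.1 w) := fun {w} hw => by
    rw [InW, ← g0, ← g1]
    simp only [B8, orth_polB_map]
    exact hw
  have mk : ∀ {a b : V8}, InW (eI 0) (fI 0) a → InW (eI 0) (fI 0) b →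
      ∃ r, Fr.IsPair r (g.1 a) (g.1 b) := fun {a b} ha hb => by
    obtain ⟨a', ha', hα, -⟩ := Fr.α_surj (hInW ha)
    obtain ⟨b', hb', hβ⟩ := Fr.β_surj (hInW hb)
    have h := (Fr.pair_A ha').mul (Fr.pair_B hb')
    rw [add_zero, zero_add, hα, hβ] at h
    exact ⟨_, h⟩
  obtain ⟨y2, h2⟩ := mk (a := a1) (b := b1) (std_inW (by decide) (by decide))
    (std_inW (by decide) (by decide))
  obtain ⟨y3, h3⟩ := mk (a := eI 1) (b := eI 2) (std_inW (by decide) (by decide))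
    (std_inW (by decide) (by decide))
  have p1 : q8 (g.1 a1) = 1 := by rw [orth_qmap, q8_eq]; decide
  have p2 : q8 (g.1 b1) = 1 := by rw [orth_qmap, q8_eq]; decide
  have pB : B8 (g.1 a1) (g.1 b1) = 1 := by
    simp only [B8, orth_polB_map]
    exact (B8_eq _ _).trans (by decide)
  have r1 : q8 (g.1 (eI 1)) = 0 := by rw [orth_qmap, q8_eq]; decide
  have r2 : q8 (g.1 (eI 2)) = 0 := by rw [orth_qmap, q8_eq]; decide
  have rB : B8 (g.1 (eI 1)) (g.1 (eI 2)) = 0 := by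
    simp only [B8, orth_polB_map]
    exact (B8_eq _ _).trans (by decide)
  have i2 : Ind (g.1 a1) (g.1 b1) := ind_of_B pB
  have i3 : Ind (g.1 (eI 1)) (g.1 (eI 2)) :=
    ⟨(LinearEquiv.map_ne_zero_iff _).mpr (by decide), (LinearEquiv.map_ne_zero_iff _).mpr (by decide),
      fun e => absurd (g.1.injective e) (by decide)⟩
  have e2 : y2 * y2 = 1 := h2.invol.mpr ⟨p1.trans pB.symm, p2.trans pB.symm⟩
  have e3 : y3 * y3 = 1 := h3.invol.mpr ⟨r1.trans rB.symm, r2.trans rB.symm⟩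
  have ns2 := Fr.not_sing h2 i2 e2
  have ns3 := Fr.not_sing h3 i3 e3
  have n2 : y2 ≠ 1 := fun e => i2.1 (by
    subst e
    exact (h2.unique (by have := Fr.pair_ep 0 0; rwa [Fr.ep_zero] at this)).1)
  have n3 : y3 ≠ 1 := fun e => i3.1 (by
    subst e
    exact (h3.unique (by have := Fr.pair_ep 0 0; rwa [Fr.ep_zero] at this)).1)
  refine ⟨z, y2, y3, W.L.hz, orderOf_eq_prime (by rw [pow_two, e2]) n2,
    orderOf_eq_prime (by rw [pow_two, e3]) n3, fun h => ns2 (isConj_iff.mp h),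
    fun h => ns3 (isConj_iff.mp h), Fr.not_isConj h2 p1 p2 pB h3 i3 r1 r2 rB, fun x hx => ?_⟩
  have hx2 : x * x = 1 := by rw [← pow_two, ← hx, pow_orderOf_eq_one]
  have hx1 : x ≠ 1 := fun e => by rw [e, orderOf_one] at hx; omega
  obtain ⟨k, hk⟩ := W.conj_to_centralizer hx2
  have hxk : IsConj x (k * x * k⁻¹) := isConj_iff.mpr ⟨k, rfl⟩
  have hk2 : k * x * k⁻¹ * (k * x * k⁻¹) = 1 := by
    rw [show k * x * k⁻¹ * (k * x * k⁻¹) = k * (x * x) * k⁻¹ by group, hx2]; group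
  rcases W.exists_radR sing_self hk2 (fun e => hx1 (conj_eq_one_iff.mp e)) hk with
    hs | ⟨p', u', π', ρ', x₁, Fr', hmem⟩
  · exact Or.inl (hxk.trans (isConj_iff.mpr hs).symm)
  obtain ⟨l, hl⟩ := Fr'.sp
  have hp : l⁻¹ * p' * l⁻¹⁻¹ = z := by rw [← hl]; group
  have hu' : l⁻¹ * u' * l⁻¹⁻¹ ∈ F z := hp ▸ W.L.mem_Q_conj l⁻¹ Fr'.hu
  have su' : Sing z (l⁻¹ * u' * l⁻¹⁻¹) := sing_conj Fr'.su _
  obtain ⟨qa, na⟩ := Fr.P.sing_coord hu' (W.L.sq_one su') (W.L.ne_one su')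
    (fun e => Fr'.ne (mul_left_cancel (mul_right_cancel (e.trans hp.symm))))
  obtain ⟨qb, nb⟩ := Fr.P.sing_coord hu (W.L.sq_one su) (W.L.ne_one su) hne
  obtain ⟨c, hc, hcu⟩ := Fr.P.exists_trans hu' hu qa qb na nb
  have hR := radR_map W.L c (radR_map W.L l⁻¹ hmem)
  rw [hp, hcu, hc.eq, mul_inv_cancel_right] at hR
  set y := c * (l⁻¹ * (k * x * k⁻¹) * l⁻¹⁻¹) * c⁻¹ with hy
  have hxy : IsConj x y :=
    hxk.trans (isConj_iff.mpr ⟨c * l⁻¹, by rw [hy]; group⟩)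
  have hy2 : y * y = 1 := by
    rw [hy, show c * (l⁻¹ * (k * x * k⁻¹) * l⁻¹⁻¹) * c⁻¹ * (c * (l⁻¹ * (k * x * k⁻¹) * l⁻¹⁻¹) * c⁻¹)
      = c * l⁻¹ * k * (x * x) * (c * l⁻¹ * k)⁻¹ by group, hx2]
    group
  have hy1 : y ≠ 1 := fun e => hx1 (isConj_one_right.mp (by rw [← e]; exact hxy.symm))
  obtain ⟨v₁, v₂, hv⟩ := Fr.exists_pair hR
  by_cases hi : Ind v₁ v₂
  · obtain ⟨a, b⟩ := hv.invol.mp hy2
    rcases z2c (B8 v₁ v₂) with e | e
    · exact Or.inr (Or.inr (hxy.trans (hv.isConj h3 hi i3 (a.trans (e.trans r1.symm))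
        (b.trans (e.trans r2.symm)) (e.trans rB.symm))))
    · exact Or.inr (Or.inl (hxy.trans (hv.isConj h2 hi i2 (a.trans (e.trans p1.symm))
        (b.trans (e.trans p2.symm)) (e.trans pB.symm))))
  · exact Or.inl (hxy.trans (isConj_iff.mpr (hv.sing_of_dep hi hy2 hy1)).symm)

end World

end H79.Co1T
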