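import Cfsg.Agent.H79.Co1T.Setting

/-!
Groups of Conway type: the coordinates exist.
-/

set_option autoImplicit false
set_option linter.unusedSectionVars false

namespace H79.Co1T

open H43 Matrix
open H69 (LXFam lxQ)
open H69.LXFam (Sing)

variable {G : Type*} [Group G] [Finite G]

theorem form_eq : (⇑q8 : V8 → ZMod 2) = Cfsg.quadFormPlus 4 (ZMod 2) := coe_qPlus 4 (ZMod 2)

theorem card_iso : Nat.card ↥(Cfsg.isometryGroup (ZMod 2) (⇑q8)) = 348364800 := by
  rw [form_eq, H38.card_plus 3, ZMod.card]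
  norm_num [Finset.prod_range_succ]

theorem omega_two : (Cfsg.Omega (ZMod 2) (⇑q8)).index = 2 := by
  rw [H43.omega_index]
  exact H43.commutator_index_even nd8 (H43.reflGenerates_of_card (Or.inr (by simp))) (by simp)
    (CharTwo.two_eq_zero)

theorem card_omega : Nat.card ↥(Cfsg.Omega (ZMod 2) (⇑q8)) = 174182400 := by
  have h := Subgroup.card_mul_index (Cfsg.Omega (ZMod 2) (⇑q8))
  rw [omega_two, card_iso] at h
  omega

/-- Transport of coordinates along conjugation. -/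
theorem pt_conj {F : G → Subgroup G} {z : G} (L : LXFam F z) {π : G → V8} {ρ : G → orthGroup q8}
    (P : Pt (F z) z π ρ) (g : G) :
    Pt (F (g * z * g⁻¹)) (g * z * g⁻¹) (fun a => π (g⁻¹ * a * g)) (fun c => ρ (g⁻¹ * c * g)) := by
  have hm : ∀ {a}, a ∈ F (g * z * g⁻¹) → g⁻¹ * a * g ∈ F z := fun ha => L.mem_Q_conj' g ha
  have hc : ∀ {c}, Commute c (g * z * g⁻¹) → Commute (g⁻¹ * c * g) z := fun {c} h => by
    show g⁻¹ * c * g * z = z * (g⁻¹ * c * g)
    calc g⁻¹ * c * g * z = g⁻¹ * (c * (g * z * g⁻¹)) * g := by group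
      _ = g⁻¹ * ((g * z * g⁻¹) * c) * g := by rw [h.eq]
      _ = _ := by group
  refine
    { map_mul := fun a ha b hb => ?_, ker := fun a ha h => ?_, surj := fun v => ?_, sq := fun a ha => ?_,
      comm := fun a ha => L.commute_of_mem ha, norm := fun c hc' a ha => L.conj_mem ha hc',
      act := fun c hc' a ha => ?_, faithful := fun c hc' h => ?_, even := fun c hc' => P.even _ (hc hc'),
      lift := fun t ht => ?_, mem := L.mem_Q_conj g P.mem, πp := ?_, pp := ?_, pne := ?_ }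
  · show π (g⁻¹ * (a * b) * g) = _
    rw [show g⁻¹ * (a * b) * g = g⁻¹ * a * g * (g⁻¹ * b * g) by group, P.map_mul _ (hm ha) _ (hm hb)]
  · rcases P.ker _ (hm ha) h with e | e
    · exact Or.inl (by rw [show a = g * (g⁻¹ * a * g) * g⁻¹ by group, e]; group)
    · exact Or.inr (by rw [show a = g * (g⁻¹ * a * g) * g⁻¹ by group, e])
  · obtain ⟨a, ha, rfl⟩ := P.surj v
    exact ⟨g * a * g⁻¹, L.mem_Q_conj g ha, by show π (g⁻¹ * (g * a * g⁻¹) * g) = π a; congr 1; group⟩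
  · have h := P.sq _ (hm ha)
    have h' : g⁻¹ * (a * a) * g = z ^ (q8 (π (g⁻¹ * a * g))).val := by rw [← h]; group
    rw [conj_pow, ← h']; group
  · show π (g⁻¹ * (c * a * c⁻¹) * g) = (ρ (g⁻¹ * c * g)).1 (π (g⁻¹ * a * g))
    rw [← P.act _ (hc hc') _ (hm ha)]
    congr 1; group
  · have := L.mem_Q_conj g (P.faithful _ (hc hc') h)
    simpa [mul_assoc] using this
  · obtain ⟨c, hcz, rfl⟩ := P.lift t ht
    refine ⟨g * c * g⁻¹, ?_, by show ρ (g⁻¹ * (g * c * g⁻¹) * g) = ρ c; congr 1; group⟩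
    show g * c * g⁻¹ * (g * z * g⁻¹) = g * z * g⁻¹ * (g * c * g⁻¹)
    calc g * c * g⁻¹ * (g * z * g⁻¹) = g * (c * z) * g⁻¹ := by group
      _ = _ := by rw [hcz.eq]; group
  · show π (g⁻¹ * (g * z * g⁻¹) * g) = 0
    rw [show g⁻¹ * (g * z * g⁻¹) * g = z by group, P.πp]
  · rw [show g * z * g⁻¹ * (g * z * g⁻¹) = g * (z * z) * g⁻¹ by group, P.pp]; group
  · exact fun h => P.pne (conj_eq_one_iff.mp h)

/-- The setting from the hypothesis as stated. -/
theorem exists_world (z : G) (hz : orderOf z = 2)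
    (Q : Subgroup (Subgroup.centralizer ({z} : Set G))) [Q.Normal]
    (hF : Cfsg.generalizedFittingSubgroup (Subgroup.centralizer ({z} : Set G)) = Q)
    (hQ : Cfsg.IsExtraspecial 2 Q) (hcard : Nat.card Q = 2 ^ 9)
    (e : (Subgroup.centralizer ({z} : Set G)) ⧸ Q ≃*
      Cfsg.Omega (ZMod 2) (Cfsg.quadFormPlus 4 (ZMod 2)))
    (hnwc : ∃ g : G, (∃ hq : g * z * g⁻¹ ∈ Subgroup.centralizer ({z} : Set G),
      (⟨g * z * g⁻¹, hq⟩ : Subgroup.centralizer ({z} : Set G)) ∈ Q) ∧ g * z * g⁻¹ ≠ z) :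
    ∃ F : G → Subgroup G, World F z := by
  classical
  have : Fact (Nat.Prime 2) := ⟨Nat.prime_two⟩
  let Q0 := Q.map (Subgroup.centralizer ({z} : Set G)).subtype
  let eQ : Q ≃* Q0 :=
    Q.equivMapOfInjective (Subgroup.centralizer ({z} : Set G)).subtype (Subgroup.subtype_injective _)
  have hext : Cfsg.IsExtraspecial 2 Q0 := H73.Suz.isExtraspecial_equiv eQ hQ
  have hcard0 : Nat.card Q0 = 512 := by rw [← Nat.card_congr eQ.toEquiv, hcard]; norm_num
  have hle : Q0 ≤ Subgroup.centralizer ({z} : Set G) := Subgroup.map_subtype_le Q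
  obtain ⟨hpre, hcen, hnor⟩ := H69.fstar_setting hz hle (by rw [hF]) hext
  have hzz : z * z = 1 := by rw [← pow_two, ← hz, pow_orderOf_eq_one]
  have hz1 : z ≠ 1 := fun h => by rw [h, orderOf_one] at hz; omega
  have hzm := H93.mem_centerMap.mp (hcen.symm ▸ Subgroup.mem_zpowers z :
    z ∈ (Subgroup.center Q0).map Q0.subtype)
  have hzQ : z ∈ Q0 := hzm.1
  have hQz : ∀ q ∈ Q0, Commute q z := fun q hq => hzm.2 q hq
  have hmemQ : ∀ c : Subgroup.centralizer ({z} : Set G), (c : G) ∈ Q0 ↔ c ∈ Q := fun c =>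
    Subgroup.mem_map_iff_mem (Subgroup.subtype_injective _)
  have hself : ∀ c, Commute c z → (∀ q ∈ Q0, Commute c q) → c ∈ Q0 := by
    intro c _ hc
    exact H93.centerMap_le Q0 (hpre.2.1 ▸ Subgroup.mem_centralizer_iff.mpr fun q hq => (hc q hq).symm.eq)
  set zQ : Q0 := ⟨z, hzQ⟩ with hzQdef
  have hzQ2 : zQ * zQ = 1 := Subtype.ext hzz
  have hzQ1 : zQ ≠ 1 := fun h => hz1 (congrArg Subtype.val h)
  have hzo : orderOf zQ = 2 := orderOf_eq_prime (by rw [pow_two, hzQ2]) hzQ1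
  have hzc : Subgroup.center Q0 = Subgroup.zpowers zQ := by
    refine (Subgroup.eq_of_le_of_card_ge (Subgroup.zpowers_le.mpr ?_)
      (by rw [Nat.card_zpowers, hzo, hext.2])).symm
    exact Subgroup.mem_center_iff.mpr fun q => Subtype.ext (hQz q q.2).eq
  obtain ⟨z₀, n, x, y, ε, hz₀, hz₀c, hf⟩ := H5.exists_frame hext (Or.inl rfl)
  have hz₀Q : z₀ = zQ := by
    have : z₀ ∈ Subgroup.center Q0 := Subgroup.mem_center_iff.mpr fun u => (hz₀c u).symm
    rw [hzc] at this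
    refine (H93.zpowers_two_cases hzo this).resolve_left fun h => ?_
    rw [h, orderOf_one] at hz₀; omega
  subst hz₀Q
  obtain rfl : n = 4 := by
    obtain ⟨-, -, -, hc⟩ := hf
    rw [Subgroup.card_top, hcard0, show (512 : ℕ) = 2 ^ 9 by norm_num] at hc
    have := Nat.pow_right_injective (le_refl 2) hc
    omega
  obtain ⟨φ, hφ, hker, hsq⟩ := Cfsg.Agent.H29.exists_coords hz₀ hz₀c hzc
    (H6.extraspecial_commutator_mem_center hext)
    (fun u => by rw [← pow_two]; exact H6.extraspecial_pow_mem_center hext u) hf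
  set tw := H5.twistData 4 ε
  let qf : (Fin 4 ⊕ Fin 4 → ZMod 2) → ZMod 2 := fun v =>
    ∑ i, (v (.inl i) * v (.inr i) + (tw i : ZMod 2) * v (.inl i) + (tw i : ZMod 2) * v (.inr i))
  have hpol : H44.Polarises 4 qf := by
    intro u v
    simp only [qf, Cfsg.quadFormPlus, Fin.sum_univ_four, Pi.add_apply]
    ring
  have hqf : ∀ g : Q0, g * g = zQ ^ (qf (Multiplicative.toAdd (φ g))).val := by
    refine hsq qf (fun v w => ?_) (fun j => ?_) (fun j => ?_)
    · simp only [qf, Fin.sum_univ_four, Pi.add_apply]; ring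
    · simp only [qf, Fin.sum_univ_four]
      fin_cases j <;> simp
    · simp only [qf, Fin.sum_univ_four]
      fin_cases j <;> simp
  have hrange : ∀ {ι : Type} [Fintype ι] [DecidableEq ι] (ψ : Q0 →* Multiplicative (ι → ZMod 2)),
      Function.Surjective ψ → ψ.ker = Subgroup.center Q0 →
      ∀ qg : (ι → ZMod 2) → ZMod 2,
        (∀ g : Q0, g * g = zQ ^ (qg (Multiplicative.toAdd (ψ g))).val) →
        ∃ ρ : Subgroup.centralizer ({z} : Set G) →* Cfsg.isometryGroup (ZMod 2) qg,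
          (∀ (c : Subgroup.centralizer ({z} : Set G)) (x y : Q0), (c : G) * x * (c : G)⁻¹ = y →
            Multiplicative.toAdd (ψ y) =
              ((ρ c : GL ι (ZMod 2)) : Matrix ι ι (ZMod 2)) *ᵥ Multiplicative.toAdd (ψ x)) ∧
          (∀ c, ρ c = 1 ↔ (c : G) ∈ Q0) ∧ Nat.card ρ.range = 174182400 := by
    intro ι _ _ ψ hψ hψk qg hqg
    obtain ⟨ρ, h1, h2⟩ := H73.Suz.exists_action hext hzQ (fun c hc q hq => hnor c hc.eq q hq) hQz
      hself hzc hz1 hzz ψ hψ hψk qg hqg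
    refine ⟨ρ, h1, h2, ?_⟩
    have hk : ρ.ker = Q := by
      ext c
      rw [MonoidHom.mem_ker, h2, hmemQ]
    rw [← card_omega, form_eq, ← Nat.card_congr e.toEquiv,
      Nat.card_congr (QuotientGroup.quotientMulEquivOfEq hk.symm).toEquiv,
      Nat.card_congr (QuotientGroup.quotientKerEquivRange ρ).toEquiv]
  have hmk : ∀ {ι : Type} (L : (Fin 4 ⊕ Fin 4 → ZMod 2) ≃ₗ[ZMod 2] (ι → ZMod 2)),
      ∃ ψ : Q0 →* Multiplicative (ι → ZMod 2), Function.Surjective ψ ∧ ψ.ker = Subgroup.center Q0 ∧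
        ∀ g, Multiplicative.toAdd (ψ g) = L (Multiplicative.toAdd (φ g)) := by
    intro ι L
    refine ⟨(AddMonoidHom.toMultiplicative (L : _ ≃+ _).toAddMonoidHom).comp φ, fun v => ?_, ?_,
      fun g => rfl⟩
    · obtain ⟨g, hg⟩ := hφ (Multiplicative.ofAdd (L.symm (Multiplicative.toAdd v)))
      refine ⟨g, Multiplicative.toAdd.injective ?_⟩
      show L (Multiplicative.toAdd (φ g)) = _
      rw [hg, toAdd_ofAdd, L.apply_symm_apply]
    · rw [← hker]; ext g
      simp only [MonoidHom.mem_ker]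
      rw [← toAdd_eq_zero]
      show L (Multiplicative.toAdd (φ g)) = 0 ↔ _
      rw [L.map_eq_zero_iff, toAdd_eq_zero]
  rcases hpol.plus_or_minus with ⟨L, hL⟩ | ⟨-, L, hL⟩
  swap
  · exfalso
    obtain ⟨ψ, hψs, hψk, hψ⟩ := hmk L
    obtain ⟨ρ, -, -, hcr⟩ := hrange ψ hψs hψk (Cfsg.quadFormMinus (4 - 1) (ZMod 2) 1 1)
      (fun g => by rw [hψ, ← hL]; exact hqf g)
    have hd := Subgroup.card_subgroup_dvd_card ρ.range
    rw [hcr, show Nat.card ↥(Cfsg.isometryGroup (ZMod 2) (Cfsg.quadFormMinus (4 - 1) (ZMod 2) 1 1))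
        = 394813440 by
      rw [H38.card_minus 3 1 1 H73.Suz.form_anisotropic, ZMod.card]; norm_num [Finset.prod_range_succ]] at hd
    norm_num at hd
  obtain ⟨ψ, hψs, hψk, hψ⟩ := hmk L
  have hψq : ∀ g : Q0, g * g = zQ ^ (q8 (Multiplicative.toAdd (ψ g))).val := fun g => by
    rw [hψ, form_eq, ← hL]; exact hqf g
  obtain ⟨ρ, hρ, hρk, hcr⟩ := hrange ψ hψs hψk (⇑q8) hψq
  have hidx : ρ.range.index = 2 := by
    have h := Subgroup.card_mul_index ρ.range
    rw [hcr, card_iso] at h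
    omega
  have hom : Cfsg.Omega (ZMod 2) (⇑q8) = ρ.range := by
    refine Subgroup.eq_of_le_of_card_ge ?_ (by rw [hcr, card_omega])
    show _root_.commutator _ ≤ _
    rw [commutator_def, Subgroup.commutator_le]
    intro a _ b _
    rw [commutatorElement_def, Subgroup.mul_mem_iff_of_index_two hidx,
      Subgroup.mul_mem_iff_of_index_two hidx, Subgroup.mul_mem_iff_of_index_two hidx,
      inv_mem_iff, inv_mem_iff]
    tauto
  let π₀ : G → V8 := fun a => if h : a ∈ Q0 then Multiplicative.toAdd (ψ ⟨a, h⟩) else 0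
  let ρ₀ : G → orthGroup q8 := fun c =>
    if h : c ∈ Subgroup.centralizer ({z} : Set G) then toOrth q8 (ρ ⟨c, h⟩) else 1
  have hπ₀ : ∀ a (h : a ∈ Q0), π₀ a = Multiplicative.toAdd (ψ ⟨a, h⟩) := fun a h => dif_pos h
  have hρ₀ : ∀ c (h : c ∈ Subgroup.centralizer ({z} : Set G)), ρ₀ c = toOrth q8 (ρ ⟨c, h⟩) :=
    fun c h => dif_pos h
  have hC : ∀ {c}, Commute c z → c ∈ Subgroup.centralizer ({z} : Set G) := fun h =>
    Subgroup.mem_centralizer_singleton_iff.mpr h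
  have hgen := H43.reflGenerates_of_card (F := ZMod 2) (V := V8) (Or.inr (by simp))
  have P0 : Pt Q0 z π₀ ρ₀ := by
    refine
      { map_mul := fun a ha b hb => ?_, ker := fun a ha h => ?_, surj := fun v => ?_,
        sq := fun a ha => ?_, comm := hQz, norm := fun c hc a ha => hnor c hc.eq a ha,
        act := fun c hc a ha => ?_, faithful := fun c hc h => ?_, even := fun c hc => ?_,
        lift := fun g hg => ?_, mem := hzQ, πp := ?_, pp := hzz, pne := hz1 }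
    · rw [hπ₀ _ (mul_mem ha hb), hπ₀ a ha, hπ₀ b hb, ← toAdd_mul, ← map_mul]; rfl
    · rw [hπ₀ a ha, toAdd_eq_zero] at h
      have h1 : (⟨a, ha⟩ : Q0) ∈ Subgroup.center Q0 := by rw [← hψk, MonoidHom.mem_ker]; exact h
      rw [hzc] at h1
      rcases H93.zpowers_two_cases hzo h1 with h2 | h2
      · exact Or.inl (congrArg Subtype.val h2)
      · exact Or.inr (congrArg Subtype.val h2)
    · obtain ⟨g, hg⟩ := hψs (Multiplicative.ofAdd v)
      exact ⟨g, g.2, by rw [hπ₀ _ g.2, show (⟨(g : G), g.2⟩ : Q0) = g from rfl, hg, toAdd_ofAdd]⟩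
    · rw [hπ₀ a ha]
      exact congrArg Subtype.val (hψq ⟨a, ha⟩)
    · rw [hπ₀ _ (hnor c hc.eq a ha), hπ₀ a ha, hρ₀ c (hC hc), toOrth_apply]
      exact hρ ⟨c, hC hc⟩ ⟨a, ha⟩ ⟨_, hnor c hc.eq a ha⟩ rfl
    · rw [hρ₀ c (hC hc)] at h
      exact (hρk ⟨c, hC hc⟩).mp ((toOrth q8).injective (h.trans (map_one _).symm))
    · rw [hρ₀ c (hC hc), ← H45.mem_commutator_iff_dickson nd8 hgen (by simp) CharTwo.two_eq_zero,
        ← H43.mem_Omega_iff, hom]
      exact ⟨_, rfl⟩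
    · have h1 : (toOrth q8).symm g ∈ ρ.range := by
        rw [← hom, H43.mem_Omega_iff, MulEquiv.apply_symm_apply,
          H45.mem_commutator_iff_dickson nd8 hgen (by simp) CharTwo.two_eq_zero]
        exact hg
      obtain ⟨c, hc⟩ := h1
      exact ⟨c, Subgroup.mem_centralizer_singleton_iff.mp c.2,
        by rw [hρ₀ _ c.2]; exact ((toOrth q8).eq_symm_apply).mp hc⟩
    · rw [hπ₀ z hzQ, toAdd_eq_zero, ← MonoidHom.mem_ker, hψk, hzc]
      exact Subgroup.mem_zpowers _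
  have L : LXFam (lxQ Q0 z) z := H69.lxFam hpre hcen hz
  have hself' : lxQ Q0 z z = Q0 := by
    have := H69.lxQ_self hpre hcen 1
    simp only [one_mul, inv_one, mul_one, map_one] at this
    rw [this]
    exact Q0.map_id
  have P1 : Pt (lxQ Q0 z z) z π₀ ρ₀ := by rw [hself']; exact P0
  refine ⟨lxQ Q0 z, L, ?_, ?_⟩
  · rintro p ⟨g, rfl⟩
    exact ⟨_, _, pt_conj L P1 g⟩
  · obtain ⟨g, ⟨hq, hgQ⟩, hne⟩ := hnwc
    refine ⟨g * z * g⁻¹, ?_, ⟨g, rfl⟩, hne⟩
    rw [hself']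
    exact ⟨_, hgQ, rfl⟩

end H79.Co1T
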