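import Cfsg.Agent.H79.Co1T.Plane

/-!
Finite checks in the standard hyperbolic space and their transports.
-/

set_option autoImplicit false
set_option linter.unusedSectionVars false

namespace H79.Co1T

open H43

/-- The polar form in coordinates. -/
def bs (v w : V8) : ZMod 2 := ∑ i : Fin 4, (v (.inl i) * w (.inr i) + v (.inr i) * w (.inl i))

/-- The form in coordinates. -/
abbrev qs (v : V8) : ZMod 2 := Cfsg.quadFormPlus 4 (ZMod 2) v

theorem B8_eq (v w : V8) : B8 v w = bs v w := polB_qPlus 4 (ZMod 2) v w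

theorem q8_eq (v : V8) : q8 v = qs v := by rw [q8, coe_qPlus]

/-- Standard vectors. -/
def eI (i : Fin 4) : V8 := Pi.single (.inl i) 1

/-- Standard vectors. -/
def fI (i : Fin 4) : V8 := Pi.single (.inr i) 1

/-- The standard anisotropic plane. -/
def a1 : V8 := eI 1 + fI 1

/-- The standard anisotropic plane. -/
def b1 : V8 := fI 1 + eI 2 + fI 2

/-- The five points. -/
def Five (w : V8) : Prop :=
  qs w = 0 ∧ w ≠ 0 ∧ bs w (eI 0) = 0 ∧ bs w (fI 0) = 0 ∧ bs w a1 = 0 ∧ bs w b1 = 0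

instance : DecidablePred Five := fun w => by unfold Five; infer_instance

theorem five_card : (Finset.univ.filter Five).card = 5 := by decide +kernel

theorem five_perp : ∀ x : V8, bs x (eI 0) = 0 → bs x (fI 0) = 0 → bs x a1 = 0 → bs x b1 = 0 →
    (∀ f ∈ Finset.univ.filter Five, bs x f = 0) → x = 0 := by decide +kernel

theorem std_hyp : Hyp (eI 0) (fI 0) :=
  ⟨by rw [q8_eq]; decide, by rw [q8_eq]; decide, by rw [B8_eq]; decide⟩

variable {c x' : V8}

theorem ind_of_B {a b : V8} (h : B8 a b = 1) : Ind a b :=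
  ⟨fun e => by simp [e] at h, fun e => by simp [e] at h, fun e => by
    rw [e, B_self] at h; exact zero_ne_one h⟩

theorem InW.mono {c x' w : V8} (h : InW c x' w) : B8 c w = 0 ∧ B8 x' w = 0 :=
  ⟨by rw [polB_comm]; exact h.1, by rw [polB_comm]; exact h.2⟩

theorem Hyp.to_std (H : Hyp c x') {a b a' b' : V8} (ha : InW c x' a) (hb : InW c x' b) (h : Ind a b)
    (ha' : InW (eI 0) (fI 0) a') (hb' : InW (eI 0) (fI 0) b') (h' : Ind a' b')
    (qa : q8 a' = q8 a) (qb : q8 b' = q8 b) (hB : B8 a' b' = B8 a b) :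
    ∃ g : orthGroup q8, g.1 (eI 0) = c ∧ g.1 (fI 0) = x' ∧ g.1 a' = a ∧ g.1 b' = b := by
  obtain ⟨g, hgi⟩ := witt_family nd8 ![eI 0, fI 0, a', b'] ![c, x', a, b]
    (std_hyp.li4 ha' hb' h') (H.li4 ha hb h)
    (by intro i; fin_cases i <;> simp [H.qc, H.qx, std_hyp.qc, std_hyp.qx, qa, qb])
    (by
      intro i j
      fin_cases i <;> fin_cases j <;>
        simp [B_self, H.cx, H.xc, std_hyp.cx, std_hyp.xc, ha.1, ha.2, hb.1, hb.2, ha.mono.1,
          ha.mono.2, hb.mono.1, hb.mono.2, ha'.1, ha'.2, hb'.1, hb'.2, ha'.mono.1, ha'.mono.2,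
          hb'.mono.1, hb'.mono.2, hB, polB_comm b a, polB_comm b' a'])
  exact ⟨g, hgi 0, hgi 1, hgi 2, hgi 3⟩

theorem std_inW {w : V8} (h1 : bs w (eI 0) = 0) (h2 : bs w (fI 0) = 0) : InW (eI 0) (fI 0) w :=
  ⟨by rw [B8_eq]; exact h1, by rw [B8_eq]; exact h2⟩

/-- The singular points orthogonal to an anisotropic plane. -/
def Pts (c x' w₁ w₂ w : V8) : Prop :=
  InW c x' w ∧ q8 w = 0 ∧ w ≠ 0 ∧ B8 w w₁ = 0 ∧ B8 w w₂ = 0

theorem Hyp.five (H : Hyp c x') {w₁ w₂ : V8} (h₁ : InW c x' w₁) (h₂ : InW c x' w₂)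
    (q1 : q8 w₁ = 1) (q2 : q8 w₂ = 1) (hB : B8 w₁ w₂ = 1) :
    Nat.card {w // Pts c x' w₁ w₂ w} = 5 ∧
      ∀ x, InW c x' x → B8 x w₁ = 0 → B8 x w₂ = 0 →
        (∀ f, Pts c x' w₁ w₂ f → B8 x f = 0) → x = 0 := by
  classical
  obtain ⟨g, g0, g1, g2, g3⟩ := H.to_std h₁ h₂ (ind_of_B hB) (a' := a1) (b' := b1)
    (std_inW (by decide) (by decide)) (std_inW (by decide) (by decide))
    (ind_of_B (by rw [B8_eq]; decide)) (by rw [q1, q8_eq]; decide) (by rw [q2, q8_eq]; decide)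
    (by rw [hB, B8_eq]; decide)
  have key : ∀ w, Pts c x' w₁ w₂ (g.1 w) ↔ Five w := by
    intro w
    simp only [Pts, Five, InW, ← g0, ← g1, ← g2, ← g3, B8, orth_polB_map, orth_qmap,
      LinearEquiv.map_ne_zero_iff]
    rw [← q8_eq, ← B8_eq, ← B8_eq, ← B8_eq, ← B8_eq]
    simp only [B8]
    tauto
  constructor
  · rw [← Nat.card_congr (Equiv.subtypeEquiv g.1.toEquiv (p := Five) fun w => (key w).symm),
      Nat.card_eq_fintype_card, Fintype.card_subtype]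
    exact five_card
  · intro x hx hx1 hx2 hall
    have e : x = g.1 (g.1.symm x) := (g.1.apply_symm_apply x).symm
    have tr : ∀ v, B8 x (g.1 v) = bs (g.1.symm x) v := fun v => by
      conv_lhs => rw [e]
      rw [← B8_eq]
      exact orth_polB_map g _ _
    have := five_perp (g.1.symm x) (by rw [← tr, g0]; exact hx.1) (by rw [← tr, g1]; exact hx.2)
      (by rw [← tr, g2]; exact hx1) (by rw [← tr, g3]; exact hx2) (fun f hf => by
        rw [← tr]; exact hall _ ((key f).mpr (Finset.mem_filter.mp hf).2))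
    rw [e, this, map_zero]

/-- A frame of the complement of a pair extending a totally singular plane. -/
theorem Hyp.extend (H : Hyp c x') {s₁ s₂ : V8} (h₁ : InW c x' s₁) (h₂ : InW c x' s₂) (hi : Ind s₁ s₂)
    (q1 : q8 s₁ = 0) (q2 : q8 s₂ = 0) (hB : B8 s₁ s₂ = 0) :
    ∃ d₁ d₂ e f, InW c x' d₁ ∧ InW c x' d₂ ∧ InC c x' s₁ s₂ e ∧ InC c x' s₁ s₂ f ∧
      B8 d₁ s₁ = 1 ∧ B8 d₁ s₂ = 0 ∧ B8 d₁ e = 0 ∧ B8 d₁ f = 0 ∧
      B8 d₂ s₁ = 0 ∧ B8 d₂ s₂ = 1 ∧ B8 d₂ e = 0 ∧ B8 d₂ f = 0 ∧ B8 e f = 1 ∧ q8 e = 0 := by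
  obtain ⟨g, g0, g1, g2, g3⟩ := H.to_std h₁ h₂ hi (a' := eI 1) (b' := eI 2)
    (std_inW (by decide) (by decide)) (std_inW (by decide) (by decide))
    ⟨by decide, by decide, by decide⟩ (by rw [q1, q8_eq]; decide) (by rw [q2, q8_eq]; decide)
    (by rw [hB, B8_eq]; decide)
  refine ⟨g.1 (fI 1), g.1 (fI 2), g.1 (eI 3), g.1 (fI 3), ?_⟩
  simp only [InC, InW, ← g0, ← g1, ← g2, ← g3, B8, orth_polB_map, orth_qmap]
  simp only [show ∀ v w, polB q8 v w = bs v w from B8_eq, q8_eq]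
  decide

theorem Hyp.combos (H : Hyp c x') {s₁ s₂ a b : V8} (h₁ : InW c x' s₁) (h₂ : InW c x' s₂)
    (hi : Ind s₁ s₂) (q1 : q8 s₁ = 0) (q2 : q8 s₂ = 0) (hB : B8 s₁ s₂ = 0)
    (ha : InC c x' s₁ s₂ a) (hb : InC c x' s₁ s₂ b) (hal : ¬ InL s₁ s₂ a) (hbl : ¬ InL s₁ s₂ b)
    (habl : ¬ InL s₁ s₂ (a + b)) :
    B8 a b = 1 ∧ ∀ x, InC c x' s₁ s₂ x → ∃ (l : V8) (i j : ZMod 2), InL s₁ s₂ l ∧ x = l + i • a + j • b := by
  classical
  have hL : ∀ i j : ZMod 2, InL s₁ s₂ (i • s₁ + j • s₂) := by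
    intro i j
    rcases z2c i with rfl | rfl <;> rcases z2c j with rfl | rfl <;> simp [InL]
  have hcl : ∀ f : Fin 4 → ZMod 2, InC c x' s₁ s₂ (f 0 • s₁ + f 1 • s₂ + f 2 • a + f 3 • b) := by
    intro f
    refine ⟨(((h₁.smul _).add (h₂.smul _)).add (ha.1.smul _)).add (hb.1.smul _), ?_, ?_⟩
    · simp [B_self, ha.2.1, hb.2.1, polB_comm s₂ s₁, hB]
    · simp [B_self, ha.2.2, hb.2.2, hB]
  let m : (Fin 4 → ZMod 2) → {w // InC c x' s₁ s₂ w} := fun f => ⟨_, hcl f⟩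
  have hinj : Function.Injective m := by
    intro f f' h
    have h' := congrArg Subtype.val h
    simp only [m] at h'
    have e : (f 0 + f' 0) • s₁ + (f 1 + f' 1) • s₂ + ((f 2 + f' 2) • a + (f 3 + f' 3) • b) = 0 := by
      calc _ = (f 0 • s₁ + f 1 • s₂ + f 2 • a + f 3 • b) + (f' 0 • s₁ + f' 1 • s₂ + f' 2 • a + f' 3 • b) := by
            simp only [add_smul]; abel
        _ = 0 := by rw [h', vadd_self]
    have hm := hL (f 0 + f' 0) (f 1 + f' 1)
    rw [eq_of_vadd_eq_zero e] at hm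
    have k : f 2 + f' 2 = 0 ∧ f 3 + f' 3 = 0 := by
      rcases z2c (f 2 + f' 2) with x | x <;> rcases z2c (f 3 + f' 3) with y | y <;> rw [x, y] at hm ⊢ <;>
        simp at hm
      · exact ⟨rfl, rfl⟩
      · exact absurd hm hbl
      · exact absurd hm hal
      · exact absurd hm habl
    rw [k.1, k.2] at e
    have k' : f 0 + f' 0 = 0 ∧ f 1 + f' 1 = 0 := by
      rcases z2c (f 0 + f' 0) with x | x <;> rcases z2c (f 1 + f' 1) with y | y <;> rw [x, y] at e ⊢ <;>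
        simp at e
      · exact ⟨rfl, rfl⟩
      · exact absurd e hi.2.1
      · exact absurd e hi.1
      · exact absurd (eq_of_vadd_eq_zero e) hi.2.2
    have key : ∀ p r : ZMod 2, p + r = 0 → p = r := by decide
    funext i
    fin_cases i
    exacts [key _ _ k'.1, key _ _ k'.2, key _ _ k.1, key _ _ k.2]
  have hbij : Function.Bijective m := by
    refine (Nat.bijective_iff_injective_and_card m).mpr ⟨hinj, ?_⟩
    rw [H.card_C h₁ h₂ hi]
    simp
  have hsurj : ∀ x, InC c x' s₁ s₂ x → ∃ (l : V8) (i j : ZMod 2), InL s₁ s₂ l ∧ x = l + i • a + j • b := by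
    intro x hx
    obtain ⟨f, hf⟩ := hbij.2 ⟨x, hx⟩
    exact ⟨_, f 2, f 3, hL (f 0) (f 1), (congrArg Subtype.val hf).symm⟩
  refine ⟨(z2c _).resolve_left fun h0 => hal (H.perp_C h₁ h₂ ha.1 fun x hx => ?_), hsurj⟩
  obtain ⟨l, i, j, hl, rfl⟩ := hsurj x hx
  have hal' : B8 a l = 0 := by rcases hl with rfl | rfl | rfl | rfl <;> simp [ha.2.1, ha.2.2]
  simp [hal', B_self, h0]

/-- The two-group fixing a totally singular plane vector-wise. -/
theorem Hyp.exists_unip (H : Hyp c x') {s₁ s₂ : V8} (h₁ : InW c x' s₁) (h₂ : InW c x' s₂)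
    (hi : Ind s₁ s₂) (q1 : q8 s₁ = 0) (q2 : q8 s₂ = 0) (hB : B8 s₁ s₂ = 0) :
    ∃ S : Subgroup (orthGroup q8), Nat.card S = 32 ∧
      (∀ g ∈ S, g.1 c = c ∧ g.1 x' = x' ∧ g.1 s₁ = s₁ ∧ g.1 s₂ = s₂) ∧
      ∀ K : Subgroup (orthGroup q8), (∀ s v, (s = s₁ ∨ s = s₂) → B8 s v = 0 →
        eichler q8 s v ∈ K) → S ≤ K := by
  obtain ⟨d₁, d₂, e, f, hd₁, hd₂, he, hf, a11, a12, a1e, a1f, a21, a22, a2e, a2f, hef, qe⟩ :=
    H.extend h₁ h₂ hi q1 q2 hB
  have hfe : polB q8 f e = 1 := by rw [polB_comm]; exact hef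
  let v1 : (Fin 3 → ZMod 2) → V8 := fun k => k 0 • s₂ + k 1 • e + k 2 • f
  let v2 : (Fin 2 → ZMod 2) → V8 := fun k => k 0 • e + k 1 • f
  have hv1 : ∀ k, InW c x' (v1 k) ∧ B8 s₁ (v1 k) = 0 ∧ B8 s₂ (v1 k) = 0 := fun k => by
    refine ⟨((h₂.smul _).add (he.1.smul _)).add (hf.1.smul _), ?_, ?_⟩ <;>
      simp [v1, B_self, hB, polB_comm s₁ e, polB_comm s₁ f, polB_comm s₂ e, polB_comm s₂ f, he.2.1,
        hf.2.1, he.2.2, hf.2.2]
  have hv2 : ∀ k, InW c x' (v2 k) ∧ B8 s₂ (v2 k) = 0 ∧ B8 s₁ (v2 k) = 0 := fun k => by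
    refine ⟨(he.1.smul _).add (hf.1.smul _), ?_, ?_⟩ <;>
      simp [v2, polB_comm s₁ e, polB_comm s₁ f, polB_comm s₂ e, polB_comm s₂ f, he.2.1,
        hf.2.1, he.2.2, hf.2.2]
  let φ1 : Multiplicative (Fin 3 → ZMod 2) →* orthGroup q8 := MonoidHom.mk'
    (fun k => eichler q8 s₁ (v1 (Multiplicative.toAdd k))) (fun k k' => by
      rw [eichler_mul q1 (hv1 _).2.1 (hv1 _).2.1]
      congr 1
      simp only [v1, toAdd_mul, Pi.add_apply, add_smul]
      abel)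
  let φ2 : Multiplicative (Fin 2 → ZMod 2) →* orthGroup q8 := MonoidHom.mk'
    (fun k => eichler q8 s₂ (v2 (Multiplicative.toAdd k))) (fun k k' => by
      rw [eichler_mul q2 (hv2 _).2.1 (hv2 _).2.1]
      congr 1
      simp only [v2, toAdd_mul, Pi.add_apply, add_smul]
      abel)
  have hφ1 : ∀ k, φ1 k = eichler q8 s₁ (v1 (Multiplicative.toAdd k)) := fun k => rfl
  have hφ2 : ∀ k, φ2 k = eichler q8 s₂ (v2 (Multiplicative.toAdd k)) := fun k => rfl
  have at1 : ∀ k, (eichler q8 s₁ (v1 k)).1 d₁ = d₁ + v1 k + q8 (v1 k) • s₁ := fun k => by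
    have : polB q8 d₁ (v1 k) = 0 := by simp [v1, a12, a1e, a1f]
    rw [eichler2 q1 (hv1 k).2.1, show polB q8 d₁ s₁ = 1 from a11, this, one_smul, zero_smul,
      add_zero, mul_one]
  have at2 : ∀ k, (eichler q8 s₂ (v2 k)).1 d₂ = d₂ + v2 k + q8 (v2 k) • s₂ := fun k => by
    have : polB q8 d₂ (v2 k) = 0 := by simp [v2, a2e, a2f]
    rw [eichler2 q2 (hv2 k).2.1, show polB q8 d₂ s₂ = 1 from a22, this, one_smul, zero_smul,
      add_zero, mul_one]
  have coord1 : ∀ (k : Fin 3 → ZMod 2) (a : ZMod 2),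
      B8 (v1 k + a • s₁) d₂ = k 0 ∧ B8 (v1 k + a • s₁) f = k 1 ∧ B8 (v1 k + a • s₁) e = k 2 := by
    intro k a
    simp [v1, polB_comm s₂ d₂, a22, polB_comm e d₂, a2e, polB_comm f d₂, a2f, polB_comm s₁ d₂, a21,
      he.2.1, hf.2.1, he.2.2, hf.2.2, hef, hfe, B_self, polB_comm s₁ e, polB_comm s₁ f,
      polB_comm s₂ e, polB_comm s₂ f]
  have inj1 : Function.Injective φ1 := fun k k' h => by
    rw [hφ1, hφ1] at h
    have h' := congrArg (fun g : orthGroup q8 => g.1 d₁) h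
    simp only [at1, add_assoc, add_right_inj] at h'
    apply Multiplicative.toAdd.injective
    obtain ⟨p0, p1, p2⟩ := coord1 (Multiplicative.toAdd k) (q8 (v1 (Multiplicative.toAdd k)))
    obtain ⟨r0, r1, r2⟩ := coord1 (Multiplicative.toAdd k') (q8 (v1 (Multiplicative.toAdd k')))
    rw [h'] at p0 p1 p2
    funext i
    fin_cases i
    exacts [p0.symm.trans r0, p1.symm.trans r1, p2.symm.trans r2]
  have inj2 : Function.Injective φ2 := fun k k' h => by
    rw [hφ2, hφ2] at h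
    have h' := congrArg (fun g : orthGroup q8 => g.1 d₂) h
    simp only [at2, add_assoc, add_right_inj] at h'
    apply Multiplicative.toAdd.injective
    have cd : ∀ (k : Fin 2 → ZMod 2) (a : ZMod 2),
        B8 (v2 k + a • s₂) f = k 0 ∧ B8 (v2 k + a • s₂) e = k 1 := fun k a => by
      simp [v2, hef, hfe, B_self, polB_comm s₂ e, polB_comm s₂ f, he.2.2, hf.2.2]
    obtain ⟨p0, p1⟩ := cd (Multiplicative.toAdd k) (q8 (v2 (Multiplicative.toAdd k)))
    obtain ⟨r0, r1⟩ := cd (Multiplicative.toAdd k') (q8 (v2 (Multiplicative.toAdd k')))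
    rw [h'] at p0 p1
    funext i
    fin_cases i
    exacts [p0.symm.trans r0, p1.symm.trans r1]
  have disj : Disjoint φ1.range φ2.range := by
    rw [Subgroup.disjoint_def]
    rintro _ ⟨k, rfl⟩ ⟨k', hk⟩
    rw [hφ1, hφ2] at hk
    have h' := congrArg (fun g : orthGroup q8 => g.1 d₁) hk
    have z1 : polB q8 d₁ (v2 (Multiplicative.toAdd k')) = 0 := by simp [v2, a1e, a1f]
    simp only [at1] at h'
    rw [eichler2 q2 (hv2 _).2.1, show polB q8 d₁ s₂ = 0 from a12, z1, zero_smul, zero_smul, mul_zero,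
      zero_smul, add_zero, add_zero, add_zero, add_assoc] at h'
    have h0 : v1 (Multiplicative.toAdd k) + q8 (v1 (Multiplicative.toAdd k)) • s₁ = 0 :=
      add_eq_left.mp h'.symm
    obtain ⟨p0, p1, p2⟩ := coord1 (Multiplicative.toAdd k) (q8 (v1 (Multiplicative.toAdd k)))
    rw [h0] at p0 p1 p2
    simp only [map_zero, LinearMap.zero_apply] at p0 p1 p2
    have : Multiplicative.toAdd k = 0 := by
      funext i
      fin_cases i
      exacts [p0.symm, p1.symm, p2.symm]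
    rw [toAdd_eq_zero] at this
    rw [this, map_one]
  have conj : ∀ k k', φ2 k' * φ1 k * (φ2 k')⁻¹ ∈ φ1.range := by
    intro k k'
    rw [hφ1, hφ2, eichler_conj _ q1 (hv1 _).2.1]
    set v := v1 (Multiplicative.toAdd k)
    set v' := v2 (Multiplicative.toAdd k')
    have e1 : (eichler q8 s₂ v').1 s₁ = s₁ :=
      eichler_fix q2 (hv2 _).2.1 (by simpa using hB) (hv2 _).2.2
    have e2 : (eichler q8 s₂ v').1 v = v + polB q8 v v' • s₂ := by
      rw [eichler2 q2 (hv2 _).2.1, show polB q8 v s₂ = 0 by rw [polB_comm]; exact (hv1 _).2.2,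
        mul_zero, zero_smul, zero_smul, add_zero, add_zero]
    rw [e1, e2]
    refine ⟨k * Multiplicative.ofAdd (Pi.single 0 (polB q8 v v')), ?_⟩
    rw [hφ1]
    have hadd : ∀ (k : Fin 3 → ZMod 2) (a : ZMod 2), v1 (k + Pi.single 0 a) = v1 k + a • s₂ := fun k a => by
      simp [v1, add_smul]
      abel
    rw [toAdd_mul, toAdd_ofAdd, hadd]
  have hn : φ2.range ≤ Subgroup.normalizer (φ1.range : Set (orthGroup q8)) := by
    rintro _ ⟨k', rfl⟩
    rw [Subgroup.mem_normalizer_iff]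
    intro g
    refine ⟨fun hg => ?_, fun hg => ?_⟩
    · obtain ⟨k, rfl⟩ := hg
      exact conj k k'
    · obtain ⟨k, hk⟩ := hg
      have := conj k k'⁻¹
      rw [hk, map_inv] at this
      simpa [mul_assoc] using this
  have hcard : Nat.card ↥(φ1.range ⊔ φ2.range) = 32 := by
    have hb : Function.Bijective (fun p : φ1.range × φ2.range =>
        (⟨(p.1 : orthGroup q8) * p.2, Subgroup.mul_mem_sup p.1.2 p.2.2⟩ : ↥(φ1.range ⊔ φ2.range))) := by
      refine ⟨fun a b h => Subgroup.mul_injective_of_disjoint disj (congrArg Subtype.val h), ?_⟩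
      rintro ⟨g, hg⟩
      have hg' : g ∈ ((φ1.range ⊔ φ2.range : Subgroup _) : Set (orthGroup q8)) := hg
      rw [Subgroup.coe_mul_of_right_le_normalizer_left _ _ hn] at hg'
      obtain ⟨a, ha, b, hb, rfl⟩ := hg'
      exact ⟨(⟨a, ha⟩, ⟨b, hb⟩), rfl⟩
    rw [← Nat.card_congr (Equiv.ofBijective _ hb), Nat.card_prod,
      ← Nat.card_congr (MonoidHom.ofInjective inj1).toEquiv,
      ← Nat.card_congr (MonoidHom.ofInjective inj2).toEquiv]
    simp
  let K₀ : Subgroup (orthGroup q8) :=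
    { carrier := {g | g.1 c = c ∧ g.1 x' = x' ∧ g.1 s₁ = s₁ ∧ g.1 s₂ = s₂}
      one_mem' := ⟨rfl, rfl, rfl, rfl⟩
      mul_mem' := fun {a b} ha hb => by
        simp only [Set.mem_ofPred_eq, orth_mul_apply] at ha hb ⊢
        simp [ha, hb]
      inv_mem' := fun {a} ha => by
        simp only [Set.mem_ofPred_eq] at ha ⊢
        refine ⟨?_, ?_, ?_, ?_⟩
        · conv_lhs => rw [← ha.1, orth_inv_apply_self]
        · conv_lhs => rw [← ha.2.1, orth_inv_apply_self]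
        · conv_lhs => rw [← ha.2.2.1, orth_inv_apply_self]
        · conv_lhs => rw [← ha.2.2.2, orth_inv_apply_self] }
  refine ⟨φ1.range ⊔ φ2.range, hcard, fun g hg => ?_, fun K hK => ?_⟩
  · have hle : φ1.range ⊔ φ2.range ≤ K₀ := by
      refine sup_le ?_ ?_
      · rintro _ ⟨k, rfl⟩
        rw [hφ1]
        obtain ⟨hw, hs1, hs2⟩ := hv1 (Multiplicative.toAdd k)
        exact ⟨eichler_fix q1 hs1 h₁.mono.1 hw.mono.1, eichler_fix q1 hs1 h₁.mono.2 hw.mono.2,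
          eichler_fix q1 hs1 (B_self _) hs1,
          eichler_fix q1 hs1 (by rw [polB_comm]; exact hB) hs2⟩
      · rintro _ ⟨k, rfl⟩
        rw [hφ2]
        obtain ⟨hw, hs2, hs1⟩ := hv2 (Multiplicative.toAdd k)
        exact ⟨eichler_fix q2 hs2 h₂.mono.1 hw.mono.1, eichler_fix q2 hs2 h₂.mono.2 hw.mono.2,
          eichler_fix q2 hs2 hB hs1, eichler_fix q2 hs2 (B_self _) hs2⟩
    exact hle hg
  · refine sup_le ?_ ?_
    · rintro _ ⟨k, rfl⟩
      exact hK _ _ (Or.inl rfl) (hv1 _).2.1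
    · rintro _ ⟨k, rfl⟩
      exact hK _ _ (Or.inr rfl) (hv2 _).2.1

end H79.Co1T
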