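import Cfsg.Agent.H79.Co1T.Setting
import Cfsg.Agent.H79.Co1T.Model
import Cfsg.Agent.H69.PairX

/-!
Groups of Conway type: a frame of two orthogonal conjugates of the central involution.
-/

set_option autoImplicit false
set_option linter.unusedSectionVars false

namespace H79.Co1T

open H43
open H69 (LXFam)
open H69.LXFam (Sing)
open H69.Pair (half mem_half)

variable {G : Type*} [Group G] [Finite G]

theorem Pt.exists_trans {Fp : Subgroup G} {p : G} {π : G → V8} {ρ : G → orthGroup q8}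
    (P : Pt Fp p π ρ) {a b : G} (ha : a ∈ Fp) (hb : b ∈ Fp) (qa : q8 (π a) = 0) (qb : q8 (π b) = 0)
    (na : π a ≠ 0) (nb : π b ≠ 0) : ∃ c, Commute c p ∧ c * a * c⁻¹ = b := by
  obtain ⟨x1, H1⟩ := exists_hyp qa na
  obtain ⟨x2, H2⟩ := exists_hyp qb nb
  obtain ⟨g, hg, hgu, -⟩ := witt2 H1 H2
  obtain ⟨c, hc, hcg⟩ := P.lift g hg
  have hm := P.norm c hc a ha
  have hπ : π (c * a * c⁻¹) = π b := by rw [P.act c hc a ha, hcg, hgu]
  rcases P.eq_cases hm hb hπ with e | e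
  · exact ⟨c, hc, e.symm⟩
  · obtain ⟨m, hm', hmv⟩ := P.surj x2
    refine ⟨m * c, (P.comm m hm').mul_left hc, ?_⟩
    rw [show m * c * a * (m * c)⁻¹ = m * (c * a * c⁻¹) * m⁻¹ by group, P.commutator hm' hm, hmv, hπ,
      show B8 x2 (π b) = 1 from H2.xc, bp_one, e, (P.comm _ hm).eq]

theorem Pt.sing_coord {Fp : Subgroup G} {p : G} {π : G → V8} {ρ : G → orthGroup q8}
    (P : Pt Fp p π ρ) {a : G} (ha : a ∈ Fp) (h2 : a * a = 1) (h1 : a ≠ 1) (hp : a ≠ p) :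
    q8 (π a) = 0 ∧ π a ≠ 0 := by
  refine ⟨bp_inj P.pne ?_, fun h => ?_⟩
  · rw [bp_zero, ← h2, P.sq a ha]; rfl
  · rcases P.ker a ha h with e | e
    exacts [h1 e, hp e]

/-- A frame. -/
structure Frame (F : G → Subgroup G) (z p u : G) (π : G → V8) (ρ : G → orthGroup q8) (x' : V8) :
    Prop where
  W : World F z
  P : Pt (F p) p π ρ
  sp : Sing z p
  hu : u ∈ F p
  su : Sing z u
  ne : u ≠ p
  hx : q8 x' = 0
  hxu : B8 (π u) x' = 1

theorem exists_frame {F : G → Subgroup G} {z p u : G} (W : World F z) (sp : Sing z p) (hu : u ∈ F p)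
    (su : Sing z u) (ne : u ≠ p) : ∃ π ρ x', Frame F z p u π ρ x' := by
  obtain ⟨π, ρ, P⟩ := W.pt p sp
  obtain ⟨hq, h0⟩ := P.sing_coord hu (W.L.sq_one su) (W.L.ne_one su) ne
  obtain ⟨x', H⟩ := exists_hyp hq h0
  exact ⟨π, ρ, x', W, P, sp, hu, su, ne, H.qx, H.cx⟩

namespace Frame

variable {F : G → Subgroup G} {z p u : G} {π : G → V8} {ρ : G → orthGroup q8} {x' : V8}

/-- The coordinate on the first half. -/
noncomputable def α (_ : Frame F z p u π ρ x') (a : G) : V8 := proj (π u) x' (π a)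

/-- The coordinate on the second half. -/
noncomputable def β (_ : Frame F z p u π ρ x') (b : G) : V8 := proj (π u) x' ((ρ b).1 x' + x')

theorem uu (Fr : Frame F z p u π ρ x') : u * u = 1 := Fr.W.L.sq_one Fr.su

theorem upne (Fr : Frame F z p u π ρ x') : u ≠ 1 := Fr.W.L.ne_one Fr.su

theorem H (Fr : Frame F z p u π ρ x') : Hyp (π u) x' :=
  ⟨(Fr.P.sing_coord Fr.hu Fr.uu Fr.upne Fr.ne).1, Fr.hx, Fr.hxu⟩

theorem pair (Fr : Frame F z p u π ρ x') : H69.Pair F z p u :=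
  ⟨Fr.W.L, Fr.sp, Fr.su, Fr.hu, Fr.W.L.orth_symm Fr.sp Fr.su Fr.hu, Fr.ne.symm⟩

theorem upc (Fr : Frame F z p u π ρ x') : Commute u p := Fr.P.comm u Fr.hu

theorem memA (Fr : Frame F z p u π ρ x') {a : G} :
    a ∈ half F p u ↔ a ∈ F p ∧ B8 (π a) (π u) = 0 := by
  rw [mem_half]
  exact ⟨fun h => ⟨h.1, (Fr.P.commute_iff h.1 Fr.hu).mp h.2⟩,
    fun h => ⟨h.1, ((Fr.P.commute_iff h.1 Fr.hu).mpr h.2).eq⟩⟩

theorem bcomm (Fr : Frame F z p u π ρ x') {b : G} (hb : b ∈ half F u p) :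
    Commute b p ∧ Commute b u := ⟨(mem_half.mp hb).2, Fr.W.L.commute_of_mem (mem_half.mp hb).1⟩

theorem acomm (Fr : Frame F z p u π ρ x') {a : G} (ha : a ∈ half F p u) :
    Commute a p ∧ Commute a u := ⟨Fr.P.comm a (mem_half.mp ha).1, (mem_half.mp ha).2⟩

theorem fix_u (Fr : Frame F z p u π ρ x') {c : G} (hcp : Commute c p) (hcu : Commute c u) :
    (ρ c).1 (π u) = π u := by
  rw [← Fr.P.act c hcp u Fr.hu, hcu.eq, mul_inv_cancel_right]

/-- Products of the two generators. -/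
def ep (p u : G) (i j : ZMod 2) : G := bp p i * bp u j

theorem ep_mem (Fr : Frame F z p u π ρ x') (i j : ZMod 2) : ep p u i j ∈ F p ⊓ F u :=
  mul_mem (bp_mem Fr.pair.u_mem_inf _) (bp_mem Fr.pair.v_mem_inf _)

theorem π_ep (Fr : Frame F z p u π ρ x') (i j : ZMod 2) : π (ep p u i j) = j • π u := by
  rw [ep, Fr.P.map_mul _ (bp_mem Fr.P.mem _) _ (bp_mem Fr.hu _), Fr.P.πbp, zero_add]
  rcases z2c j with rfl | rfl
  · rw [bp_zero, Fr.P.one, zero_smul]
  · rw [bp_one, one_smul]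

theorem ep_comm (Fr : Frame F z p u π ρ x') {x : G} (hp : Commute x p) (hu : Commute x u)
    (i j : ZMod 2) : Commute x (ep p u i j) :=
  (bp_comm hp i).mul_right (bp_comm hu j)

theorem ep_mul (Fr : Frame F z p u π ρ x') (i j i' j' : ZMod 2) :
    ep p u i j * ep p u i' j' = ep p u (i + i') (j + j') := by
  have hc : Commute (bp u j) (bp p i') := bp_comm (bp_comm Fr.upc.symm j).symm i'
  rw [ep, ep, ep, mul_assoc, ← mul_assoc (bp u j), hc.eq, mul_assoc, ← mul_assoc (bp p i),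
    bp_add Fr.P.pp, bp_add Fr.uu]

theorem ep_zero (_ : Frame F z p u π ρ x') : ep p u 0 0 = 1 := by simp [ep, bp_zero]

theorem ep_inv (Fr : Frame F z p u π ρ x') (i j : ZMod 2) : (ep p u i j)⁻¹ = ep p u i j :=
  inv_eq_of_mul_eq_one_right (by
    rw [Fr.ep_mul, ZModModule.add_self, ZModModule.add_self, Fr.ep_zero])

theorem ep_inj (Fr : Frame F z p u π ρ x') {i j i' j' : ZMod 2} (h : ep p u i j = ep p u i' j') :
    i = i' ∧ j = j' := by
  have h1 := congrArg π h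
  rw [Fr.π_ep, Fr.π_ep] at h1
  have hj : j = j' := by
    rcases z2c j with rfl | rfl <;> rcases z2c j' with rfl | rfl <;>
      simp [Fr.H.ne, Fr.H.ne.symm] at h1 ⊢
  subst hj
  exact ⟨bp_inj Fr.P.pne (mul_right_cancel h), rfl⟩

theorem ep_conj (Fr : Frame F z p u π ρ x') {x : G} (hp : Commute x p) (hu : Commute x u)
    (i j : ZMod 2) : x * ep p u i j * x⁻¹ = ep p u i j := by
  rw [(Fr.ep_comm hp hu i j).eq, mul_inv_cancel_right]

/-- Even isometries fixing the image of `u` lift into the centraliser of `p` and `u`. -/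
theorem exists_stab (Fr : Frame F z p u π ρ x') {g : orthGroup q8} (hg : dickson g = 1)
    (hgu : g.1 (π u) = π u) : ∃ d, Commute d p ∧ Commute d u ∧ ρ d = g := by
  obtain ⟨c, hc, hcg⟩ := Fr.P.lift g hg
  have hm := Fr.P.norm c hc u Fr.hu
  have hπ : π (c * u * c⁻¹) = π u := by rw [Fr.P.act c hc u Fr.hu, hcg, hgu]
  rcases Fr.P.eq_cases hm Fr.hu hπ with e | e
  · exact ⟨c, hc, mul_inv_eq_iff_eq_mul.mp e.symm, hcg⟩
  · obtain ⟨m, hm', hmv⟩ := Fr.P.surj x'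
    refine ⟨m * c, (Fr.P.comm m hm').mul_left hc, mul_inv_eq_iff_eq_mul.mp ?_, ?_⟩
    · rw [show m * c * u * (m * c)⁻¹ = m * (c * u * c⁻¹) * m⁻¹ by group, Fr.P.commutator hm' hm, hmv,
        hπ, show B8 x' (π u) = 1 from Fr.H.xc, bp_one]
      conv_rhs => rw [e]
      rw [(Fr.P.comm _ hm).eq]
    · rw [Fr.P.ρ_mul (Fr.P.comm m hm') hc, Fr.P.ρ_mem hm', one_mul, hcg]

/-- The intersection of the two attached subgroups. -/
theorem inf_cases (Fr : Frame F z p u π ρ x') {e : G} (he : e ∈ F p ⊓ F u) :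
    ∃ i j, e = ep p u i j := by
  have hq : q8 (π e) = 0 := bp_inj Fr.P.pne (by
    rw [bp_zero, ← Fr.pair.inf_sq he, Fr.P.sq e he.1]; rfl)
  have heu : B8 (π e) (π u) = 0 := (Fr.memA.mp (Fr.pair.inf_le_half he)).2
  have h0 : proj (π u) x' (π e) = 0 := by
    by_contra hne
    obtain ⟨g, hg, hgu, -, -, -, hB⟩ := Fr.H.stab_move InW.zero (Fr.H.proj_inW (π e)) hne hne
    obtain ⟨d, hdp, hdu, hdg⟩ := Fr.exists_stab hg hgu
    have he' : d * e * d⁻¹ ∈ F p ⊓ F u :=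
      ⟨Fr.W.L.conj_mem he.1 hdp, Fr.W.L.conj_mem he.2 hdu⟩
    have hc : Commute e (d * e * d⁻¹) := Fr.pair.inf_comm he he'
    rw [Fr.P.commute_iff he.1 he'.1, Fr.P.act d hdp e he.1, hdg] at hc
    rw [Fr.H.proj_g hgu heu, Fr.H.B_proj heu (perp_g hgu heu), hc] at hB
    exact zero_ne_one hB
  have key : ∀ j : ZMod 2, π e = j • π u → ∃ i j, e = ep p u i j := by
    intro j hj
    rcases Fr.P.eq_cases (Fr.ep_mem 0 j).1 he.1 (by rw [Fr.π_ep, hj]) with h | h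
    · exact ⟨0, j, h⟩
    · exact ⟨1, j, by
        rw [h, (Fr.P.comm _ (Fr.ep_mem 0 j).1).eq]
        simp [ep, bp_zero, bp_one]⟩
  rcases Fr.H.proj_zero heu h0 with h | h
  · exact key 0 (by rw [h, zero_smul])
  · exact key 1 (by rw [h, one_smul])

theorem α_inW (Fr : Frame F z p u π ρ x') (a : G) : InW (π u) x' (Fr.α a) := Fr.H.proj_inW _

theorem β_inW (Fr : Frame F z p u π ρ x') (b : G) : InW (π u) x' (Fr.β b) := Fr.H.proj_inW _

theorem α_mul (Fr : Frame F z p u π ρ x') {a a' : G} (ha : a ∈ F p) (ha' : a' ∈ F p) :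
    Fr.α (a * a') = Fr.α a + Fr.α a' := by
  simp only [α, Fr.P.map_mul a ha a' ha', map_add]

theorem α_ep (Fr : Frame F z p u π ρ x') (i j : ZMod 2) : Fr.α (ep p u i j) = 0 := by
  rw [α, Fr.π_ep, map_smul, Fr.H.proj_c, smul_zero]

theorem q_α (Fr : Frame F z p u π ρ x') {a : G} (ha : a ∈ half F p u) :
    q8 (Fr.α a) = q8 (π a) := Fr.H.q_proj (Fr.memA.mp ha).2

theorem sq_a (Fr : Frame F z p u π ρ x') {a : G} (ha : a ∈ half F p u) :
    a * a = bp p (q8 (Fr.α a)) := by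
  rw [Fr.P.sq a (mem_half.mp ha).1, Fr.q_α ha]; rfl

theorem comm_aa (Fr : Frame F z p u π ρ x') {a a' : G} (ha : a ∈ half F p u) (ha' : a' ∈ half F p u) :
    a * a' * a⁻¹ = bp p (B8 (Fr.α a) (Fr.α a')) * a' := by
  rw [Fr.P.commutator (mem_half.mp ha).1 (mem_half.mp ha').1]
  congr 2
  exact (Fr.H.B_proj (Fr.memA.mp ha).2 (Fr.memA.mp ha').2).symm

theorem α_surj (Fr : Frame F z p u π ρ x') {w : V8} (hw : InW (π u) x' w) :
    ∃ a ∈ half F p u, Fr.α a = w ∧ π a = w := by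
  obtain ⟨a, ha, hπ⟩ := Fr.P.surj w
  exact ⟨a, Fr.memA.mpr ⟨ha, by rw [hπ]; exact hw.1⟩, by rw [α, hπ, hw.proj_eq], hπ⟩

theorem α_ker (Fr : Frame F z p u π ρ x') {a : G} (ha : a ∈ half F p u) (h : Fr.α a = 0) :
    ∃ i j, a = ep p u i j := by
  obtain ⟨haF, hau⟩ := Fr.memA.mp ha
  have key : ∀ j : ZMod 2, π a = j • π u → ∃ i j, a = ep p u i j := by
    intro j hj
    rcases Fr.P.eq_cases (Fr.ep_mem 0 j).1 haF (by rw [Fr.π_ep, hj]) with h' | h'
    · exact ⟨0, j, h'⟩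
    · exact ⟨1, j, by
        rw [h', (Fr.P.comm _ (Fr.ep_mem 0 j).1).eq]
        simp [ep, bp_zero, bp_one]⟩
  rcases Fr.H.proj_zero hau h with e | e
  · exact key 0 (by rw [e, zero_smul])
  · exact key 1 (by rw [e, one_smul])

/-- The second half acts by Eichler transformations. -/
theorem β_spec (Fr : Frame F z p u π ρ x') {b : G} (hb : b ∈ half F u p) :
    ρ b = eichler q8 (π u) (Fr.β b) := by
  obtain ⟨hbp, hbu⟩ := Fr.bcomm hb
  have htriv : ∀ x, polB q8 x (π u) = 0 → (ρ b).1 x = x ∨ (ρ b).1 x = x + π u := by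
    intro x hx
    obtain ⟨a, ha, rfl⟩ := Fr.P.surj x
    have haA : a ∈ half F p u := Fr.memA.mpr ⟨ha, hx⟩
    obtain ⟨i, j, he⟩ := Fr.inf_cases (e := b * a * b⁻¹ * a⁻¹) (by
      have := Fr.pair.symm.comm_mem_inf hb haA
      rw [commutatorElement_def] at this
      exact ⟨this.2, this.1⟩)
    have e1 : π (b * a * b⁻¹) = π (ep p u i j * a) := by rw [← he]; congr 1; group
    rw [Fr.P.act b hbp a ha, Fr.P.map_mul _ (Fr.ep_mem i j).1 a ha, Fr.π_ep] at e1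
    rcases z2c j with rfl | rfl
    · exact Or.inl (by rw [e1, zero_smul, zero_add])
    · exact Or.inr (by rw [e1, one_smul, add_comm])
  obtain ⟨h1, h2⟩ := eq_eichler Fr.H.qc Fr.H.qx Fr.H.xc (ρ b) (Fr.fix_u hbp hbu) htriv
  rw [β, Fr.H.eichler_proj h1]
  exact h2

theorem β_ext (Fr : Frame F z p u π ρ x') {b : G} {w : V8} (hw : InW (π u) x' w)
    (h : ρ b = eichler q8 (π u) w) : Fr.β b = w := by
  rw [β, h, Fr.H.eichler_x hw, map_add, map_add, map_add, Fr.H.proj_x, map_smul, Fr.H.proj_c,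
    smul_zero, hw.proj_eq, zero_add, add_zero, add_zero]

theorem β_mul (Fr : Frame F z p u π ρ x') {b b' : G} (hb : b ∈ half F u p) (hb' : b' ∈ half F u p) :
    Fr.β (b * b') = Fr.β b + Fr.β b' := by
  refine Fr.β_ext ((Fr.β_inW b).add (Fr.β_inW b')) ?_
  rw [Fr.P.ρ_mul (Fr.bcomm hb).1 (Fr.bcomm hb').1, Fr.β_spec hb, Fr.β_spec hb',
    eichler_mul Fr.H.qc (Fr.β_inW b).mono.1 (Fr.β_inW b').mono.1]

theorem β_mem (Fr : Frame F z p u π ρ x') {b : G} (hb : b ∈ F p) : Fr.β b = 0 :=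
  Fr.β_ext InW.zero (by rw [Fr.P.ρ_mem hb, eichler_zero Fr.H.qc])

theorem β_ep (Fr : Frame F z p u π ρ x') (i j : ZMod 2) : Fr.β (ep p u i j) = 0 :=
  Fr.β_mem (Fr.ep_mem i j).1

theorem β_ker (Fr : Frame F z p u π ρ x') {b : G} (hb : b ∈ half F u p) (h : Fr.β b = 0) :
    ∃ i j, b = ep p u i j := by
  refine Fr.inf_cases ⟨Fr.P.faithful b (Fr.bcomm hb).1 ?_, (mem_half.mp hb).1⟩
  rw [Fr.β_spec hb, h, eichler_zero Fr.H.qc]

theorem conj_halfA (Fr : Frame F z p u π ρ x') {d a : G} (hdp : Commute d p) (hdu : Commute d u)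
    (ha : a ∈ half F p u) :
    d * a * d⁻¹ ∈ half F p u ∧ Fr.α (d * a * d⁻¹) = proj (π u) x' ((ρ d).1 (Fr.α a)) := by
  refine ⟨mem_half.mpr ⟨Fr.W.L.conj_mem (mem_half.mp ha).1 hdp,
    (hdu.mul_left (Fr.acomm ha).2).mul_left hdu.inv_left⟩, ?_⟩
  rw [α, α, Fr.H.proj_g (Fr.fix_u hdp hdu) (Fr.memA.mp ha).2, Fr.P.act d hdp a (mem_half.mp ha).1]

theorem conj_halfB (Fr : Frame F z p u π ρ x') {d b : G} (hdp : Commute d p) (hdu : Commute d u)
    (hb : b ∈ half F u p) :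
    d * b * d⁻¹ ∈ half F u p ∧ Fr.β (d * b * d⁻¹) = proj (π u) x' ((ρ d).1 (Fr.β b)) := by
  refine ⟨mem_half.mpr ⟨Fr.W.L.conj_mem (mem_half.mp hb).1 hdu,
    (hdp.mul_left (Fr.bcomm hb).1).mul_left hdp.inv_left⟩, ?_⟩
  refine Fr.β_ext (Fr.H.proj_inW _) ?_
  rw [Fr.P.ρ_mul (hdp.mul_left (Fr.bcomm hb).1) hdp.inv_left, Fr.P.ρ_mul hdp (Fr.bcomm hb).1,
    Fr.P.ρ_inv hdp, Fr.β_spec hb, eichler_conj _ Fr.H.qc (Fr.β_inW b).mono.1,
    Fr.fix_u hdp hdu, Fr.H.eichler_proj]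
  rw [polB_comm]
  exact perp_g (Fr.fix_u hdp hdu) (Fr.β_inW b).1

/-! ### The swap -/

theorem exists_swap (Fr : Frame F z p u π ρ x') : ∃ h : G, h * p * h⁻¹ = u ∧ h * u * h⁻¹ = p := by
  obtain ⟨g₁, hg₁⟩ := Fr.sp
  obtain ⟨g₂, hg₂⟩ := Fr.su
  have hg : g₂ * g₁⁻¹ * p * (g₂ * g₁⁻¹)⁻¹ = u := by rw [← hg₁, ← hg₂]; group
  generalize g₂ * g₁⁻¹ = g at hg
  have hu' : g * u * g⁻¹ ∈ F u := by
    have := Fr.W.L.mem_Q_conj g Fr.hu
    rwa [hg] at this
  have su' : Sing z (g * u * g⁻¹) := World.sing_conj Fr.su g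
  have hne : g * u * g⁻¹ ≠ u := fun e => Fr.ne (by
    have e' : g * u * g⁻¹ = g * p * g⁻¹ := by rw [e, hg]
    exact mul_left_cancel (mul_right_cancel e'))
  obtain ⟨πu, ρu, Pu⟩ := Fr.W.pt u Fr.su
  obtain ⟨qa, na⟩ := Pu.sing_coord hu' (Fr.W.L.sq_one su') (Fr.W.L.ne_one su') hne
  obtain ⟨qb, nb⟩ := Pu.sing_coord Fr.pair.vu (Fr.W.L.sq_one Fr.sp) (Fr.W.L.ne_one Fr.sp) Fr.ne.symm
  obtain ⟨c, hc, hca⟩ := Pu.exists_trans hu' Fr.pair.vu qa qb na nb
  refine ⟨c * g, ?_, ?_⟩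
  · rw [show c * g * p * (c * g)⁻¹ = c * (g * p * g⁻¹) * c⁻¹ by group, hg, hc.eq, mul_inv_cancel_right]
  · rw [← hca]; group

theorem swap_A (Fr : Frame F z p u π ρ x') {h a : G} (h1 : h * p * h⁻¹ = u) (h2 : h * u * h⁻¹ = p)
    (ha : a ∈ half F p u) : h * a * h⁻¹ ∈ half F u p := by
  obtain ⟨haF, hau⟩ := mem_half.mp ha
  refine mem_half.mpr ⟨by have := Fr.W.L.mem_Q_conj h haF; rwa [h1] at this, ?_⟩
  rw [← h2]
  calc h * a * h⁻¹ * (h * u * h⁻¹) = h * (a * u) * h⁻¹ := by group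
    _ = _ := by rw [hau]; group

theorem swap_B (Fr : Frame F z p u π ρ x') {h b : G} (h1 : h * p * h⁻¹ = u) (h2 : h * u * h⁻¹ = p)
    (hb : b ∈ half F u p) : h * b * h⁻¹ ∈ half F p u := by
  obtain ⟨hbF, hbp⟩ := mem_half.mp hb
  refine mem_half.mpr ⟨by have := Fr.W.L.mem_Q_conj h hbF; rwa [h2] at this, ?_⟩
  rw [← h1]
  calc h * b * h⁻¹ * (h * p * h⁻¹) = h * (b * p) * h⁻¹ := by group
    _ = _ := by rw [hbp]; group

theorem swap_ep (Fr : Frame F z p u π ρ x') {h : G} (h1 : h * p * h⁻¹ = u) (h2 : h * u * h⁻¹ = p)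
    (i j : ZMod 2) : h * ep p u i j * h⁻¹ = ep p u j i := by
  rw [ep, show h * (bp p i * bp u j) * h⁻¹ = (h * bp p i * h⁻¹) * (h * bp u j * h⁻¹) by group]
  simp only [bp]
  rw [← conj_pow, ← conj_pow, h1, h2]
  exact ((bp_comm (bp_comm Fr.upc j).symm i).symm).eq

theorem card_inf (Fr : Frame F z p u π ρ x') : Nat.card ↥(F p ⊓ F u) = 4 := by
  have hb : Function.Bijective (fun v : ZMod 2 × ZMod 2 =>
      (⟨ep p u v.1 v.2, Fr.ep_mem v.1 v.2⟩ : ↥(F p ⊓ F u))) := by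
    refine ⟨fun v w h => ?_, fun e => ?_⟩
    · obtain ⟨h1, h2⟩ := Fr.ep_inj (congrArg Subtype.val h)
      exact Prod.ext h1 h2
    · obtain ⟨i, j, h⟩ := Fr.inf_cases e.2
      exact ⟨(i, j), Subtype.ext h.symm⟩
  rw [← Nat.card_congr (Equiv.ofBijective _ hb)]
  simp

/-- The homomorphism of the first half onto the complement. -/
noncomputable def αHom (Fr : Frame F z p u π ρ x') :
    half F p u →* Multiplicative (WS (π u) x') :=
  MonoidHom.mk' (fun a => Multiplicative.ofAdd ⟨Fr.α a, mem_WS.mpr (Fr.α_inW _)⟩) (fun a a' => by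
    apply Multiplicative.toAdd.injective
    exact Subtype.ext (Fr.α_mul (mem_half.mp a.2).1 (mem_half.mp a'.2).1))

/-- The homomorphism of the second half onto the complement. -/
noncomputable def βHom (Fr : Frame F z p u π ρ x') :
    half F u p →* Multiplicative (WS (π u) x') :=
  MonoidHom.mk' (fun a => Multiplicative.ofAdd ⟨Fr.β a, mem_WS.mpr (Fr.β_inW _)⟩) (fun a a' => by
    apply Multiplicative.toAdd.injective
    exact Subtype.ext (Fr.β_mul a.2 a'.2))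

theorem card_WS (Fr : Frame F z p u π ρ x') : Nat.card (Multiplicative (WS (π u) x')) = 64 := by
  rw [Nat.card_congr Multiplicative.toAdd, Nat.card_congr (Equiv.subtypeEquivRight fun w => mem_WS)]
  exact Fr.H.card_W

theorem card_A (Fr : Frame F z p u π ρ x') : Nat.card ↥(half F p u) = 256 := by
  have hs : Function.Surjective Fr.αHom := fun v => by
    obtain ⟨a, ha, hαa, -⟩ := Fr.α_surj (mem_WS.mp (Multiplicative.toAdd v).2)
    exact ⟨⟨a, ha⟩, Multiplicative.toAdd.injective (Subtype.ext hαa)⟩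
  have hk : Fr.αHom.ker = (F p ⊓ F u).subgroupOf (half F p u) := by
    ext a
    rw [MonoidHom.mem_ker, Subgroup.mem_subgroupOf, ← toAdd_eq_zero, Subtype.ext_iff]
    refine ⟨fun h => ?_, fun h => ?_⟩
    · obtain ⟨i, j, e⟩ := Fr.α_ker a.2 h
      rw [e]; exact Fr.ep_mem i j
    · obtain ⟨i, j, e⟩ := Fr.inf_cases h
      show Fr.α a = 0
      rw [e, Fr.α_ep]
  rw [Subgroup.card_eq_card_quotient_mul_card_subgroup Fr.αHom.ker,
    Nat.card_congr (QuotientGroup.quotientKerEquivOfSurjective _ hs).toEquiv, Fr.card_WS, hk,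
    Nat.card_congr (Subgroup.subgroupOfEquivOfLe Fr.pair.inf_le_half).toEquiv, Fr.card_inf]

theorem card_B (Fr : Frame F z p u π ρ x') : Nat.card ↥(half F u p) = 256 := by
  obtain ⟨h, h1, h2⟩ := Fr.exists_swap
  rw [← Fr.card_A]
  refine le_antisymm
    (Nat.card_le_card_of_injective (fun b : ↥(half F u p) =>
      (⟨h * b * h⁻¹, Fr.swap_B h1 h2 b.2⟩ : ↥(half F p u))) fun b b' e =>
        Subtype.ext (mul_left_cancel (mul_right_cancel (congrArg Subtype.val e))))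
    (Nat.card_le_card_of_injective (fun a : ↥(half F p u) =>
      (⟨h * a * h⁻¹, Fr.swap_A h1 h2 a.2⟩ : ↥(half F u p))) fun b b' e =>
        Subtype.ext (mul_left_cancel (mul_right_cancel (congrArg Subtype.val e))))

theorem β_surj (Fr : Frame F z p u π ρ x') {w : V8} (hw : InW (π u) x' w) :
    ∃ b ∈ half F u p, Fr.β b = w := by
  have hle : F p ⊓ F u ≤ half F u p := fun e he => Fr.pair.symm.inf_le_half ⟨he.2, he.1⟩
  have hk : Fr.βHom.ker = (F p ⊓ F u).subgroupOf (half F u p) := by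
    ext a
    rw [MonoidHom.mem_ker, Subgroup.mem_subgroupOf, ← toAdd_eq_zero, Subtype.ext_iff]
    refine ⟨fun h => ?_, fun h => ?_⟩
    · obtain ⟨i, j, e⟩ := Fr.β_ker a.2 h
      rw [e]; exact Fr.ep_mem i j
    · show Fr.β a = 0
      exact Fr.β_mem h.1
  have hc := Subgroup.card_eq_card_quotient_mul_card_subgroup Fr.βHom.ker
  rw [Fr.card_B, Nat.card_congr (QuotientGroup.quotientKerEquivRange _).toEquiv, hk,
    Nat.card_congr (Subgroup.subgroupOfEquivOfLe hle).toEquiv, Fr.card_inf] at hc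
  have htop : Fr.βHom.range = ⊤ := Subgroup.eq_top_of_card_eq _ (by rw [Fr.card_WS]; omega)
  obtain ⟨b, hb⟩ : Multiplicative.ofAdd (⟨w, mem_WS.mpr hw⟩ : WS (π u) x') ∈ Fr.βHom.range := by
    rw [htop]; trivial
  exact ⟨b, b.2, congrArg Subtype.val (congrArg Multiplicative.toAdd hb)⟩

/-- Every Eichler transformation at `u` comes from the second half. -/
theorem exists_eichler (Fr : Frame F z p u π ρ x') {w : V8} (hw : B8 (π u) w = 0) :
    ∃ b ∈ half F u p, ρ b = eichler q8 (π u) w ∧ Fr.β b = proj (π u) x' w := by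
  obtain ⟨b, hb, e⟩ := Fr.β_surj (Fr.H.proj_inW w)
  exact ⟨b, hb, by rw [Fr.β_spec hb, e, Fr.H.eichler_proj hw], e⟩

/-! ### Commutators -/

theorem comm_ab_aux (Fr : Frame F z p u π ρ x') {a b : G} (ha : a ∈ half F p u)
    (hb : b ∈ half F u p) :
    ∃ i, a * b * a⁻¹ * b⁻¹ = ep p u i (B8 (Fr.α a) (Fr.β b)) := by
  obtain ⟨i, j, h⟩ := Fr.inf_cases (e := a * b * a⁻¹ * b⁻¹) (by
    have := Fr.pair.comm_mem_inf ha hb
    rwa [commutatorElement_def] at this)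
  refine ⟨i, h.trans ?_⟩
  congr 1
  obtain ⟨haF, hau⟩ := Fr.memA.mp ha
  have h' := congrArg π h
  have hm : b * a⁻¹ * b⁻¹ ∈ F p := Fr.W.L.conj_mem (inv_mem haF) (Fr.bcomm hb).1
  rw [show a * b * a⁻¹ * b⁻¹ = a * (b * a⁻¹ * b⁻¹) by group, Fr.P.map_mul a haF _ hm,
    Fr.P.act b (Fr.bcomm hb).1 _ (inv_mem haF), Fr.P.πinv haF, Fr.β_spec hb, Fr.π_ep,
    eichler2 Fr.H.qc (Fr.β_inW b).mono.1, show polB q8 (π a) (π u) = 0 from hau, zero_smul,
    mul_zero, zero_smul, add_zero, add_zero, ← add_assoc, vadd_self, zero_add] at h'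
  have e1 : B8 (Fr.α a) (Fr.β b) = polB q8 (π a) (Fr.β b) := by
    conv_lhs => rw [← (Fr.β_inW b).proj_eq]
    exact Fr.H.B_proj hau (Fr.β_inW b).1
  rw [e1]
  generalize polB q8 (π a) (Fr.β b) = k at h' ⊢
  rcases z2c k with rfl | rfl <;> rcases z2c j with rfl | rfl <;> simp [Fr.H.ne, Fr.H.ne.symm] at h' ⊢

/-- Additive functions on the second half are given by vectors. -/
theorem exists_rep (Fr : Frame F z p u π ρ x') (g : G → ZMod 2)
    (hadd : ∀ {b b'}, b ∈ half F u p → b' ∈ half F u p → g (b * b') = g b + g b')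
    (hwd : ∀ {b b'}, b ∈ half F u p → b' ∈ half F u p → Fr.β b = Fr.β b' → g b = g b') :
    ∃ t, InW (π u) x' t ∧ ∀ {b}, b ∈ half F u p → g b = B8 t (Fr.β b) := by
  have sec : ∀ v : V8, ∃ b ∈ half F u p, Fr.β b = proj (π u) x' v := fun v =>
    Fr.β_surj (Fr.H.proj_inW v)
  choose bs hbs hbsv using sec
  let lam : V8 →ₗ[ZMod 2] ZMod 2 := (AddMonoidHom.mk' (fun v => g (bs v)) (fun v w => by
    rw [← hadd (hbs v) (hbs w)]
    exact hwd (hbs _) (mul_mem (hbs v) (hbs w))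
      (by rw [Fr.β_mul (hbs v) (hbs w), hbsv, hbsv, hbsv, map_add]))).toZModLinearMap 2
  have hlam : ∀ v, lam v = g (bs v) := fun v => rfl
  obtain ⟨t₀, ht₀⟩ : ∃ t₀, ∀ v, B8 t₀ v = lam v :=
    ⟨(LinearMap.BilinForm.toDual B8 nd8).symm lam,
      fun v => LinearMap.BilinForm.apply_toDual_symm_apply lam v⟩
  refine ⟨proj (π u) x' t₀, Fr.H.proj_inW _, fun {b} hb => ?_⟩
  have e1 : B8 (proj (π u) x' t₀) (Fr.β b) = B8 t₀ (Fr.β b) := by
    rw [proj_apply]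
    simp [(Fr.β_inW b).mono.1, (Fr.β_inW b).mono.2]
  rw [e1, ht₀, hlam]
  exact hwd hb (hbs _) (by rw [hbsv, (Fr.β_inW b).proj_eq])

theorem comm_inv (Fr : Frame F z p u π ρ x') {x y : G} {i j : ZMod 2}
    (h : x * y * x⁻¹ * y⁻¹ = ep p u i j) : y * x * y⁻¹ * x⁻¹ = ep p u i j := by
  rw [← Fr.ep_inv, ← h]; group

set_option maxHeartbeats 1000000 in
/-- The mixed commutator. -/
theorem comm_ab (Fr : Frame F z p u π ρ x') {a b : G} (ha : a ∈ half F p u) (hb : b ∈ half F u p) :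
    a * b * a⁻¹ * b⁻¹ = ep p u (B8 (Fr.α a) (Fr.β b)) (B8 (Fr.α a) (Fr.β b)) := by
  classical
  obtain ⟨h, h1, h2⟩ := Fr.exists_swap
  let f : G → G → ZMod 2 := fun a b => B8 (Fr.α (h * b * h⁻¹)) (Fr.β (h * a * h⁻¹))
  have hf : ∀ {a b}, a ∈ half F p u → b ∈ half F u p →
      a * b * a⁻¹ * b⁻¹ = ep p u (f a b) (B8 (Fr.α a) (Fr.β b)) := by
    intro a b ha hb
    obtain ⟨i, hi⟩ := Fr.comm_ab_aux ha hb
    obtain ⟨k, hk⟩ := Fr.comm_ab_aux (Fr.swap_B h1 h2 hb) (Fr.swap_A h1 h2 ha)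
    have e := Fr.comm_inv hi
    have e2 : h * (b * a * b⁻¹ * a⁻¹) * h⁻¹
        = h * b * h⁻¹ * (h * a * h⁻¹) * (h * b * h⁻¹)⁻¹ * (h * a * h⁻¹)⁻¹ := by group
    rw [hk, e, Fr.swap_ep h1 h2] at e2
    rw [hi, (Fr.ep_inj e2).2]
  have fadd : ∀ {a a' b}, a ∈ half F p u → a' ∈ half F p u → f (a * a') b = f a b + f a' b := by
    intro a a' b ha ha'
    show B8 _ (Fr.β (h * (a * a') * h⁻¹)) = _
    rw [show h * (a * a') * h⁻¹ = h * a * h⁻¹ * (h * a' * h⁻¹) by group,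
      Fr.β_mul (Fr.swap_A h1 h2 ha) (Fr.swap_A h1 h2 ha'), map_add]
  have fep : ∀ i j b, f (ep p u i j) b = 0 := by
    intro i j b
    show B8 _ (Fr.β (h * ep p u i j * h⁻¹)) = 0
    rw [Fr.swap_ep h1 h2, Fr.β_ep, map_zero]
  have fwd : ∀ {a a' b}, a ∈ half F p u → a' ∈ half F p u → Fr.α a = Fr.α a' → f a b = f a' b := by
    intro a a' b ha ha' e
    obtain ⟨i, j, hd⟩ := Fr.α_ker (mul_mem (inv_mem ha) ha') (by
      rw [Fr.α_mul (inv_mem (mem_half.mp ha).1) (mem_half.mp ha').1,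
        show Fr.α a⁻¹ = Fr.α a by rw [α, α, Fr.P.πinv (mem_half.mp ha).1], e, vadd_self])
    have hd' : a' = a * ep p u i j := by rw [← hd]; group
    rw [hd', fadd ha (Fr.pair.inf_le_half (Fr.ep_mem i j)), fep, add_zero]
  -- singular vectors
  have sing : ∀ {a b}, a ∈ half F p u → b ∈ half F u p → Fr.α a ≠ 0 → q8 (Fr.α a) = 0 →
      f a b = B8 (Fr.α a) (Fr.β b) := by
    intro a b ha hb hw0 _
    have fwd2 : ∀ {b b'}, b ∈ half F u p → b' ∈ half F u p → Fr.β b = Fr.β b' → f a b = f a b' := by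
      intro b b' hb hb' e
      obtain ⟨i, j, hd⟩ := Fr.β_ker (mul_mem (inv_mem hb) hb') (by
        rw [Fr.β_mul (inv_mem hb) hb', ← e, ← Fr.β_mul (inv_mem hb) hb, inv_mul_cancel,
          Fr.β_mem (one_mem _)])
      have hd' : b' = b * ep p u i j := by rw [← hd]; group
      have hm : h * ep p u i j * h⁻¹ ∈ F p := by rw [Fr.swap_ep h1 h2]; exact (Fr.ep_mem j i).1
      show _ = B8 (Fr.α (h * b' * h⁻¹)) _
      rw [hd', show h * (b * ep p u i j) * h⁻¹ = h * b * h⁻¹ * (h * ep p u i j * h⁻¹) by group,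
        Fr.α_mul (mem_half.mp (Fr.swap_B h1 h2 hb)).1 hm, Fr.swap_ep h1 h2, Fr.α_ep, add_zero]
    have fadd2 : ∀ {b b'}, b ∈ half F u p → b' ∈ half F u p → f a (b * b') = f a b + f a b' := by
      intro b b' hb hb'
      show B8 (Fr.α (h * (b * b') * h⁻¹)) _ = _
      rw [show h * (b * b') * h⁻¹ = h * b * h⁻¹ * (h * b' * h⁻¹) by group,
        Fr.α_mul (mem_half.mp (Fr.swap_B h1 h2 hb)).1 (mem_half.mp (Fr.swap_B h1 h2 hb')).1, map_add,
        LinearMap.add_apply]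
    obtain ⟨t, htW, ht⟩ := Fr.exists_rep (f a) fadd2 fwd2
    suffices t = Fr.α a by rw [ht hb, this]
    by_contra hne
    by_cases h0 : t = 0
    · -- the swapped image would be trivial
      have hall : ∀ a'' ∈ half F p u, B8 (Fr.α a'') (Fr.β (h * a * h⁻¹)) = 0 := by
        intro a'' ha''
        have hb'' : h⁻¹ * a'' * h ∈ half F u p := by
          obtain ⟨haF, hau⟩ := mem_half.mp ha''
          refine mem_half.mpr ⟨?_, ?_⟩
          · exact Fr.W.L.mem_Q_conj' h (by rw [h2]; exact haF)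
          · calc h⁻¹ * a'' * h * p = h⁻¹ * (a'' * (h * p * h⁻¹)) * h := by group
              _ = h⁻¹ * ((h * p * h⁻¹) * a'') * h := by rw [h1, hau]
              _ = _ := by group
        have := ht hb''
        rw [h0, map_zero, LinearMap.zero_apply] at this
        simpa [f, mul_assoc] using this
      have hβ0 : Fr.β (h * a * h⁻¹) = 0 := by
        by_contra hb0
        obtain ⟨v, hv, hv1⟩ := Fr.H.exists_dual (Fr.β_inW _) hb0
        obtain ⟨a'', ha'', hα, -⟩ := Fr.α_surj hv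
        have := hall a'' ha''
        rw [hα, hv1] at this
        exact one_ne_zero this
      obtain ⟨i, j, hij⟩ := Fr.β_ker (Fr.swap_A h1 h2 ha) hβ0
      have ea : a = ep p u j i := by
        rw [← Fr.swap_ep h1 h2 j i] at hij
        exact mul_left_cancel (mul_right_cancel hij)
      exact hw0 (by rw [ea, Fr.α_ep])
    · obtain ⟨g, hg, hgu, -, hgw, -, hB⟩ := Fr.H.stab_move (Fr.α_inW a) htW h0 hne
      obtain ⟨d, hdp, hdu, hdg⟩ := Fr.exists_stab hg hgu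
      obtain ⟨bt, hbt, hbt'⟩ := Fr.β_surj htW
      obtain ⟨hda, hdaα⟩ := Fr.conj_halfA hdp hdu ha
      obtain ⟨hdb, hdbβ⟩ := Fr.conj_halfB hdp hdu hbt
      rw [hdg, hgw, (Fr.α_inW a).proj_eq] at hdaα
      rw [hdg, hbt'] at hdbβ
      have e := hf hda hdb
      rw [show d * a * d⁻¹ * (d * bt * d⁻¹) * (d * a * d⁻¹)⁻¹ * (d * bt * d⁻¹)⁻¹
          = d * (a * bt * a⁻¹ * bt⁻¹) * d⁻¹ by group, hf ha hbt, Fr.ep_conj hdp hdu] at e
      have e' := (Fr.ep_inj e).1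
      rw [fwd hda ha hdaα, ht hbt, ht hdb, hbt', hdbβ, hB, B_self] at e'
      exact zero_ne_one e'
  suffices hi : f a b = B8 (Fr.α a) (Fr.β b) by
    rw [hf ha hb, hi]
  by_cases hw0 : Fr.α a = 0
  · obtain ⟨i, j, e⟩ := Fr.α_ker ha hw0
    rw [hw0, map_zero, LinearMap.zero_apply, e, fep]
  rcases z2c (q8 (Fr.α a)) with hq | hq
  · exact sing ha hb hw0 hq
  obtain ⟨s, hs, hsq, hs1⟩ := Fr.H.exists_sing_dual (Fr.α_inW a) hw0
  obtain ⟨a₁, ha₁, hα₁, -⟩ := Fr.α_surj hs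
  obtain ⟨a₂, ha₂, hα₂, -⟩ := Fr.α_surj ((Fr.α_inW a).add hs)
  have hs0 : s ≠ 0 := fun e => by simp [e] at hs1
  have h20 : Fr.α a + s ≠ 0 := fun e => by
    rw [eq_of_vadd_eq_zero e, hsq] at hq
    exact zero_ne_one hq
  have hq2 : q8 (Fr.α a + s) = 0 := by
    rw [q_add, hq, hsq, polB_comm, show polB q8 s (Fr.α a) = 1 from hs1]; decide
  have hα : Fr.α a = Fr.α (a₁ * a₂) := by
    rw [Fr.α_mul (mem_half.mp ha₁).1 (mem_half.mp ha₂).1, hα₁, hα₂, add_left_comm, vadd_self,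
      add_zero]
  rw [fwd ha (mul_mem ha₁ ha₂) hα, fadd ha₁ ha₂,
    sing ha₁ hb (by rw [hα₁]; exact hs0) (by rw [hα₁]; exact hsq),
    sing ha₂ hb (by rw [hα₂]; exact h20) (by rw [hα₂]; exact hq2), hα₁, hα₂, map_add,
    LinearMap.add_apply, add_left_comm, ZModModule.add_self, add_zero]

/-! ### An element moving `u` -/

theorem mover (Fr : Frame F z p u π ρ x') {m : G} (hm : m ∈ F p) (hmv : π m = x') :
    m * u * m⁻¹ = p * u := by
  rw [Fr.P.commutator hm Fr.hu, hmv, show B8 x' (π u) = 1 from Fr.H.xc, bp_one]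

theorem mover_conj (Fr : Frame F z p u π ρ x') {m b : G} (hm : m ∈ F p) (hmv : π m = x')
    (hb : b ∈ half F u p) :
    ∃ a ∈ half F p u, Fr.α a = Fr.β b ∧ m * b * m⁻¹ = a * b := by
  obtain ⟨hbp, hbu⟩ := Fr.bcomm hb
  have hmp := Fr.P.comm m hm
  have haF : m * (b * m⁻¹ * b⁻¹) ∈ F p := mul_mem hm (Fr.P.norm b hbp _ (inv_mem hm))
  refine ⟨m * (b * m⁻¹ * b⁻¹), mem_half.mpr ⟨haF, ?_⟩, ?_, by group⟩
  · have h1 : Commute (m * b * m⁻¹) (p * u) := by
      show m * b * m⁻¹ * (p * u) = p * u * (m * b * m⁻¹)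
      rw [← Fr.mover hm hmv]
      calc m * b * m⁻¹ * (m * u * m⁻¹) = m * (b * u) * m⁻¹ := by group
        _ = _ := by rw [hbu.eq]; group
    have h2 : Commute (m * b * m⁻¹) p := (hmp.mul_left hbp).mul_left hmp.inv_left
    have h3 : Commute (m * b * m⁻¹) u := by
      have := h2.mul_right h1
      rwa [← mul_assoc, Fr.P.pp, one_mul] at this
    rw [show m * (b * m⁻¹ * b⁻¹) = m * b * m⁻¹ * b⁻¹ by group]
    exact (h3.mul_left hbu.inv_left).eq
  · rw [α, Fr.P.map_mul m hm _ (Fr.P.norm b hbp _ (inv_mem hm)), Fr.P.act b hbp _ (inv_mem hm),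
      Fr.P.πinv hm, hmv, add_comm]
    rfl

/-- Squares in the second half. -/
theorem sq_b (Fr : Frame F z p u π ρ x') {b : G} (hb : b ∈ half F u p) :
    b * b = bp u (q8 (Fr.β b)) := by
  obtain ⟨m, hm, hmv⟩ := Fr.P.surj x'
  obtain ⟨a, ha, hαa, hmb⟩ := Fr.mover_conj hm hmv hb
  obtain ⟨s, hs⟩ : ∃ s, b * b = bp u s := by
    rcases Fr.W.L.mul_self_cases Fr.su (mem_half.mp hb).1 with e | e
    · exact ⟨0, by rw [e, bp_zero]⟩
    · exact ⟨1, by rw [e, bp_one]⟩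
  have hL : a * b * (a * b) = ep p u s s := by
    rw [← hmb, show m * b * m⁻¹ * (m * b * m⁻¹) = m * (b * b) * m⁻¹ by group, hs]
    simp only [ep, bp]
    rw [← conj_pow, Fr.mover hm hmv, Fr.upc.symm.mul_pow]
  have hc : a * b * a⁻¹ * b⁻¹ = 1 := by
    rw [Fr.comm_ab ha hb, hαa, B_self, Fr.ep_zero]
  have hab : a * b = b * a := mul_inv_eq_iff_eq_mul.mp (mul_inv_eq_one.mp hc)
  have hL' : a * b * (a * b) = ep p u (q8 (Fr.β b)) s := by
    rw [show a * b * (a * b) = a * (b * a) * b by group, ← hab,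
      show a * (a * b) * b = a * a * (b * b) by group, hs, Fr.sq_a ha, hαa]
    rfl
  rw [hs, (Fr.ep_inj (hL.symm.trans hL')).1]

theorem comm_bb (Fr : Frame F z p u π ρ x') {b b' : G} (hb : b ∈ half F u p) (hb' : b' ∈ half F u p) :
    b * b' * b⁻¹ * b'⁻¹ = bp u (B8 (Fr.β b) (Fr.β b')) := by
  have h1 := Fr.sq_b (mul_mem hb hb')
  rw [Fr.β_mul hb hb', q_add] at h1
  have e1 : b⁻¹ * b⁻¹ = bp u (q8 (Fr.β b)) := by rw [← mul_inv_rev, Fr.sq_b hb, bp_inv Fr.uu]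
  have e2 : b'⁻¹ * b'⁻¹ = bp u (q8 (Fr.β b')) := by rw [← mul_inv_rev, Fr.sq_b hb', bp_inv Fr.uu]
  have hc : Commute b' (bp u (q8 (Fr.β b))) := bp_comm (Fr.bcomm hb').2 _
  calc b * b' * b⁻¹ * b'⁻¹ = b * b' * (b * b') * b'⁻¹ * (b⁻¹ * b⁻¹) * b'⁻¹ := by group
    _ = b * b' * (b * b') * (b'⁻¹ * bp u (q8 (Fr.β b))) * b'⁻¹ := by rw [e1]; group
    _ = b * b' * (b * b') * bp u (q8 (Fr.β b)) * (b'⁻¹ * b'⁻¹) := by rw [hc.inv_left.eq]; group
    _ = _ := by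
        rw [h1, e2, bp_add Fr.uu, bp_add Fr.uu]
        congr 1
        generalize q8 (Fr.β b) = x
        generalize q8 (Fr.β b') = y
        generalize polB q8 (Fr.β b) (Fr.β b') = w
        revert x y w
        decide

end Frame

end H79.Co1T
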