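import Cfsg.Agent.H79.Co1T.Reduce

/-!
Groups of Conway type: independent involutions of a radical are not conjugates of the central one.
-/

set_option autoImplicit false
set_option linter.unusedSectionVars false

namespace H79.Co1T

open H43
open H69 (LXFam)
open H69.LXFam (Sing)
open H69.Pair (half mem_half)

/-- The conditions on the matrix of an isometry near an independent involution. -/
def MCond (c : ZMod 2) (M : Fin 3 → Fin 3 → ZMod 2) : Prop :=
  (∀ i, c * (M i 1 + M i 2 + M i 1 * M i 2) = M i i) ∧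
  (∀ i k, M i k + M k i + c * (M i 1 * M k 2 + M i 2 * M k 1) = 0) ∧
  (c = 1 → M 1 1 = 0 ∧ M 1 2 = 0)

instance (c : ZMod 2) : DecidablePred (MCond c) := fun M => by unfold MCond; infer_instance

theorem mcond_card : ∀ c, (Finset.univ.filter (MCond c)).card ≤ 8 := by decide +kernel

variable {G : Type*} [Group G] [Finite G]

theorem sixteen_le {F : G → Subgroup G} {p r : G} {π : G → V8} {ρ : G → orthGroup q8}
    (Pr : Pt (F r) r π ρ) (hp : p * p = 1) (hpr : Commute p r) :
    16 ≤ Nat.card {c // c ∈ F r ∧ Commute c p} := by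
  classical
  have hg2 : ρ p * ρ p = 1 := by rw [← Pr.ρ_mul hpr hpr, hp, Pr.ρ_one]
  have h4 := H44.finrank_resid_le nd8 hg2
  rw [dim8] at h4
  have hsum := finrank_fixed_add (ρ p)
  set K := LinearMap.ker (resMap (ρ p))
  have hK : 16 ≤ Nat.card K := by
    rw [card8, show (16 : ℕ) = 2 ^ 4 by norm_num]
    exact Nat.pow_le_pow_right (by norm_num) (by omega)
  choose sec hsec hπ using Pr.surj
  let f : K × ZMod 2 → G := fun i => sec i.1.1 * bp r i.2
  have hf : ∀ i, f i ∈ F r := fun i => mul_mem (hsec _) (bp_mem Pr.mem _)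
  have hπf : ∀ i, π (f i) = i.1.1 := fun i => by
    rw [Pr.map_mul _ (hsec _) _ (bp_mem Pr.mem _), hπ, Pr.πbp, add_zero]
  have hinj : Function.Injective f := fun i j h => by
    have e : i.1 = j.1 := Subtype.ext (by rw [← hπf i, ← hπf j, h])
    refine Prod.ext e ?_
    simp only [f, e, mul_right_inj] at h
    exact bp_inj Pr.pne h
  have hcases : ∀ i, Commute (f i) p ∨ p * f i * p⁻¹ = f i * r := fun i => by
    rcases Pr.eq_cases (hf i) (Pr.norm p hpr _ (hf i))
      (by rw [Pr.act p hpr _ (hf i), hπf]; exact (mem_fixed.mp i.1.2).symm) with e | e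
    · exact Or.inl (mul_inv_eq_iff_eq_mul.mp e).symm
    · exact Or.inr e
  by_cases hall : ∀ i, Commute (f i) p
  · have := Nat.card_le_card_of_injective
      (fun i => (⟨f i, hf i, hall i⟩ : {c // c ∈ F r ∧ Commute c p}))
      fun i j h => hinj (congrArg Subtype.val h)
    rw [Nat.card_prod, Nat.card_zmod] at this
    omega
  push Not at hall
  obtain ⟨i₀, hi₀⟩ := hall
  have e₀ := (hcases i₀).resolve_left hi₀
  have key : ∀ i, ¬ Commute (f i) p → Commute (f i * f i₀) p := fun i hi => by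
    refine (mul_inv_eq_iff_eq_mul.mp ?_).symm
    rw [show p * (f i * f i₀) * p⁻¹ = p * f i * p⁻¹ * (p * f i₀ * p⁻¹) by group,
      (hcases i).resolve_left hi, e₀, mul_assoc, ← mul_assoc r, ← (Pr.comm _ (hf i₀)).eq,
      mul_assoc (f i₀), Pr.pp, mul_one]
  let g : K × ZMod 2 → Bool × {c // c ∈ F r ∧ Commute c p} := fun i =>
    if h : Commute (f i) p then (true, ⟨f i, hf i, h⟩)
    else (false, ⟨f i * f i₀, mul_mem (hf i) (hf i₀), key i h⟩)
  have hg : Function.Injective g := by
    intro i j h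
    simp only [g] at h
    split_ifs at h with h1 h2 h2
    · exact hinj (congrArg (fun q : Bool × {c // c ∈ F r ∧ Commute c p} => (q.2 : G)) h)
    · exact Bool.noConfusion (congrArg Prod.fst h)
    · exact Bool.noConfusion (congrArg Prod.fst h)
    · exact hinj (mul_right_cancel
        (congrArg (fun q : Bool × {c // c ∈ F r ∧ Commute c p} => (q.2 : G)) h))
  have := Nat.card_le_card_of_injective g hg
  rw [Nat.card_prod, Nat.card_prod, Nat.card_zmod, Nat.card_eq_fintype_card (α := Bool),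
    Fintype.card_bool] at this
  omega

namespace Frame

variable {F : G → Subgroup G} {z p u : G} {π : G → V8} {ρ : G → orthGroup q8} {x' : V8}

/-- The attached subgroups meet trivially. -/
theorem inter_trivial (Fr : Frame F z p u π ρ x') {r : G} {w₁ w₂ : V8} (h : Fr.IsPair r w₁ w₂)
    (hi : Ind w₁ w₂) (hs : Sing z r) {e : G} (he : e ∈ F p) (her : e ∈ F r) : e = 1 := by
  by_contra he1
  have hρ1 : ρ r ≠ 1 := fun e' => hi.2.1 (Fr.H.eichler_inj h.inW.2 InW.zero (by
    rw [← h.rho, e', eichler_zero Fr.H.qc]))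
  have hne : r ≠ p := fun e' => hρ1 (by rw [e']; exact Fr.P.ρ_mem Fr.P.mem)
  have he2 : e * e = 1 := by
    rcases Fr.W.L.mul_self_cases Fr.sp he with a | a
    · exact a
    · rcases Fr.W.L.mul_self_cases hs her with b | b
      · exact b
      · exact absurd (b.symm.trans a) hne
  have se := Fr.W.sing_mem Fr.sp he he2 he1
  have hre : r ∈ F e := Fr.W.L.orth_symm hs se her
  have hep : e ≠ p := fun e' => hρ1 (Fr.P.ρ_mem (e' ▸ hre))
  obtain ⟨hq, h0⟩ := Fr.P.sing_coord he he2 he1 hep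
  obtain ⟨x₁, H₁⟩ := exists_hyp hq h0
  have Fe : Frame F z p e π ρ x₁ := ⟨Fr.W, Fr.P, Fr.sp, he, se, hep, H₁.qx, H₁.cx⟩
  have hrB : r ∈ half F e p := mem_half.mpr ⟨hre, h.comm.1.eq⟩
  obtain ⟨w, hw, hw1, hw2⟩ := Fr.H.exists_two h.inW.1 h.inW.2 hi 1 0
  obtain ⟨a, ha, hα, hπ⟩ := Fr.α_surj hw
  have hfix : (ρ r).1 w = w := by
    rw [h.rho]
    exact eichler_fix Fr.H.qc h.inW.2.mono.1 hw.1 hw2
  rw [Fe.β_spec hrB, eichler2 Fe.H.qc (Fe.β_inW r).mono.1] at hfix
  have hβ0 : Fe.β r ≠ 0 := fun e' => hρ1 (by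
    rw [Fe.β_spec hrB, e', eichler_zero Fe.H.qc])
  have hb1 : B8 w (π e) = 0 := by
    have h' := congrArg (proj (π e) x₁) hfix
    simp only [map_add, map_smul, Fe.H.proj_c, smul_zero, add_zero, (Fe.β_inW r).proj_eq,
      add_eq_left, smul_eq_zero] at h'
    exact h'.resolve_right hβ0
  have hb2 : B8 w (Fe.β r) = 0 := by
    rw [show polB q8 w (π e) = 0 from hb1] at hfix
    simp only [zero_smul, mul_zero, add_zero, add_eq_left, smul_eq_zero] at hfix
    exact hfix.resolve_right Fe.H.ne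
  have haE : a ∈ half F p e := Fe.memA.mpr ⟨(mem_half.mp ha).1, by rw [hπ]; exact hb1⟩
  have hc := Fe.comm_ab haE hrB
  have hBα : B8 (Fe.α a) (Fe.β r) = B8 (π a) (Fe.β r) := by
    conv_lhs => rw [← (Fe.β_inW r).proj_eq]
    exact Fe.H.B_proj (Fe.memA.mp haE).2 (Fe.β_inW r).1
  rw [hBα, hπ, hb2, Fe.ep_zero] at hc
  have hc' := (Fr.pair_A ha).commutator h
  rw [hc, hα, hw1, hw2, ← Fr.ep_zero] at hc'
  simp only [map_zero, LinearMap.zero_apply, add_zero] at hc'
  exact zero_ne_one (Fr.ep_inj hc').1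

/-- Independent involutions are not conjugates of the central one. -/
theorem not_sing (Fr : Frame F z p u π ρ x') {r : G} {w₁ w₂ : V8} (h : Fr.IsPair r w₁ w₂)
    (hi : Ind w₁ w₂) (hr : r * r = 1) : ¬ Sing z r := by
  classical
  intro hs
  obtain ⟨hq1, hq2⟩ := h.invol.mp hr
  have htriv : ∀ {e}, e ∈ F p → e ∈ F r → e = 1 := Fr.inter_trivial h hi hs
  obtain ⟨πr, ρr, Pr⟩ := Fr.W.pt r hs
  have h16 := sixteen_le Pr Fr.P.pp h.comm.1.symm
  have hcomm : ∀ {c a}, c ∈ F r → Commute c p → a ∈ F p → Commute a r → Commute c a := by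
    intro c a hc hcp ha har
    have h1 : c * a * c⁻¹ * a⁻¹ ∈ F p := mul_mem (Fr.P.norm c hcp a ha) (inv_mem ha)
    have h2 : c * a * c⁻¹ * a⁻¹ ∈ F r := by
      rw [show c * a * c⁻¹ * a⁻¹ = c * (a * c⁻¹ * a⁻¹) by group]
      exact mul_mem hc (Fr.W.L.conj_mem (inv_mem hc) har)
    exact mul_inv_eq_iff_eq_mul.mp (mul_inv_eq_one.mp (htriv h1 h2))
  let U : Fin 3 → V8 := ![π u, w₁, w₂]
  obtain ⟨X₁, hX₁, x11, x12⟩ := Fr.H.exists_two h.inW.1 h.inW.2 hi 1 0
  obtain ⟨X₂, hX₂, x21, x22⟩ := Fr.H.exists_two h.inW.1 h.inW.2 hi 0 1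
  let X : Fin 3 → V8 := ![x', X₁, X₂]
  have hdual : ∀ i k, B8 (U i) (X k) = if i = k then 1 else 0 := by
    intro i k
    fin_cases i <;> fin_cases k <;>
      simp [U, X, Fr.hxu, hX₁.mono.1, hX₂.mono.1, h.inW.1.2, h.inW.2.2, polB_comm w₁ X₁,
        polB_comm w₁ X₂, polB_comm w₂ X₁, polB_comm w₂ X₂, x11, x12, x21, x22]
  -- vectors orthogonal to the plane are fixed
  have hfix : ∀ {c}, c ∈ F r → Commute c p → ∀ v, (∀ i, B8 v (U i) = 0) → (ρ c).1 v = v := by
    intro c hc hcp v hv
    obtain ⟨a, ha, rfl⟩ := Fr.P.surj v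
    have haA : a ∈ half F p u := Fr.memA.mpr ⟨ha, hv 0⟩
    have hcr := (Fr.pair_A haA).commutator h
    have ea : ∀ {w}, InW (π u) x' w → B8 (Fr.α a) w = B8 (π a) w := fun {w} hw => by
      conv_lhs => rw [← hw.proj_eq]
      exact Fr.H.B_proj (hv 0) hw.1
    rw [ea h.inW.1, ea h.inW.2, show B8 (π a) w₁ = 0 from hv 1, show B8 (π a) w₂ = 0 from hv 2] at hcr
    simp only [map_zero, LinearMap.zero_apply, add_zero] at hcr
    rw [Fr.ep_zero] at hcr
    have har : Commute a r := mul_inv_eq_iff_eq_mul.mp (mul_inv_eq_one.mp hcr)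
    rw [← Fr.P.act c hcp a ha, (hcomm hc hcp ha har).eq, mul_inv_cancel_right]
  have hrest : ∀ v : V8, ∀ i, B8 (v + ∑ k, B8 v (U k) • X k) (U i) = 0 := by
    intro v i
    simp only [map_add, LinearMap.add_apply, map_sum, LinearMap.sum_apply, map_smul,
      LinearMap.smul_apply, smul_eq_mul, B8, polB_comm (X _) (U i)]
    simp only [show ∀ k, polB q8 (U i) (X k) = if i = k then 1 else 0 from hdual i, mul_ite, mul_one,
      mul_zero, Finset.sum_ite_eq, Finset.mem_univ, if_true]
    exact ZModModule.add_self _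
  let M : {c // c ∈ F r ∧ Commute c p} → Fin 3 → Fin 3 → ZMod 2 := fun c i k =>
    B8 ((ρ c.1).1 (X i) + X i) (X k)
  have hexp : ∀ c : {c // c ∈ F r ∧ Commute c p}, ∀ i,
      (ρ c.1).1 (X i) + X i = ∑ k, M c i k • U k := by
    intro c i
    have hm : (ρ c.1).1 (X i) + X i ∈ Submodule.span (ZMod 2) (Set.range U) := by
      rw [← LinearMap.BilinForm.orthogonal_orthogonal nd8 (polB_isRefl q8)
        (Submodule.span (ZMod 2) (Set.range U))]
      intro f hf
      show polB q8 f _ = 0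
      have hfc := hfix c.2.1 c.2.2 f fun j => by
        rw [polB_comm]; exact hf _ (Submodule.subset_span ⟨j, rfl⟩)
      rw [map_add]
      conv_lhs => arg 1; rw [← hfc, orth_polB_map]
      exact ZModModule.add_self _
    obtain ⟨m, hm⟩ := (Submodule.mem_span_range_iff_exists_fun _).mp hm
    have e : ∀ k, M c i k = m k := fun k => by
      show B8 ((ρ c.1).1 (X i) + X i) (X k) = _
      rw [← hm]
      simp only [map_sum, LinearMap.sum_apply, map_smul, LinearMap.smul_apply, hdual, smul_eq_mul,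
        mul_ite, mul_one, mul_zero, Finset.sum_ite_eq', Finset.mem_univ, if_true]
    simp only [e, hm]
  have hqU : ∀ m : Fin 3 → ZMod 2,
      q8 (∑ k, m k • U k) = B8 w₁ w₂ * (m 1 + m 2 + m 1 * m 2) := by
    intro m
    simp only [Fin.sum_univ_three, U, Matrix.cons_val_zero, Matrix.cons_val_one, Matrix.cons_val,
      q_add, qmap_smul, map_add, map_smul, LinearMap.add_apply, LinearMap.smul_apply, smul_eq_mul,
      Fr.H.qc, hq1, hq2, h.inW.1.mono.1, h.inW.2.mono.1]
    rcases z2c (m 0) with a | a <;> rcases z2c (m 1) with b | b <;> rcases z2c (m 2) with c | c <;>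
      simp [a, b, c, B8] <;> ring
  have hBU : ∀ m n : Fin 3 → ZMod 2, B8 (∑ k, m k • U k) (∑ k, n k • U k)
      = B8 w₁ w₂ * (m 1 * n 2 + m 2 * n 1) := by
    intro m n
    simp only [Fin.sum_univ_three, U, Matrix.cons_val_zero, Matrix.cons_val_one, Matrix.cons_val,
      map_add, map_smul, LinearMap.add_apply, LinearMap.smul_apply, smul_eq_mul, B_self, h.inW.1.1,
      h.inW.2.1, h.inW.1.mono.1, h.inW.2.mono.1, show B8 w₂ w₁ = B8 w₁ w₂ from polB_comm w₂ w₁]
    ring
  have hgram : ∀ c, MCond (B8 w₁ w₂) (M c) := by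
    intro c
    have hsplit : ∀ i, (ρ c.1).1 (X i) = X i + ((ρ c.1).1 (X i) + X i) := fun i => by
      rw [add_comm ((ρ c.1).1 (X i)), ← add_assoc, vadd_self, zero_add]
    refine ⟨fun i => ?_, fun i k => ?_, fun hc1 => ?_⟩
    · have e := orth_qmap (ρ c.1) (X i)
      rw [hsplit i, q_add, add_assoc, add_eq_left] at e
      have e' : polB q8 (X i) ((ρ c.1).1 (X i) + X i) = M c i i := polB_comm _ _
      rw [e', hexp c i, hqU] at e
      have key : ∀ a b : ZMod 2, a + b = 0 → a = b := by decide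
      exact key _ _ e
    · have e := orth_polB_map (ρ c.1) (X i) (X k)
      rw [hsplit i, hsplit k] at e
      simp only [map_add (polB q8 _), map_add (polB q8), LinearMap.add_apply] at e
      have e1 : polB q8 (X i) ((ρ c.1).1 (X k)) + polB q8 (X i) (X k) = M c k i := by
        rw [← map_add]; exact polB_comm _ _
      have e2 : polB q8 ((ρ c.1).1 (X i)) (X k) + polB q8 (X i) (X k) = M c i k := by
        rw [← LinearMap.add_apply, ← map_add]
      have e3 : polB q8 ((ρ c.1).1 (X i) + X i) ((ρ c.1).1 (X k) + X k)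
          = B8 w₁ w₂ * (M c i 1 * M c k 2 + M c i 2 * M c k 1) := by
        rw [hexp c i, hexp c k]; exact hBU _ _
      simp only [map_add (polB q8 _), map_add (polB q8), LinearMap.add_apply] at e3
      rw [← e1, ← e2, ← e3]
      revert e
      generalize polB q8 (X i) (X k) = n1
      generalize polB q8 (X i) ((ρ c.1).1 (X k)) = n2
      generalize polB q8 ((ρ c.1).1 (X i)) (X k) = n3
      generalize polB q8 ((ρ c.1).1 (X i)) ((ρ c.1).1 (X k)) = n4
      revert n1 n2 n3 n4
      decide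
    · have hcu : Commute c.1 u := hcomm c.2.1 c.2.2 Fr.hu h.comm.2.symm
      have hcr : Commute c.1 r := Fr.W.L.commute_of_mem c.2.1
      have hconj := h.conj c.2.2 hcu
      rw [hcr.eq, mul_inv_cancel_right] at hconj
      have hg := (hconj.unique h).2
      have hgu := Fr.fix_u c.2.2 hcu
      have hcases := Fr.H.proj_eq_cases (perp_g hgu h.inW.2.1) h.inW.2.1
        (by rw [h.inW.2.proj_eq]; exact hg)
      have hd : ∀ i, B8 (w₂ + X 1) (U i) = 0 := by
        intro i
        fin_cases i <;>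
          simp [U, X, h.inW.2.1, hX₁.1, polB_comm w₂ w₁, hc1, x11, x12, B_self,
            show (1 : ZMod 2) + 1 = 0 from rfl]
      have hdX := hfix c.2.1 c.2.2 _ hd
      have e : (ρ c.1).1 (X 1) + X 1 = (ρ c.1).1 w₂ + w₂ := by
        have : X 1 = (w₂ + X 1) + w₂ := by rw [add_comm w₂, add_assoc, vadd_self, add_zero]
        rw [this, map_add (ρ c.1).1 (w₂ + X 1) w₂, hdX]
        generalize (ρ c.1).1 w₂ = g2
        calc w₂ + X 1 + g2 + (w₂ + X 1 + w₂) = (g2 + w₂) + ((w₂ + X 1) + (w₂ + X 1)) := by abel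
          _ = g2 + w₂ := by rw [vadd_self, add_zero]
      constructor <;> show B8 ((ρ c.1).1 (X 1) + X 1) _ = 0 <;> rw [e] <;>
        rcases hcases with e' | e' <;> rw [e']
      all_goals
        first
          | (rw [vadd_self, map_zero, LinearMap.zero_apply])
          | (rw [add_comm w₂ (π u), add_assoc, vadd_self, add_zero]
             simp [X, hX₁.mono.1, hX₂.mono.1])
  have hMinj : Function.Injective M := by
    intro c c' hcc
    have hρ : ρ c.1 = ρ c'.1 := by
      refine orth_ext fun v => ?_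
      have e : v = (v + ∑ k, B8 v (U k) • X k) + ∑ k, B8 v (U k) • X k := by
        rw [add_assoc, vadd_self, add_zero]
      have hX : ∀ k, (ρ c.1).1 (X k) = (ρ c'.1).1 (X k) := fun k => by
        have := hexp c k
        rw [hcc, ← hexp c' k] at this
        exact add_right_cancel this
      have f1 := hfix c.2.1 c.2.2 _ (hrest v)
      have f2 := hfix c'.2.1 c'.2.2 _ (hrest v)
      generalize v + ∑ k, B8 v (U k) • X k = y at e f1 f2
      conv_lhs => rw [e]
      conv_rhs => rw [e]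
      rw [map_add, map_add, f1, f2]
      simp only [map_sum, map_smul, hX]
    exact Subtype.ext (inv_mul_eq_one.mp
      (htriv (Fr.P.ρ_eq c.2.2 c'.2.2 hρ) (mul_mem (inv_mem c.2.1) c'.2.1)))
  have hle := Nat.card_le_card_of_injective
    (fun c => (⟨M c, Finset.mem_filter.mpr ⟨Finset.mem_univ _, hgram c⟩⟩ :
      {m // m ∈ Finset.univ.filter (MCond (B8 w₁ w₂))}))
    fun c c' h' => hMinj (congrArg Subtype.val h')
  rw [Nat.card_eq_fintype_card (α := {m // m ∈ Finset.univ.filter (MCond (B8 w₁ w₂))}),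
    Fintype.card_coe] at hle
  have := mcond_card (B8 w₁ w₂)
  omega

end Frame

end H79.Co1T
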