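import Cfsg.Agent.H79.Co1T.Space
import Cfsg.Agent.H43.Bridge

/-!
The hyperbolic space of dimension eight over two elements, relative to a hyperbolic pair.
-/

set_option autoImplicit false
set_option linter.unusedSectionVars false

namespace H79.Co1T

open H43

/-- The space. -/
abbrev V8 := Fin 4 ⊕ Fin 4 → ZMod 2

/-- The form. -/
noncomputable abbrev q8 : QuadraticForm (ZMod 2) V8 := qPlus 4 (ZMod 2)

/-- The polar form. -/
noncomputable abbrev B8 : LinearMap.BilinForm (ZMod 2) V8 := polB q8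

theorem nd8 : (polB q8).Nondegenerate := qPlus_nondeg 4

theorem dim8 : Module.finrank (ZMod 2) V8 = 8 := by simp

theorem card8 (X : Submodule (ZMod 2) V8) : Nat.card X = 2 ^ Module.finrank (ZMod 2) X := by
  rw [Module.natCard_eq_pow_finrank (K := ZMod 2), Nat.card_zmod]

/-- A hyperbolic pair. -/
structure Hyp (c x' : V8) : Prop where
  qc : q8 c = 0
  qx : q8 x' = 0
  cx : B8 c x' = 1

/-- Membership in the complement of a pair. -/
def InW (c x' w : V8) : Prop := B8 w c = 0 ∧ B8 w x' = 0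

/-- Two different nonzero vectors. -/
def Ind (a b : V8) : Prop := a ≠ 0 ∧ b ≠ 0 ∧ a ≠ b

/-- The projection to the complement of a pair. -/
noncomputable def proj (c x' : V8) : V8 →ₗ[ZMod 2] V8 :=
  LinearMap.id + ((B8).flip x').smulRight c + ((B8).flip c).smulRight x'

variable {c x' : V8}

theorem proj_apply (v : V8) : proj c x' v = v + B8 v x' • c + B8 v c • x' := by
  simp [proj]

theorem InW.zero : InW c x' 0 := by simp [InW]

theorem InW.add {v w : V8} (hv : InW c x' v) (hw : InW c x' w) : InW c x' (v + w) := by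
  simp [InW, hv.1, hv.2, hw.1, hw.2]

theorem InW.smul {w : V8} (a : ZMod 2) (hw : InW c x' w) : InW c x' (a • w) := by
  simp [InW, hw.1, hw.2]

theorem Hyp.xc (H : Hyp c x') : B8 x' c = 1 := by rw [polB_comm]; exact H.cx

theorem Hyp.ne (H : Hyp c x') : c ≠ 0 := fun h => by have := H.cx; simp [h] at this

theorem Hyp.proj_inW (H : Hyp c x') (v : V8) : InW c x' (proj c x' v) := by
  rw [proj_apply, InW]
  simp only [map_add, map_smul, LinearMap.add_apply, LinearMap.smul_apply, B_self, H.cx, H.xc,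
    smul_eq_mul, mul_zero, mul_one, add_zero]
  exact ⟨ZModModule.add_self _, ZModModule.add_self _⟩

theorem InW.proj_eq {w : V8} (hw : InW c x' w) : proj c x' w = w := by
  simp [proj_apply, hw.1, hw.2]

theorem Hyp.proj_c (H : Hyp c x') : proj c x' c = 0 := by
  rw [proj_apply, B_self, H.cx, one_smul, zero_smul, add_zero, vadd_self]

theorem Hyp.proj_x (H : Hyp c x') : proj c x' x' = 0 := by
  rw [proj_apply, B_self, H.xc, one_smul, zero_smul, add_zero, vadd_self]

theorem proj_of_perp {v : V8} (hv : B8 v c = 0) : proj c x' v = v + B8 v x' • c := by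
  rw [proj_apply, hv, zero_smul, add_zero]

theorem Hyp.q_proj (H : Hyp c x') {v : V8} (hv : B8 v c = 0) : q8 (proj c x' v) = q8 v := by
  rw [proj_of_perp hv, q_add, qmap_smul, H.qc, map_smul, hv]
  simp

theorem Hyp.B_proj (H : Hyp c x') {v w : V8} (hv : B8 v c = 0) (hw : B8 w c = 0) :
    B8 (proj c x' v) (proj c x' w) = B8 v w := by
  rw [proj_of_perp hv, proj_of_perp hw]
  simp only [map_add, map_smul, LinearMap.add_apply, LinearMap.smul_apply, B_self, hv,
    polB_comm c w, hw, smul_eq_mul, mul_zero, add_zero]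

theorem Hyp.proj_zero (H : Hyp c x') {v : V8} (hv : B8 v c = 0) (h : proj c x' v = 0) :
    v = 0 ∨ v = c := by
  rw [proj_of_perp hv] at h
  have := eq_of_vadd_eq_zero h
  rcases z2c (B8 v x') with e | e <;> rw [e] at this
  · exact Or.inl (by simpa using this)
  · exact Or.inr (by simpa using this)

theorem Hyp.proj_eq_cases (H : Hyp c x') {v w : V8} (hv : B8 v c = 0) (hw : B8 w c = 0)
    (h : proj c x' v = proj c x' w) : v = w ∨ v = w + c := by
  rcases H.proj_zero (v := v + w) (by simp [hv, hw]) (by rw [map_add, h, vadd_self]) with e | e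
  · exact Or.inl (eq_of_vadd_eq_zero e)
  · exact Or.inr (by rw [← e, add_comm v w, ← add_assoc, vadd_self, zero_add])

theorem Hyp.proj_g (H : Hyp c x') {g : orthGroup q8} (hg : g.1 c = c) {v : V8} (hv : B8 v c = 0) :
    proj c x' (g.1 (proj c x' v)) = proj c x' (g.1 v) := by
  rw [proj_of_perp hv, map_add g.1, map_smul g.1, hg, map_add, map_smul, H.proj_c, smul_zero,
    add_zero]

theorem perp_g {g : orthGroup q8} (hg : g.1 c = c) {v : V8} (hv : B8 v c = 0) :
    B8 (g.1 v) c = 0 := by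
  conv_lhs => enter [2]; rw [← hg]
  show polB q8 (g.1 v) (g.1 c) = 0
  rw [orth_polB_map]
  exact hv

theorem Hyp.eichler_proj (H : Hyp c x') {w : V8} (hw : B8 c w = 0) :
    eichler q8 c (proj c x' w) = eichler q8 c w := by
  have hw' : B8 w c = 0 := by rw [polB_comm]; exact hw
  have h1 : B8 c (proj c x' w) = 0 := by rw [polB_comm]; exact (H.proj_inW w).1
  refine orth_ext fun x => ?_
  rw [eichler2 H.qc h1, eichler2 H.qc hw, H.q_proj hw', proj_of_perp hw']
  simp only [map_add, map_smul, smul_eq_mul]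
  rcases z2c (polB q8 x c) with e | e <;> rcases z2c (B8 w x') with e' | e' <;>
    rcases z2c (polB q8 x w) with e'' | e'' <;>
    simp only [B8] at e' ⊢ <;>
    simp [e, e', e'', vadd_self, add_assoc, show (1 : ZMod 2) + 1 = 0 from rfl]

theorem Hyp.eichler_x (H : Hyp c x') {w : V8} (hw : InW c x' w) :
    (eichler q8 c w).1 x' = x' + w + q8 w • c := by
  have h1 : B8 c w = 0 := by rw [polB_comm]; exact hw.1
  have h2 : B8 x' w = 0 := by rw [polB_comm]; exact hw.2
  rw [eichler2 H.qc h1, H.xc, one_smul, h2, zero_smul, add_zero, mul_one]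

theorem Hyp.eichler_inj (H : Hyp c x') {v w : V8} (hv : InW c x' v) (hw : InW c x' w)
    (h : eichler q8 c v = eichler q8 c w) : v = w := by
  have e : proj c x' ((eichler q8 c v).1 x') = proj c x' ((eichler q8 c w).1 x') := by rw [h]
  simpa [H.eichler_x hv, H.eichler_x hw, H.proj_x, H.proj_c, hv.proj_eq, hw.proj_eq] using e

theorem perp_span {v : V8} {S : Set V8} (h : ∀ x ∈ S, B8 v x = 0) :
    ∀ x ∈ Submodule.span (ZMod 2) S, B8 v x = 0 := by
  intro x hx
  induction hx using Submodule.span_induction with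
  | mem x hx => exact h x hx
  | zero => simp
  | add x y _ _ hx hy => simp [hx, hy]
  | smul a x _ hx => simp [hx]

theorem Hyp.ns_mem (H : Hyp c x') : q8 (c + x') = 1 := by
  rw [q_add, H.qc, H.qx]; simp only [zero_add]; exact H.cx

theorem exists_perp_one {X : Submodule (ZMod 2) V8} {t : V8} (ht : t ∉ X) :
    ∃ v, (∀ x ∈ X, B8 v x = 0) ∧ B8 v t = 1 := by
  obtain ⟨v, hv, hvt⟩ := exists_orth_polB_eq nd8 ht (1 : ZMod 2)
  exact ⟨v, fun x hx => by rw [polB_comm]; exact hv x hx, by rw [polB_comm]; exact hvt⟩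

/-- A non-singular vector with prescribed orthogonality. -/
theorem exists_ns {X : Submodule (ZMod 2) V8} (hX : Module.finrank (ZMod 2) X ≤ 3)
    (hns : ∃ x ∈ X, q8 x = 1) {t : V8} (ht : t ∉ X) :
    ∃ n, q8 n = 1 ∧ (∀ x ∈ X, B8 n x = 0) ∧ B8 n t = 1 := by
  obtain ⟨v, hv, hvt⟩ := exists_perp_one ht
  rcases z2c (q8 v) with hq | hq
  swap
  · exact ⟨v, hq, hv, hvt⟩
  have hle : Module.finrank (ZMod 2) ↥(X ⊔ Submodule.span (ZMod 2) {v}) ≤ 4 :=
    (Submodule.finrank_add_le_finrank_add_finrank _ _).trans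
      (Nat.add_le_add hX (by simpa using finrank_span_le_card (R := ZMod 2) ({v} : Set V8)))
  obtain ⟨x, hx, hx1⟩ := hns
  obtain ⟨n, hn1, hn⟩ := exists_ns_perp nd8 dim8 _ hle ⟨x, Submodule.mem_sup_left hx, hx1⟩
  rcases z2c (B8 n t) with h | h
  · refine ⟨n + v, ?_, fun y hy => ?_, ?_⟩
    · rw [q_add, hn1, hq, hn v (Submodule.mem_sup_right (Submodule.mem_span_singleton_self v))]
      simp
    · simp [hn y (Submodule.mem_sup_left hy), hv y hy]
    · simp [h, hvt]
  · exact ⟨n, hn1, fun y hy => hn y (Submodule.mem_sup_left hy), h⟩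

/-- An even isometry fixing a subspace and moving a given vector. -/
theorem exists_move {X : Submodule (ZMod 2) V8} (hX : Module.finrank (ZMod 2) X ≤ 3)
    (hns : ∃ x ∈ X, q8 x = 1) {t : V8} (ht : t ∉ X) :
    ∃ g : orthGroup q8, dickson g = 1 ∧ (∀ x ∈ X, g.1 x = x) ∧
      ∃ n, q8 n = 1 ∧ B8 n t = 1 ∧ (∀ x ∈ X, B8 n x = 0) ∧ g.1 t = t + n := by
  obtain ⟨n, hn1, hn, hnt⟩ := exists_ns hX hns ht
  have hle : Module.finrank (ZMod 2) ↥(X ⊔ Submodule.span (ZMod 2) {t}) ≤ 4 :=
    (Submodule.finrank_add_le_finrank_add_finrank _ _).trans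
      (Nat.add_le_add hX (by simpa using finrank_span_le_card (R := ZMod 2) ({t} : Set V8)))
  obtain ⟨x, hx, hx1⟩ := hns
  obtain ⟨n', hn1', hn'⟩ := exists_ns_perp nd8 dim8 _ hle ⟨x, Submodule.mem_sup_left hx, hx1⟩
  refine ⟨refl q8 n * refl q8 n', ?_, fun y hy => ?_, n, hn1, hnt, hn, ?_⟩
  · rw [dickson_refl_mul nd8 _ (by rw [hn1]; exact one_ne_zero),
      dickson_refl nd8 (by rw [hn1']; exact one_ne_zero)]
    rfl
  · rw [orth_mul_apply, refl_fix (v := n') (x := y)
      (by rw [polB_comm]; exact hn' y (Submodule.mem_sup_left hy))]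
    exact refl_fix (by rw [polB_comm]; exact hn y hy)
  · rw [orth_mul_apply, refl_fix (v := n') (x := t)
      (by rw [polB_comm]; exact hn' t (Submodule.mem_sup_right (Submodule.mem_span_singleton_self t))),
      refl_apply, polB_comm t n, show polB q8 n t = 1 from hnt, hn1, inv_one, one_mul, one_smul, vsub]

theorem Hyp.span3 (H : Hyp c x') (w : V8) :
    Module.finrank (ZMod 2) ↥(Submodule.span (ZMod 2) (Set.range ![c, x', w])) ≤ 3 ∧
      ∃ x ∈ Submodule.span (ZMod 2) (Set.range ![c, x', w]), q8 x = 1 :=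
  ⟨(finrank_range_le_card _).trans (by simp), c + x',
    add_mem (Submodule.subset_span ⟨0, rfl⟩) (Submodule.subset_span ⟨1, rfl⟩), H.ns_mem⟩

theorem Hyp.mem_span3 (H : Hyp c x') {w t : V8} (hw : InW c x' w) (ht : InW c x' t)
    (h : t ∈ Submodule.span (ZMod 2) (Set.range ![c, x', w])) : t = 0 ∨ t = w := by
  obtain ⟨f, rfl⟩ := (Submodule.mem_span_range_iff_exists_fun _).mp h
  have h1 := ht.1
  have h2 := ht.2
  simp [Fin.sum_univ_three, B_self, H.cx, H.xc, hw.1, hw.2] at h1 h2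
  rcases z2c (f 2) with e | e <;> simp [Fin.sum_univ_three, h1, h2, e]

/-- The vectors fixed by the stabiliser of a vector. -/
theorem Hyp.stab_move (H : Hyp c x') {w t : V8} (hw : InW c x' w) (ht : InW c x' t) (h0 : t ≠ 0)
    (hne : t ≠ w) :
    ∃ g : orthGroup q8, dickson g = 1 ∧ g.1 c = c ∧ g.1 x' = x' ∧ g.1 w = w ∧
      proj c x' (g.1 t) ≠ t ∧ B8 t (proj c x' (g.1 t)) = 1 := by
  have hnot : t ∉ Submodule.span (ZMod 2) (Set.range ![c, x', w]) := fun h => by
    rcases H.mem_span3 hw ht h with e | e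
    exacts [h0 e, hne e]
  obtain ⟨g, hg, hfix, n, hn1, hnt, hn, hgt⟩ := exists_move (H.span3 w).1 (H.span3 w).2 hnot
  have hnW : InW c x' n := ⟨hn c (Submodule.subset_span ⟨0, rfl⟩), hn x' (Submodule.subset_span ⟨1, rfl⟩)⟩
  have e : proj c x' (g.1 t) = t + n := by rw [hgt, (ht.add hnW).proj_eq]
  refine ⟨g, hg, hfix c (Submodule.subset_span ⟨0, rfl⟩), hfix x' (Submodule.subset_span ⟨1, rfl⟩),
    hfix w (Submodule.subset_span ⟨2, rfl⟩), ?_, ?_⟩
  · rw [e]
    intro h
    have : n = 0 := by simpa using h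
    rw [this, map_zero] at hn1
    exact zero_ne_one hn1
  · rw [e, map_add, B_self, zero_add, polB_comm]; exact hnt

theorem Hyp.exists_dual (H : Hyp c x') {a : V8} (ha : InW c x' a) (h0 : a ≠ 0) :
    ∃ v, InW c x' v ∧ B8 v a = 1 := by
  have hnot : a ∉ Submodule.span (ZMod 2) (Set.range ![c, x']) := by
    intro h
    obtain ⟨f, rfl⟩ := (Submodule.mem_span_range_iff_exists_fun _).mp h
    have h1 := ha.1
    have h2 := ha.2
    simp [Fin.sum_univ_two, B_self, H.cx, H.xc] at h1 h2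
    exact h0 (by simp [Fin.sum_univ_two, h1, h2])
  obtain ⟨v, hv, hvt⟩ := exists_perp_one hnot
  exact ⟨v, ⟨hv _ (Submodule.subset_span ⟨0, rfl⟩), hv _ (Submodule.subset_span ⟨1, rfl⟩)⟩, hvt⟩

/-- A singular vector with a given value on a nonzero vector. -/
theorem Hyp.exists_sing_dual (H : Hyp c x') {t : V8} (ht : InW c x' t) (h0 : t ≠ 0) :
    ∃ w, InW c x' w ∧ q8 w = 0 ∧ B8 w t = 1 := by
  obtain ⟨v, hv, hvt⟩ := H.exists_dual ht h0
  rcases z2c (q8 v) with hq | hq
  · exact ⟨v, hv, hq, hvt⟩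
  obtain ⟨m, hm1, hm⟩ := exists_ns_perp nd8 dim8 (Submodule.span (ZMod 2) (Set.range ![c, x', v, t]))
    ((finrank_range_le_card _).trans (by simp))
    ⟨c + x', add_mem (Submodule.subset_span ⟨0, rfl⟩) (Submodule.subset_span ⟨1, rfl⟩), H.ns_mem⟩
  have e : ∀ i, B8 m (![c, x', v, t] i) = 0 := fun i => hm _ (Submodule.subset_span ⟨i, rfl⟩)
  refine ⟨v + m, hv.add ⟨e 0, e 1⟩, ?_, ?_⟩
  · rw [q_add, hq, hm1, polB_comm v m, show polB q8 m v = 0 from e 2]; decide
  · rw [map_add, LinearMap.add_apply, hvt, show B8 m t = 0 from e 3, add_zero]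

theorem Ind.symm {a b : V8} (h : Ind a b) : Ind b a := ⟨h.2.1, h.1, h.2.2.symm⟩

theorem Ind.sum {a b : V8} (h : Ind a b) : Ind (a + b) b :=
  ⟨fun e => h.2.2 (eq_of_vadd_eq_zero e), h.2.1, fun e => h.1 (by simpa using e)⟩

/-- Two prescribed values. -/
theorem Hyp.exists_two (H : Hyp c x') {a b : V8} (ha : InW c x' a) (hb : InW c x' b) (h : Ind a b)
    (r s : ZMod 2) : ∃ x, InW c x' x ∧ B8 x a = r ∧ B8 x b = s := by
  have key : ∀ a b : V8, InW c x' a → InW c x' b → Ind a b →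
      ∃ x, InW c x' x ∧ B8 x a = 0 ∧ B8 x b = 1 := by
    intro a b ha hb h
    have hnot : b ∉ Submodule.span (ZMod 2) (Set.range ![c, x', a]) := fun hm => by
      rcases H.mem_span3 ha hb hm with e | e
      exacts [h.2.1 e, h.2.2 e.symm]
    obtain ⟨v, hv, hvt⟩ := exists_perp_one hnot
    exact ⟨v, ⟨hv _ (Submodule.subset_span ⟨0, rfl⟩), hv _ (Submodule.subset_span ⟨1, rfl⟩)⟩,
      hv _ (Submodule.subset_span ⟨2, rfl⟩), hvt⟩
  obtain ⟨x, hx, hxa, hxb⟩ := key a b ha hb h
  obtain ⟨y, hy, hyb, hya⟩ := key b a hb ha h.symm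
  exact ⟨r • y + s • x, (hy.smul r).add (hx.smul s), by simp [hxa, hya], by simp [hxb, hyb]⟩

theorem Hyp.li2 (H : Hyp c x') : LinearIndependent (ZMod 2) ![c, x'] :=
  (show HypPair q8 c x' from ⟨H.qc, H.qx, H.cx⟩).linearIndependent

theorem Hyp.li4 (H : Hyp c x') {a b : V8} (ha : InW c x' a) (hb : InW c x' b) (h : Ind a b) :
    LinearIndependent (ZMod 2) ![c, x', a, b] := by
  rw [Fintype.linearIndependent_iff]
  intro f hf
  simp only [Fin.sum_univ_four, Matrix.cons_val_zero, Matrix.cons_val_one, Matrix.cons_val] at hf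
  have h0 : f 0 = 0 := by
    simpa [B_self, H.cx, H.xc, ha.2, hb.2] using congrArg (fun v => B8 v x') hf
  have h1 : f 1 = 0 := by
    simpa [B_self, H.cx, H.xc, ha.1, hb.1] using congrArg (fun v => B8 v c) hf
  simp only [h0, h1, zero_smul, zero_add] at hf
  have : f 2 = 0 ∧ f 3 = 0 := by
    rcases z2c (f 2) with e | e <;> rcases z2c (f 3) with e' | e' <;> rw [e, e'] at hf <;>
      simp at hf
    · exact ⟨e, e'⟩
    · exact absurd hf h.2.1
    · exact absurd hf h.1
    · exact absurd (eq_of_vadd_eq_zero hf) h.2.2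
  intro i
  fin_cases i
  exacts [h0, h1, this.1, this.2]

theorem Hyp.li3 (H : Hyp c x') {a : V8} (ha : InW c x' a) (h0 : a ≠ 0) :
    LinearIndependent (ZMod 2) ![c, x', a] := by
  rw [Fintype.linearIndependent_iff]
  intro f hf
  simp only [Fin.sum_univ_three, Matrix.cons_val_zero, Matrix.cons_val_one, Matrix.cons_val] at hf
  have e0 : f 0 = 0 := by
    simpa [B_self, H.cx, H.xc, ha.2] using congrArg (fun v => B8 v x') hf
  have e1 : f 1 = 0 := by
    simpa [B_self, H.cx, H.xc, ha.1] using congrArg (fun v => B8 v c) hf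
  simp only [e0, e1, zero_smul, zero_add, smul_eq_zero, h0, or_false] at hf
  intro i
  fin_cases i
  exacts [e0, e1, hf]

/-- Transitivity on hyperbolic pairs with two further vectors. -/
theorem Hyp.witt4 (H : Hyp c x') {a b a' b' : V8} (ha : InW c x' a) (hb : InW c x' b) (h : Ind a b)
    (ha' : InW c x' a') (hb' : InW c x' b') (h' : Ind a' b') (qa : q8 a = q8 a') (qb : q8 b = q8 b')
    (hB : B8 a b = B8 a' b') :
    ∃ g : orthGroup q8, dickson g = 1 ∧ g.1 c = c ∧ g.1 x' = x' ∧ g.1 a = a' ∧ g.1 b = b' := by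
  obtain ⟨g, hg, hgi⟩ := witt_even nd8 dim8 le_rfl ![c, x', a, b] ![c, x', a', b'] (H.li4 ha hb h)
    (H.li4 ha' hb' h') (by intro i; fin_cases i <;> simp [qa, qb])
    (by
      intro i j
      fin_cases i <;> fin_cases j <;>
        simp [B_self, ha.1, ha.2, hb.1, hb.2, ha'.1, ha'.2, hb'.1, hb'.2, polB_comm c a, polB_comm c b,
          polB_comm x' a, polB_comm x' b, polB_comm c a', polB_comm c b', polB_comm x' a',
          polB_comm x' b', polB_comm b a, polB_comm b' a', hB])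
    0 1 ⟨H.qc, H.qx, H.cx⟩
  exact ⟨g, hg, hgi 0, hgi 1, hgi 2, hgi 3⟩

/-- Transitivity on hyperbolic pairs. -/
theorem witt2 {c x' d y' : V8} (H : Hyp c x') (H' : Hyp d y') :
    ∃ g : orthGroup q8, dickson g = 1 ∧ g.1 c = d ∧ g.1 x' = y' := by
  obtain ⟨g, hg, hgi⟩ := witt_even nd8 dim8 (by norm_num) ![c, x'] ![d, y'] H.li2 H'.li2
    (by intro i; fin_cases i <;> simp [H.qc, H.qx, H'.qc, H'.qx])
    (by intro i j; fin_cases i <;> fin_cases j <;> simp [B_self, H.cx, H.xc, H'.cx, H'.xc])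
    0 1 ⟨H.qc, H.qx, H.cx⟩
  exact ⟨g, hg, hgi 0, hgi 1⟩

theorem exists_hyp {c : V8} (hc : q8 c = 0) (h0 : c ≠ 0) : ∃ x', Hyp c x' := by
  obtain ⟨x, hx, hxc⟩ := exists_partner nd8 hc h0
  exact ⟨x, hc, hx, by rw [polB_comm]; exact hxc⟩

/-- The complement of a pair. -/
noncomputable def WS (c x' : V8) : Submodule (ZMod 2) V8 :=
  (B8).orthogonal (Submodule.span (ZMod 2) (Set.range ![c, x']))

theorem mem_WS {w : V8} : w ∈ WS c x' ↔ InW c x' w := by
  constructor
  · intro h
    exact ⟨by rw [polB_comm]; exact h c (Submodule.subset_span ⟨0, rfl⟩),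
      by rw [polB_comm]; exact h x' (Submodule.subset_span ⟨1, rfl⟩)⟩
  · intro h x hx
    show B8 x w = 0
    rw [polB_comm]
    refine perp_span ?_ x hx
    rintro _ ⟨i, rfl⟩
    fin_cases i
    exacts [h.1, h.2]

theorem Hyp.card_W (H : Hyp c x') : Nat.card {w // InW c x' w} = 64 := by
  have h1 : Module.finrank (ZMod 2) (WS c x') + 2 = 8 := by
    have := finrank_orth_add nd8 (Submodule.span (ZMod 2) (Set.range ![c, x']))
    rw [finrank_span_eq_card H.li2, dim8, Fintype.card_fin] at this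
    exact this
  have h2 := card8 (WS c x')
  rw [show Module.finrank (ZMod 2) (WS c x') = 6 by omega] at h2
  rw [← Nat.card_congr (Equiv.subtypeEquivRight fun w => mem_WS (w := w))]
  exact h2

/-- The complement of two vectors inside the complement of a pair. -/
def InC (c x' s₁ s₂ w : V8) : Prop := InW c x' w ∧ B8 w s₁ = 0 ∧ B8 w s₂ = 0

/-- The four combinations. -/
def InL (s₁ s₂ w : V8) : Prop := w = 0 ∨ w = s₁ ∨ w = s₂ ∨ w = s₁ + s₂

variable {s₁ s₂ : V8}

theorem Hyp.card_C (H : Hyp c x') (h1 : InW c x' s₁) (h2 : InW c x' s₂) (hi : Ind s₁ s₂) :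
    Nat.card {w // InC c x' s₁ s₂ w} = 16 := by
  set X := Submodule.span (ZMod 2) (Set.range ![c, x', s₁, s₂])
  have hmem : ∀ w, w ∈ (B8).orthogonal X ↔ InC c x' s₁ s₂ w := by
    intro w
    constructor
    · intro h
      have e : ∀ i, B8 w (![c, x', s₁, s₂] i) = 0 := fun i => by
        rw [polB_comm]; exact h _ (Submodule.subset_span ⟨i, rfl⟩)
      exact ⟨⟨e 0, e 1⟩, e 2, e 3⟩
    · intro h x hx
      show B8 x w = 0
      rw [polB_comm]
      refine perp_span ?_ x hx
      rintro _ ⟨i, rfl⟩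
      fin_cases i
      exacts [h.1.1, h.1.2, h.2.1, h.2.2]
  have e1 := finrank_orth_add nd8 X
  rw [finrank_span_eq_card (H.li4 h1 h2 hi), dim8, Fintype.card_fin] at e1
  rw [← Nat.card_congr (Equiv.subtypeEquivRight hmem)]
  have := card8 ((B8).orthogonal X)
  rw [show Module.finrank (ZMod 2) ↥((B8).orthogonal X) = 4 by
    show Module.finrank (ZMod 2) ↥((polB q8).orthogonal X) = 4
    omega] at this
  exact this

theorem Hyp.perp_C (H : Hyp c x') (h1 : InW c x' s₁) (h2 : InW c x' s₂) {t : V8} (ht : InW c x' t)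
    (h : ∀ x, InC c x' s₁ s₂ x → B8 t x = 0) : InL s₁ s₂ t := by
  set X := Submodule.span (ZMod 2) (Set.range ![c, x', s₁, s₂])
  have hm : t ∈ (B8).orthogonal ((B8).orthogonal X) := by
    intro x hx
    show B8 x t = 0
    rw [polB_comm]
    refine h x ?_
    have e : ∀ i, B8 x (![c, x', s₁, s₂] i) = 0 := fun i => by
      rw [polB_comm]; exact hx _ (Submodule.subset_span ⟨i, rfl⟩)
    exact ⟨⟨e 0, e 1⟩, e 2, e 3⟩
  rw [LinearMap.BilinForm.orthogonal_orthogonal nd8 (polB_isRefl q8)] at hm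
  obtain ⟨f, hf⟩ := (Submodule.mem_span_range_iff_exists_fun _).mp hm
  simp only [Fin.sum_univ_four, Matrix.cons_val_zero, Matrix.cons_val_one, Matrix.cons_val] at hf
  have hp : proj c x' t = proj c x' (f 0 • c + f 1 • x' + f 2 • s₁ + f 3 • s₂) := by rw [hf]
  rw [ht.proj_eq] at hp
  simp only [map_add, map_smul, H.proj_c, H.proj_x, smul_zero, zero_add] at hp
  rw [InL, hp, h1.proj_eq, h2.proj_eq]
  rcases z2c (f 2) with e | e <;> rcases z2c (f 3) with e' | e' <;> rw [e, e'] <;> simp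

end H79.Co1T
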