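import Cfsg.Agent.H79.Co1T.Frame

/-!
Groups of Conway type: the radical of a frame in coordinates.
-/

set_option autoImplicit false
set_option linter.unusedSectionVars false

namespace H79.Co1T

open H43
open H69 (LXFam)
open H69.LXFam (Sing)
open H69.Pair (half mem_half)

variable {G : Type*} [Group G] [Finite G]

/-- The radical of two orthogonal conjugates. -/
abbrev radR (F : G → Subgroup G) (p u : G) : Subgroup G := half F u p ⊔ half F p u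

theorem radR_map {F : G → Subgroup G} {z : G} (L : LXFam F z) (g : G) {p u x : G}
    (hx : x ∈ radR F p u) : g * x * g⁻¹ ∈ radR F (g * p * g⁻¹) (g * u * g⁻¹) := by
  have key : ∀ a b, ∀ y ∈ half F a b, g * y * g⁻¹ ∈ half F (g * a * g⁻¹) (g * b * g⁻¹) := by
    intro a b y hy
    obtain ⟨h1, h2⟩ := mem_half.mp hy
    refine mem_half.mpr ⟨L.mem_Q_conj g h1, ?_⟩
    calc g * y * g⁻¹ * (g * b * g⁻¹) = g * (y * b) * g⁻¹ := by group
      _ = _ := by rw [h2]; group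
  have hm : (radR F p u).map (MulAut.conj g).toMonoidHom ≤
      radR F (g * p * g⁻¹) (g * u * g⁻¹) := by
    rw [Subgroup.map_sup]
    refine sup_le_sup ?_ ?_
    · rintro _ ⟨y, hy, rfl⟩
      exact key u p y hy
    · rintro _ ⟨y, hy, rfl⟩
      exact key p u y hy
  exact hm ⟨x, hx, rfl⟩

namespace Frame

variable {F : G → Subgroup G} {z p u : G} {π : G → V8} {ρ : G → orthGroup q8} {x' : V8}

/-- The coordinates of an element of the radical. -/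
def IsPair (Fr : Frame F z p u π ρ x') (r : G) (w₁ w₂ : V8) : Prop :=
  ∃ a ∈ half F p u, ∃ b ∈ half F u p, r = a * b ∧ Fr.α a = w₁ ∧ Fr.β b = w₂

/-- The action on the complement. -/
noncomputable def gW (_ : Frame F z p u π ρ x') (d : G) (w : V8) : V8 :=
  proj (π u) x' ((ρ d).1 w)

variable {r r' : G} {w₁ w₂ w₁' w₂' : V8}

theorem IsPair.inW {Fr : Frame F z p u π ρ x'} (h : Fr.IsPair r w₁ w₂) :
    InW (π u) x' w₁ ∧ InW (π u) x' w₂ := by
  obtain ⟨a, -, b, -, -, rfl, rfl⟩ := h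
  exact ⟨Fr.α_inW a, Fr.β_inW b⟩

theorem IsPair.mem {Fr : Frame F z p u π ρ x'} (h : Fr.IsPair r w₁ w₂) : r ∈ radR F p u := by
  obtain ⟨a, ha, b, hb, rfl, -, -⟩ := h
  exact mul_mem (Subgroup.mem_sup_right ha) (Subgroup.mem_sup_left hb)

theorem IsPair.comm {Fr : Frame F z p u π ρ x'} (h : Fr.IsPair r w₁ w₂) :
    Commute r p ∧ Commute r u := by
  obtain ⟨a, ha, b, hb, rfl, -, -⟩ := h
  exact ⟨(Fr.acomm ha).1.mul_left (Fr.bcomm hb).1, (Fr.acomm ha).2.mul_left (Fr.bcomm hb).2⟩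

theorem IsPair.rho {Fr : Frame F z p u π ρ x'} (h : Fr.IsPair r w₁ w₂) :
    ρ r = eichler q8 (π u) w₂ := by
  obtain ⟨a, ha, b, hb, rfl, -, rfl⟩ := h
  rw [Fr.P.ρ_mul (Fr.acomm ha).1 (Fr.bcomm hb).1, Fr.P.ρ_mem (mem_half.mp ha).1, one_mul,
    Fr.β_spec hb]

theorem conj_A_B (Fr : Frame F z p u π ρ x') {a b : G} (ha : a ∈ half F p u) (hb : b ∈ half F u p) :
    a * b * a⁻¹ ∈ half F u p ∧ Fr.β (a * b * a⁻¹) = Fr.β b := by
  obtain ⟨h1, h2⟩ := Fr.conj_halfB (Fr.acomm ha).1 (Fr.acomm ha).2 hb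
  rw [Fr.P.ρ_mem (mem_half.mp ha).1, orth_one_apply, (Fr.β_inW b).proj_eq] at h2
  exact ⟨h1, h2⟩

theorem exists_pair (Fr : Frame F z p u π ρ x') (h : r ∈ radR F p u) :
    ∃ w₁ w₂, Fr.IsPair r w₁ w₂ := by
  obtain ⟨b, hb, a, ha, rfl⟩ := Fr.pair.mem_rad.mp h
  obtain ⟨hb', hβ⟩ := Fr.conj_A_B (inv_mem ha) hb
  exact ⟨_, _, a, ha, a⁻¹ * b * a⁻¹⁻¹, hb', by group, rfl, rfl⟩

theorem IsPair.unique {Fr : Frame F z p u π ρ x'} (h : Fr.IsPair r w₁ w₂)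
    (h' : Fr.IsPair r w₁' w₂') : w₁ = w₁' ∧ w₂ = w₂' := by
  have h2 : w₂ = w₂' := Fr.H.eichler_inj h.inW.2 h'.inW.2 (h.rho.symm.trans h'.rho)
  refine ⟨?_, h2⟩
  obtain ⟨a, ha, b, hb, rfl, rfl, rfl⟩ := h
  obtain ⟨a', ha', b', hb', e, rfl, rfl⟩ := h'
  have hm : a'⁻¹ * a ∈ half F u p := by
    have : a'⁻¹ * a = b' * b⁻¹ := by
      calc a'⁻¹ * a = a'⁻¹ * (a * b) * b⁻¹ := by group
        _ = _ := by rw [e]; group
    rw [this]
    exact mul_mem hb' (inv_mem hb)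
  obtain ⟨i, j, he⟩ := Fr.inf_cases
    ⟨(F p).mul_mem ((F p).inv_mem (mem_half.mp ha').1) (mem_half.mp ha).1, (mem_half.mp hm).1⟩
  rw [show a = a' * ep p u i j by rw [← he]; group,
    Fr.α_mul (mem_half.mp ha').1 (Fr.ep_mem i j).1, Fr.α_ep, add_zero]

theorem IsPair.mul {Fr : Frame F z p u π ρ x'} (h : Fr.IsPair r w₁ w₂)
    (h' : Fr.IsPair r' w₁' w₂') : Fr.IsPair (r * r') (w₁ + w₁') (w₂ + w₂') := by
  obtain ⟨a, ha, b, hb, rfl, rfl, rfl⟩ := h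
  obtain ⟨a', ha', b', hb', rfl, rfl, rfl⟩ := h'
  obtain ⟨hc, hβ⟩ := Fr.conj_A_B (inv_mem ha') hb
  refine ⟨a * a', mul_mem ha ha', a'⁻¹ * b * a'⁻¹⁻¹ * b', mul_mem hc hb', by group,
    Fr.α_mul (mem_half.mp ha).1 (mem_half.mp ha').1, ?_⟩
  rw [Fr.β_mul hc hb', hβ]

theorem pair_ep (Fr : Frame F z p u π ρ x') (i j : ZMod 2) : Fr.IsPair (ep p u i j) 0 0 :=
  ⟨ep p u i j, Fr.pair.inf_le_half (Fr.ep_mem i j), 1, one_mem _, (mul_one _).symm, Fr.α_ep i j,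
    Fr.β_mem (one_mem _)⟩

theorem pair_A (Fr : Frame F z p u π ρ x') {a : G} (ha : a ∈ half F p u) :
    Fr.IsPair a (Fr.α a) 0 :=
  ⟨a, ha, 1, one_mem _, (mul_one _).symm, rfl, Fr.β_mem (one_mem _)⟩

theorem pair_B (Fr : Frame F z p u π ρ x') {b : G} (hb : b ∈ half F u p) :
    Fr.IsPair b 0 (Fr.β b) :=
  ⟨1, one_mem _, b, hb, (one_mul _).symm, by
    have := Fr.α_ep 0 0
    rwa [Fr.ep_zero] at this, rfl⟩

theorem IsPair.zero {Fr : Frame F z p u π ρ x'} (h : Fr.IsPair r 0 0) : ∃ i j, r = ep p u i j := by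
  obtain ⟨a, ha, b, hb, rfl, h1, h2⟩ := h
  obtain ⟨i, j, rfl⟩ := Fr.α_ker ha h1
  obtain ⟨i', j', rfl⟩ := Fr.β_ker hb h2
  exact ⟨_, _, Fr.ep_mul i j i' j'⟩

/-- The first exponent of a square. -/
noncomputable def kp (w₁ w₂ : V8) : ZMod 2 := q8 w₁ + B8 w₁ w₂

/-- The second exponent of a square. -/
noncomputable def ku (w₁ w₂ : V8) : ZMod 2 := q8 w₂ + B8 w₁ w₂

theorem IsPair.sq {Fr : Frame F z p u π ρ x'} (h : Fr.IsPair r w₁ w₂) :
    r * r = ep p u (kp w₁ w₂) (ku w₁ w₂) := by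
  obtain ⟨a, ha, b, hb, rfl, rfl, rfl⟩ := h
  have e1 : a * a = ep p u (q8 (Fr.α a)) 0 := by rw [Fr.sq_a ha, ep, bp_zero, mul_one]
  have e2 : b * b = ep p u 0 (q8 (Fr.β b)) := by rw [Fr.sq_b hb, ep, bp_zero, one_mul]
  have hab : a * b = ep p u (B8 (Fr.α a) (Fr.β b)) (B8 (Fr.α a) (Fr.β b)) * (b * a) := by
    rw [← Fr.comm_ab ha hb]; group
  have hc := Fr.ep_comm (Fr.acomm ha).1 (Fr.acomm ha).2
  have hcb := Fr.ep_comm (Fr.bcomm hb).1 (Fr.bcomm hb).2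
  calc a * b * (a * b) = ep p u (B8 (Fr.α a) (Fr.β b)) (B8 (Fr.α a) (Fr.β b)) *
        (b * (a * a) * b) := by
        conv_lhs => rw [mul_assoc a b, ← mul_assoc b a b]
        calc a * (b * a * b) = a * b * (a * b) := by group
          _ = ep p u (B8 (Fr.α a) (Fr.β b)) (B8 (Fr.α a) (Fr.β b)) * (b * a) * (a * b) := by
              conv_lhs => arg 1; rw [hab]
          _ = _ := by group
    _ = ep p u (B8 (Fr.α a) (Fr.β b)) (B8 (Fr.α a) (Fr.β b)) * (ep p u (q8 (Fr.α a)) 0 * (b * b)) := by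
        rw [e1, (hcb _ _).eq, mul_assoc (ep p u (q8 (Fr.α a)) 0)]
    _ = _ := by
        rw [e2, Fr.ep_mul, Fr.ep_mul, zero_add, add_zero, kp, ku, add_comm (q8 (Fr.α a)),
          add_comm (q8 (Fr.β b))]

theorem IsPair.invol {Fr : Frame F z p u π ρ x'} (h : Fr.IsPair r w₁ w₂) :
    r * r = 1 ↔ q8 w₁ = B8 w₁ w₂ ∧ q8 w₂ = B8 w₁ w₂ := by
  rw [h.sq, ← Fr.ep_zero]
  have key : ∀ a b : ZMod 2, a + b = 0 ↔ a = b := by decide
  refine ⟨fun e => ?_, fun e => ?_⟩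
  · obtain ⟨h1, h2⟩ := Fr.ep_inj e
    exact ⟨(key _ _).mp h1, (key _ _).mp h2⟩
  · rw [kp, ku, (key _ _).mpr e.1, (key _ _).mpr e.2]

theorem IsPair.commutator {Fr : Frame F z p u π ρ x'} (h : Fr.IsPair r w₁ w₂)
    (h' : Fr.IsPair r' w₁' w₂') :
    r * r' * r⁻¹ * r'⁻¹ = ep p u (B8 w₁ w₁' + B8 w₁ w₂' + B8 w₁' w₂)
      (B8 w₂ w₂' + B8 w₁ w₂' + B8 w₁' w₂) := by
  have hs := (h.mul h').sq
  have hs1 := h.sq
  have hs2 := h'.sq
  have hc : Commute r' (r * r) := by rw [hs1]; exact Fr.ep_comm h'.comm.1 h'.comm.2 _ _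
  calc r * r' * r⁻¹ * r'⁻¹ = r * r' * (r * r') * (r'⁻¹ * (r * r)⁻¹) * r'⁻¹ := by group
    _ = r * r' * (r * r') * (r * r)⁻¹ * (r' * r')⁻¹ := by rw [hc.inv_left.inv_right.eq]; group
    _ = _ := by
        rw [hs, hs1, hs2, Fr.ep_inv, Fr.ep_inv, Fr.ep_mul, Fr.ep_mul]
        simp only [kp, ku, q_add, map_add, LinearMap.add_apply, B8]
        rw [polB_comm w₁' w₂]
        congr 1 <;> ring_nf <;> simp [CharTwo.two_eq_zero]

theorem IsPair.conj {Fr : Frame F z p u π ρ x'} (h : Fr.IsPair r w₁ w₂) {d : G} (hdp : Commute d p)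
    (hdu : Commute d u) : Fr.IsPair (d * r * d⁻¹) (Fr.gW d w₁) (Fr.gW d w₂) := by
  obtain ⟨a, ha, b, hb, rfl, rfl, rfl⟩ := h
  obtain ⟨ha', hα⟩ := Fr.conj_halfA hdp hdu ha
  obtain ⟨hb', hβ⟩ := Fr.conj_halfB hdp hdu hb
  exact ⟨_, ha', _, hb', by group, hα, hβ⟩

theorem gW_inW (Fr : Frame F z p u π ρ x') (d : G) (w : V8) : InW (π u) x' (Fr.gW d w) :=
  Fr.H.proj_inW _

theorem gW_mul (Fr : Frame F z p u π ρ x') {d e : G} (hdp : Commute d p) (hdu : Commute d u)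
    (hep : Commute e p) (heu : Commute e u) {w : V8} (hw : InW (π u) x' w) :
    Fr.gW (d * e) w = Fr.gW d (Fr.gW e w) := by
  rw [gW, gW, gW, Fr.P.ρ_mul hdp hep, orth_mul_apply, Fr.H.proj_g (Fr.fix_u hdp hdu)]
  exact perp_g (Fr.fix_u hep heu) hw.1

theorem gW_B (Fr : Frame F z p u π ρ x') {d : G} (hdp : Commute d p) (hdu : Commute d u)
    {v w : V8} (hv : InW (π u) x' v) (hw : InW (π u) x' w) :
    B8 (Fr.gW d v) (Fr.gW d w) = B8 v w := by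
  rw [gW, gW, Fr.H.B_proj (perp_g (Fr.fix_u hdp hdu) hv.1) (perp_g (Fr.fix_u hdp hdu) hw.1)]
  exact orth_polB_map _ v w

theorem gW_q (Fr : Frame F z p u π ρ x') {d : G} (hdp : Commute d p) (hdu : Commute d u)
    {w : V8} (hw : InW (π u) x' w) : q8 (Fr.gW d w) = q8 w := by
  rw [gW, Fr.H.q_proj (perp_g (Fr.fix_u hdp hdu) hw.1)]
  exact orth_qmap _ w

theorem gW_rad (Fr : Frame F z p u π ρ x') (h : Fr.IsPair r w₁ w₂) {w : V8}
    (hw : InW (π u) x' w) : Fr.gW r w = w := by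
  rw [gW, h.rho, eichler2 Fr.H.qc h.inW.2.mono.1, show polB q8 w (π u) = 0 from hw.1, zero_smul,
    mul_zero, zero_smul, add_zero, add_zero, map_add, map_smul, Fr.H.proj_c, smul_zero, add_zero,
    hw.proj_eq]

/-- The radical is the kernel of the action on the complement. -/
theorem mem_radR_of (Fr : Frame F z p u π ρ x') {d : G} (hdp : Commute d p) (hdu : Commute d u)
    (h : ∀ w, InW (π u) x' w → Fr.gW d w = w) : d ∈ radR F p u := by
  have hfix := Fr.fix_u hdp hdu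
  obtain ⟨h1, h2⟩ := eq_eichler Fr.H.qc Fr.H.qx Fr.H.xc (ρ d) hfix (fun x hx => by
    refine Fr.H.proj_eq_cases (perp_g hfix hx) hx ?_
    rw [← Fr.H.proj_g hfix hx]
    exact h _ (Fr.H.proj_inW x))
  obtain ⟨b, hb, hρb, -⟩ := Fr.exists_eichler h1
  have hF : b⁻¹ * d ∈ F p := Fr.P.ρ_eq (Fr.bcomm hb).1 hdp (hρb.trans h2.symm)
  have hA : b⁻¹ * d ∈ half F p u :=
    mem_half.mpr ⟨hF, ((Fr.bcomm hb).2.inv_left.mul_left hdu).eq⟩
  have := mul_mem (Subgroup.mem_sup_left hb : b ∈ radR F p u) (Subgroup.mem_sup_right hA)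
  rwa [mul_inv_cancel_left] at this

/-- Conjugation by an element of `F p` moving `u`. -/
theorem IsPair.mover {Fr : Frame F z p u π ρ x'} (h : Fr.IsPair r w₁ w₂) {m : G} (hm : m ∈ F p)
    (hmv : π m = x') : Fr.IsPair (m * r * m⁻¹) (w₁ + w₂) w₂ := by
  obtain ⟨a, ha, b, hb, rfl, rfl, rfl⟩ := h
  obtain ⟨a', ha', hα, hmb⟩ := Fr.mover_conj hm hmv hb
  have hma : m * a * m⁻¹ = bp p (B8 (π m) (π a)) * a := Fr.P.commutator hm (mem_half.mp ha).1
  have hpm : bp p (B8 (π m) (π a)) ∈ half F p u := bp_mem (Fr.pair.inf_le_half Fr.pair.u_mem_inf) _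
  refine ⟨bp p (B8 (π m) (π a)) * a * a', mul_mem (mul_mem hpm ha) ha', b, hb, ?_, ?_, rfl⟩
  · rw [show m * (a * b) * m⁻¹ = m * a * m⁻¹ * (m * b * m⁻¹) by group, hma, hmb]; group
  · rw [Fr.α_mul (mul_mem (bp_mem Fr.P.mem _) (mem_half.mp ha).1) (mem_half.mp ha').1,
      Fr.α_mul (bp_mem Fr.P.mem _) (mem_half.mp ha).1, hα, α, Fr.P.πbp, map_zero, zero_add]

/-- Conjugation by the swap. -/
theorem IsPair.swap {Fr : Frame F z p u π ρ x'} (h : Fr.IsPair r w₁ w₂) {g : G}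
    (h1 : g * p * g⁻¹ = u) (h2 : g * u * g⁻¹ = p) :
    ∃ v₁ v₂, Fr.IsPair (g * r * g⁻¹) v₁ v₂ ∧ q8 v₁ = q8 w₂ ∧ q8 v₂ = q8 w₁ := by
  obtain ⟨a, ha, b, hb, rfl, rfl, rfl⟩ := h
  have hA := Fr.swap_B h1 h2 hb
  have hB := Fr.swap_A h1 h2 ha
  refine ⟨0 + Fr.α (g * b * g⁻¹), Fr.β (g * a * g⁻¹) + 0, ?_, ?_, ?_⟩
  · rw [show g * (a * b) * g⁻¹ = g * a * g⁻¹ * (g * b * g⁻¹) by group]
    exact (Fr.pair_B hB).mul (Fr.pair_A hA)
  · rw [zero_add]
    refine bp_inj Fr.P.pne ?_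
    rw [← Fr.sq_a hA, show g * b * g⁻¹ * (g * b * g⁻¹) = g * (b * b) * g⁻¹ by group, Fr.sq_b hb]
    simp only [bp]
    rw [← conj_pow, h2]
  · rw [add_zero]
    refine bp_inj Fr.upne ?_
    rw [← Fr.sq_b hB, show g * a * g⁻¹ * (g * a * g⁻¹) = g * (a * a) * g⁻¹ by group, Fr.sq_a ha]
    simp only [bp]
    rw [← conj_pow, h1]

/-- Involutions with independent coordinates are conjugate in their coset of the intersection. -/
theorem IsPair.coset {Fr : Frame F z p u π ρ x'} (h : Fr.IsPair r w₁ w₂) (hi : Ind w₁ w₂)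
    (i j : ZMod 2) :
    ∃ x ∈ half F p u, x * r * x⁻¹ = ep p u i j * r := by
  obtain ⟨w, hw, hw1, hw2⟩ := Fr.H.exists_two (h.inW.1.add h.inW.2) h.inW.2 hi.sum i j
  obtain ⟨a, ha, hα, -⟩ := Fr.α_surj hw
  refine ⟨a, ha, mul_inv_eq_iff_eq_mul.mp ?_⟩
  rw [(Fr.pair_A ha).commutator h, hα]
  congr 1
  · rw [map_zero, add_zero, ← map_add, hw1]
  · simp [hw2]

/-- Conjugacy of involutions with independent coordinates. -/
theorem IsPair.isConj {Fr : Frame F z p u π ρ x'} (h : Fr.IsPair r w₁ w₂)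
    (h' : Fr.IsPair r' w₁' w₂') (hi : Ind w₁ w₂) (hi' : Ind w₁' w₂') (q1 : q8 w₁ = q8 w₁')
    (q2 : q8 w₂ = q8 w₂') (hB : B8 w₁ w₂ = B8 w₁' w₂') : IsConj r r' := by
  obtain ⟨g, hg, hgu, -, hg1, hg2⟩ := Fr.H.witt4 h.inW.1 h.inW.2 hi h'.inW.1 h'.inW.2 hi' q1 q2 hB
  obtain ⟨d, hdp, hdu, hdg⟩ := Fr.exists_stab hg hgu
  have hd := h.conj hdp hdu
  rw [gW, gW, hdg, hg1, hg2, h'.inW.1.proj_eq, h'.inW.2.proj_eq] at hd
  obtain ⟨v₁, v₂, hv⟩ := Fr.exists_pair (inv_mem hd.mem)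
  have h0 := hd.mul hv
  rw [mul_inv_cancel] at h0
  obtain ⟨z1, z2⟩ := h0.unique (by have := Fr.pair_ep 0 0; rwa [Fr.ep_zero] at this)
  rw [← eq_of_vadd_eq_zero z1, ← eq_of_vadd_eq_zero z2] at hv
  have he := h'.mul hv
  rw [vadd_self, vadd_self] at he
  obtain ⟨i, j, hij⟩ := he.zero
  obtain ⟨x, -, hx⟩ := hd.coset hi' i j
  refine isConj_iff.mpr ⟨x * d, ?_⟩
  rw [show x * d * r * (x * d)⁻¹ = x * (d * r * d⁻¹) * x⁻¹ by group, hx, ← hij]
  group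

/-- Involutions with dependent coordinates are conjugates of the central involution. -/
theorem IsPair.sing_of_dep {Fr : Frame F z p u π ρ x'} (h : Fr.IsPair r w₁ w₂) (hd : ¬ Ind w₁ w₂)
    (h2 : r * r = 1) (h1 : r ≠ 1) : Sing z r := by
  have caseB : ∀ {r : G} {w : V8}, Fr.IsPair r 0 w → r * r = 1 → r ≠ 1 → Sing z r := by
    intro r w h h2 h1
    obtain ⟨a, ha, b, hb, rfl, hα, -⟩ := h
    obtain ⟨i, j, rfl⟩ := Fr.α_ker ha hα
    exact Fr.W.sing_mem Fr.su (mul_mem (Fr.ep_mem i j).2 (mem_half.mp hb).1) h2 h1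
  simp only [Ind, not_and_or, not_not] at hd
  rcases hd with rfl | rfl | rfl
  · exact caseB h h2 h1
  · obtain ⟨a, ha, b, hb, rfl, -, hβ⟩ := h
    obtain ⟨i, j, rfl⟩ := Fr.β_ker hb hβ
    exact Fr.W.sing_mem Fr.sp (mul_mem (mem_half.mp ha).1 (Fr.ep_mem i j).1) h2 h1
  · obtain ⟨m, hm, hmv⟩ := Fr.P.surj x'
    have h' := h.mover hm hmv
    rw [vadd_self] at h'
    have hs := caseB h' (by
      rw [show m * r * m⁻¹ * (m * r * m⁻¹) = m * (r * r) * m⁻¹ by group, h2]; group)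
      (fun e => h1 (conj_eq_one_iff.mp e))
    have := World.sing_conj hs m⁻¹
    simpa [mul_assoc] using this

theorem gW_ep (Fr : Frame F z p u π ρ x') {w : V8} (hw : InW (π u) x' w) : Fr.gW 1 w = w := by
  rw [gW, Fr.P.ρ_one, orth_one_apply, hw.proj_eq]

/-- The coordinates as a homomorphism. -/
noncomputable def pairHom (Fr : Frame F z p u π ρ x') :
    radR F p u →* Multiplicative (WS (π u) x' × WS (π u) x') :=
  MonoidHom.mk'
    (fun r => Multiplicative.ofAdd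
      (⟨(Fr.exists_pair r.2).choose, mem_WS.mpr (Fr.exists_pair r.2).choose_spec.choose_spec.inW.1⟩,
        ⟨(Fr.exists_pair r.2).choose_spec.choose,
          mem_WS.mpr (Fr.exists_pair r.2).choose_spec.choose_spec.inW.2⟩))
    (fun r s => by
      apply Multiplicative.toAdd.injective
      obtain ⟨e1, e2⟩ := ((Fr.exists_pair r.2).choose_spec.choose_spec.mul
        (Fr.exists_pair s.2).choose_spec.choose_spec).unique
          (Fr.exists_pair (r * s).2).choose_spec.choose_spec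
      exact Prod.ext (Subtype.ext e1.symm) (Subtype.ext e2.symm))

theorem card_radR (Fr : Frame F z p u π ρ x') : Nat.card ↥(radR F p u) = 16384 := by
  have hp : ∀ r : radR F p u, Fr.IsPair r
      ((Multiplicative.toAdd (Fr.pairHom r)).1 : V8) ((Multiplicative.toAdd (Fr.pairHom r)).2 : V8) :=
    fun r => (Fr.exists_pair r.2).choose_spec.choose_spec
  have hs : Function.Surjective Fr.pairHom := fun v => by
    obtain ⟨a, ha, hα, -⟩ := Fr.α_surj (mem_WS.mp (Multiplicative.toAdd v).1.2)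
    obtain ⟨b, hb, hβ⟩ := Fr.β_surj (mem_WS.mp (Multiplicative.toAdd v).2.2)
    have h := (Fr.pair_A ha).mul (Fr.pair_B hb)
    rw [add_zero, zero_add, hα, hβ] at h
    obtain ⟨e1, e2⟩ := (hp ⟨a * b, h.mem⟩).unique h
    exact ⟨⟨a * b, h.mem⟩, Multiplicative.toAdd.injective (Prod.ext (Subtype.ext e1) (Subtype.ext e2))⟩
  have hk : Fr.pairHom.ker = (F p ⊓ F u).subgroupOf (radR F p u) := by
    ext r
    rw [MonoidHom.mem_ker, Subgroup.mem_subgroupOf, ← toAdd_eq_zero]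
    refine ⟨fun h => ?_, fun h => ?_⟩
    · have := hp r
      rw [h] at this
      obtain ⟨i, j, e⟩ := IsPair.zero (by simpa using this)
      rw [e]; exact Fr.ep_mem i j
    · obtain ⟨i, j, e⟩ := Fr.inf_cases h
      have h0 := hp r
      rw [e] at h0
      obtain ⟨e1, e2⟩ := h0.unique (Fr.pair_ep i j)
      exact Prod.ext (Subtype.ext e1) (Subtype.ext e2)
  rw [Subgroup.card_eq_card_quotient_mul_card_subgroup Fr.pairHom.ker,
    Nat.card_congr (QuotientGroup.quotientKerEquivOfSurjective _ hs).toEquiv, hk,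
    Nat.card_congr (Subgroup.subgroupOfEquivOfLe Fr.pair.inf_le_rad).toEquiv, Fr.card_inf,
    Nat.card_congr Multiplicative.toAdd, Nat.card_prod,
    Nat.card_congr (Equiv.subtypeEquivRight fun w => mem_WS), Fr.H.card_W]

end Frame

end H79.Co1T
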