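import Cfsg.Agent.H79.Co1T.Split

/-!
Groups of Conway type: involutions outside the radical are in the radical of another frame.
-/

set_option autoImplicit false
set_option linter.unusedSectionVars false

namespace H79.Co1T

open H43
open H69 (LXFam)
open H69.LXFam (Sing)
open H69.Pair (half mem_half)

variable {G : Type*} [Group G] [Finite G]

namespace Frame

variable {F : G → Subgroup G} {z p u : G} {π : G → V8} {ρ : G → orthGroup q8} {x' : V8}

/-- Decomposition of an involution outside the radical. -/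
structure Outer (Fr : Frame F z p u π ρ x') (y d r : G) (v w s₁ s₂ w₁ w₂ t : V8) : Prop where
  hv : InW (π u) x' v
  hw : InW (π u) x' w
  h1 : InW (π u) x' s₁
  h2 : InW (π u) x' s₂
  hi : Ind s₁ s₂
  q1 : q8 s₁ = 0
  q2 : q8 s₂ = 0
  hB : B8 s₁ s₂ = 0
  v1 : B8 v s₁ = 0
  v2 : B8 v s₂ = 1
  w1 : B8 w s₁ = 1
  w2 : B8 w s₂ = 0
  dd : d * d = 1
  dp : Commute d p
  du : Commute d u
  hρ : ρ d = eichler q8 s₁ s₂
  hy : y = d * r
  hr : Fr.IsPair r w₁ w₂
  w1C : InC (π u) x' s₁ s₂ w₁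
  w2C : InC (π u) x' s₁ s₂ w₂
  tC : InC (π u) x' s₁ s₂ t
  dA : ∀ a ∈ half F p u, InC (π u) x' s₁ s₂ (Fr.α a) → d * a * d⁻¹ = a
  dB : ∀ b ∈ half F u p, InC (π u) x' s₁ s₂ (Fr.β b) → d * b * d⁻¹ = bp p (B8 t (Fr.β b)) * b

theorem gW_tvp (Fr : Frame F z p u π ρ x') {d : G} {s₁ s₂ : V8} (h1 : InW (π u) x' s₁)
    (h2 : InW (π u) x' s₂) (q1 : q8 s₁ = 0) (q2 : q8 s₂ = 0) (hB : B8 s₁ s₂ = 0)
    (hρ : ρ d = eichler q8 s₁ s₂) {x : V8} (hx : InW (π u) x' x) :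
    Fr.gW d x = tvp s₁ s₂ x := by
  rw [gW, hρ, eichler2 q1 hB, q2, zero_mul, zero_smul, add_zero, map_add, map_add, map_smul,
    map_smul, hx.proj_eq, h1.proj_eq, h2.proj_eq, tvp]
  exact add_right_comm _ _ _

theorem tvp_tvp {s₁ s₂ : V8} (hB : B8 s₁ s₂ = 0) (x : V8) : tvp s₁ s₂ (tvp s₁ s₂ x) = x := by
  have h21 : polB q8 s₂ s₁ = 0 := by rw [polB_comm]; exact hB
  simp only [tvp, map_add, map_smul, LinearMap.add_apply, LinearMap.smul_apply, smul_eq_mul, B_self,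
    hB, h21, mul_zero, add_zero]
  calc x + B8 x s₂ • s₁ + B8 x s₁ • s₂ + B8 x s₂ • s₁ + B8 x s₁ • s₂
      = x + ((B8 x s₂ • s₁ + B8 x s₂ • s₁) + (B8 x s₁ • s₂ + B8 x s₁ • s₂)) := by abel
    _ = x := by rw [vadd_self, vadd_self, add_zero, add_zero]

theorem tvp_fix {s₁ s₂ x : V8} (hi : Ind s₁ s₂) (h : tvp s₁ s₂ x = x) :
    B8 x s₁ = 0 ∧ B8 x s₂ = 0 := by
  rw [tvp, add_assoc, add_eq_left] at h
  rcases z2c (B8 x s₁) with e | e <;> rcases z2c (B8 x s₂) with e' | e' <;> rw [e, e'] at h <;>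
    simp at h
  · exact ⟨e, e'⟩
  · exact absurd h hi.1
  · exact absurd h hi.2.1
  · exact absurd (eq_of_vadd_eq_zero h) hi.2.2

theorem exists_outer (Fr : Frame F z p u π ρ x') {y : G} (hy : y * y = 1) (hyp : Commute y p)
    (hyu : Commute y u) {v w s₁ s₂ : V8} (hv : InW (π u) x' v) (hw : InW (π u) x' w)
    (h1 : InW (π u) x' s₁) (h2 : InW (π u) x' s₂) (hi : Ind s₁ s₂) (q1 : q8 s₁ = 0) (q2 : q8 s₂ = 0)
    (hB : B8 s₁ s₂ = 0) (v1 : B8 v s₁ = 0) (v2 : B8 v s₂ = 1) (w1 : B8 w s₁ = 1) (w2 : B8 w s₂ = 0)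
    (hT : ∀ x, InW (π u) x' x → Fr.gW y x = tvp s₁ s₂ x) :
    ∃ d r w₁ w₂ t, Fr.Outer y d r v w s₁ s₂ w₁ w₂ t := by
  classical
  -- the frame at a lift of `s₁`
  obtain ⟨e₁, he₁, hπ₁⟩ := Fr.P.surj s₁
  have he₁2 : e₁ * e₁ = 1 := by rw [Fr.P.sq e₁ he₁, hπ₁, q1]; simp
  have he₁1 : e₁ ≠ 1 := fun h => hi.1 (by rw [← hπ₁, h, Fr.P.one])
  have he₁p : e₁ ≠ p := fun h => hi.1 (by rw [← hπ₁, h, Fr.P.πp])
  obtain ⟨x₁, H₁⟩ := exists_hyp q1 hi.1
  have Fv : Frame F z p e₁ π ρ x₁ :=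
    ⟨Fr.W, Fr.P, Fr.sp, he₁, Fr.W.sing_mem Fr.sp he₁ he₁2 he₁1, he₁p, H₁.qx, by rw [hπ₁]; exact H₁.cx⟩
  obtain ⟨d, hdm, hρd', hβd⟩ := Fv.exists_eichler (w := s₂) (by rw [hπ₁]; exact hB)
  have hρd : ρ d = eichler q8 s₁ s₂ := by rw [hρd', hπ₁]
  have hs2e : B8 s₂ (π e₁) = 0 := by rw [hπ₁, polB_comm]; exact hB
  have dd : d * d = 1 := by rw [Fv.sq_b hdm, hβd, Fv.H.q_proj hs2e, q2, bp_zero]
  have dp : Commute d p := (Fv.bcomm hdm).1
  have hA' : ∀ a ∈ F p, B8 (π a) s₁ = 0 → B8 (π a) s₂ = 0 → Commute d a := by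
    intro a ha ha1 ha2
    have haA : a ∈ half F p e₁ := Fv.memA.mpr ⟨ha, by rw [hπ₁]; exact ha1⟩
    have h := Fv.comm_ab haA hdm
    rw [hβd, α, Fv.H.B_proj (Fv.memA.mp haA).2 hs2e, ha2, Fv.ep_zero] at h
    exact (mul_inv_eq_iff_eq_mul.mp (mul_inv_eq_one.mp h)).symm
  have du : Commute d u := hA' u Fr.hu h1.mono.1 h2.mono.1
  have gWd : ∀ {x}, InW (π u) x' x → Fr.gW d x = tvp s₁ s₂ x := fun hx =>
    Fr.gW_tvp h1 h2 q1 q2 hB hρd hx
  have tW : ∀ {x}, InW (π u) x' x → InW (π u) x' (tvp s₁ s₂ x) := fun hx =>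
    (hx.add (h1.smul _)).add (h2.smul _)
  have hrm : d * y ∈ radR F p u := Fr.mem_radR_of (dp.mul_left hyp) (du.mul_left hyu) fun x hx => by
    rw [Fr.gW_mul dp du hyp hyu hx, hT x hx, gWd (tW hx), tvp_tvp hB]
  obtain ⟨w₁, w₂, hr⟩ := Fr.exists_pair hrm
  have di : d⁻¹ = d := inv_eq_of_mul_eq_one_right dd
  -- the coordinates are fixed by the transvections
  have hfix : tvp s₁ s₂ w₁ = w₁ ∧ tvp s₁ s₂ w₂ = w₂ := by
    have hc := hr.conj dp du
    rw [gWd hr.inW.1, gWd hr.inW.2] at hc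
    have h0 := hc.mul hr
    rw [show d * (d * y) * d⁻¹ * (d * y) = (d * d) * (y * (d⁻¹ * d) * y) by group, inv_mul_cancel,
      mul_one, hy, dd, one_mul] at h0
    obtain ⟨e1, e2⟩ := h0.unique (by have := Fr.pair_ep 0 0; rwa [Fr.ep_zero] at this)
    exact ⟨eq_of_vadd_eq_zero e1, eq_of_vadd_eq_zero e2⟩
  have w1C : InC (π u) x' s₁ s₂ w₁ := ⟨hr.inW.1, (tvp_fix hi hfix.1).1, (tvp_fix hi hfix.1).2⟩
  have w2C : InC (π u) x' s₁ s₂ w₂ := ⟨hr.inW.2, (tvp_fix hi hfix.2).1, (tvp_fix hi hfix.2).2⟩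
  have dA : ∀ a ∈ half F p u, InC (π u) x' s₁ s₂ (Fr.α a) → d * a * d⁻¹ = a := by
    intro a ha haC
    obtain ⟨haF, hau⟩ := Fr.memA.mp ha
    have e : ∀ {s}, InW (π u) x' s → B8 (π a) s = B8 (Fr.α a) s := fun {s} hs => by
      conv_rhs => rw [← hs.proj_eq]
      exact (Fr.H.B_proj hau hs.1).symm
    have hc := hA' a haF (by rw [e h1]; exact haC.2.1) (by rw [e h2]; exact haC.2.2)
    rw [hc.eq, mul_inv_cancel_right]
  -- commutators with the second half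
  have he₁A : e₁ ∈ half F p u := Fr.memA.mpr ⟨he₁, by rw [hπ₁]; exact h1.1⟩
  have hune : u ∉ F e₁ := fun hue => by
    obtain ⟨i, j, e⟩ := Fv.inf_cases (e := u) ⟨Fr.hu, hue⟩
    have := congrArg (fun g => B8 (π g) x') e
    rw [show B8 (π u) x' = 1 from Fr.hxu, Fv.π_ep, hπ₁, map_smul, LinearMap.smul_apply, h1.2,
      smul_zero] at this
    exact one_ne_zero this
  have hb0 : ∀ b ∈ half F u p, InC (π u) x' s₁ s₂ (Fr.β b) → ∃ i, d * b * d⁻¹ = bp p i * b := by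
    intro b hb hbC
    obtain ⟨hm, hβ⟩ := Fr.conj_halfB dp du hb
    have hβ' : Fr.β (d * b * d⁻¹) = Fr.β b := by
      rw [hβ]
      show Fr.gW d (Fr.β b) = _
      rw [gWd hbC.1, tvp, hbC.2.1, hbC.2.2, zero_smul, zero_smul, add_zero, add_zero]
    have hbi : b⁻¹ ∈ half F u p := inv_mem hb
    obtain ⟨i, j, he⟩ := Fr.β_ker (mul_mem hm hbi) (by
      rw [Fr.β_mul hm hbi, hβ', ← Fr.β_mul hb hbi, mul_inv_cancel, Fr.β_mem (one_mem _)])
    have hce : Commute b e₁ := by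
      have h := Fr.comm_ab he₁A hb
      have : Fr.α e₁ = s₁ := by rw [α, hπ₁, h1.proj_eq]
      rw [this, show B8 s₁ (Fr.β b) = 0 by rw [polB_comm]; exact hbC.2.1, Fr.ep_zero] at h
      exact (mul_inv_eq_iff_eq_mul.mp (mul_inv_eq_one.mp h)).symm
    have hdv : d ∈ F e₁ := (mem_half.mp hdm).1
    have hev : ep p u i j ∈ F e₁ := by
      rw [← he, show d * b * d⁻¹ * b⁻¹ = d * (b * d⁻¹ * b⁻¹) by group]
      exact mul_mem hdv (Fr.W.L.conj_mem (inv_mem hdv) hce)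
    rcases z2c j with rfl | rfl
    · refine ⟨i, mul_inv_eq_iff_eq_mul.mp ?_⟩
      rw [he, ep, bp_zero, mul_one]
    · exfalso
      apply hune
      have := mul_mem (inv_mem (bp_mem Fv.pair.vu i)) hev
      rwa [ep, inv_mul_cancel_left, bp_one] at this
  -- the functional
  let f : G → ZMod 2 := fun b => if d * b * d⁻¹ = b then 0 else 1
  have hf : ∀ b ∈ half F u p, InC (π u) x' s₁ s₂ (Fr.β b) → d * b * d⁻¹ = bp p (f b) * b := by
    intro b hb hbC
    obtain ⟨i, hi'⟩ := hb0 b hb hbC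
    rcases z2c i with rfl | rfl
    · rw [bp_zero, one_mul] at hi'
      simp [f, hi', bp_zero]
    · rw [bp_one] at hi'
      have hne : d * b * d⁻¹ ≠ b := by
        rw [hi']; exact fun e => Fr.P.pne (mul_eq_right.mp e)
      simp only [f, if_neg hne, bp_one]
      exact hi'
  have finj : ∀ {b i}, b ∈ half F u p → InC (π u) x' s₁ s₂ (Fr.β b) →
      d * b * d⁻¹ = bp p i * b → f b = i := fun hb hbC e =>
    bp_inj Fr.P.pne (mul_right_cancel ((hf _ hb hbC).symm.trans e))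
  have fwd : ∀ {b b'}, b ∈ half F u p → b' ∈ half F u p → InC (π u) x' s₁ s₂ (Fr.β b) →
      Fr.β b = Fr.β b' → f b = f b' := by
    intro b b' hb hb' hbC e
    obtain ⟨i, j, he⟩ := Fr.β_ker (mul_mem (inv_mem hb) hb') (by
      rw [Fr.β_mul (inv_mem hb) hb', ← e, ← Fr.β_mul (inv_mem hb) hb, inv_mul_cancel,
        Fr.β_mem (one_mem _)])
    refine (finj hb' (e ▸ hbC) ?_).symm
    rw [show b' = b * ep p u i j by rw [← he]; group,
      show d * (b * ep p u i j) * d⁻¹ = d * b * d⁻¹ * (d * ep p u i j * d⁻¹) by group,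
      hf b hb hbC, Fr.ep_conj dp du, mul_assoc]
  let pc : V8 → V8 := fun x => x + B8 x s₁ • w + B8 x s₂ • v
  have hpc : ∀ {x}, InW (π u) x' x → InC (π u) x' s₁ s₂ (pc x) := fun {x} hx =>
    ⟨(hx.add (hw.smul _)).add (hv.smul _), by
      simp only [pc, map_add, map_smul, LinearMap.add_apply, LinearMap.smul_apply, w1, v1,
        smul_eq_mul, mul_zero, mul_one, add_zero]
      exact ZModModule.add_self _, by
      simp only [pc, map_add, map_smul, LinearMap.add_apply, LinearMap.smul_apply, w2, v2,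
        smul_eq_mul, mul_zero, mul_one, add_zero]
      exact ZModModule.add_self _⟩
  have pc_add : ∀ a b, pc (a + b) = pc a + pc b := fun a b => by
    simp only [pc, map_add, LinearMap.add_apply, add_smul]; abel
  have pc_id : ∀ {x}, InC (π u) x' s₁ s₂ x → pc x = x := fun {x} hx => by
    simp only [pc, hx.2.1, hx.2.2, zero_smul, add_zero]
  have sec : ∀ x : V8, ∃ b ∈ half F u p, Fr.β b = proj (π u) x' x := fun x =>
    Fr.β_surj (Fr.H.proj_inW x)
  choose bs hbs hbsv using sec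
  have hbs' : ∀ b, Fr.β (bs (pc (Fr.β b))) = pc (Fr.β b) := fun b => by
    rw [hbsv, (hpc (Fr.β_inW b)).1.proj_eq]
  obtain ⟨t, htW, ht⟩ := Fr.exists_rep (fun b => f (bs (pc (Fr.β b)))) (fun {b b'} hb hb' => by
      have hC1 : InC (π u) x' s₁ s₂ (Fr.β (bs (pc (Fr.β b)))) := by
        rw [hbs']; exact hpc (Fr.β_inW b)
      have hC2 : InC (π u) x' s₁ s₂ (Fr.β (bs (pc (Fr.β b')))) := by
        rw [hbs']; exact hpc (Fr.β_inW b')
      have hm := mul_mem (hbs (pc (Fr.β b))) (hbs (pc (Fr.β b')))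
      have hC3 : InC (π u) x' s₁ s₂ (Fr.β (bs (pc (Fr.β (b * b'))))) := by
        rw [hbs']; exact hpc (Fr.β_inW _)
      have e3 : Fr.β (bs (pc (Fr.β (b * b')))) = Fr.β (bs (pc (Fr.β b)) * bs (pc (Fr.β b'))) := by
        rw [Fr.β_mul (hbs _) (hbs _), hbs', hbs', hbs', Fr.β_mul hb hb', pc_add]
      rw [fwd (hbs _) hm hC3 e3]
      refine finj hm (by rw [← e3]; exact hC3) ?_
      rw [show d * (bs (pc (Fr.β b)) * bs (pc (Fr.β b'))) * d⁻¹
          = d * bs (pc (Fr.β b)) * d⁻¹ * (d * bs (pc (Fr.β b')) * d⁻¹) by group,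
        hf _ (hbs _) hC1, hf _ (hbs _) hC2, ← bp_add Fr.P.pp, mul_assoc,
        ← mul_assoc (bs _) (bp p _), (bp_comm (Fr.bcomm (hbs _)).1 _).eq]
      group)
    (fun {b b'} _ _ e => by rw [e])
  have dB : ∀ b ∈ half F u p, InC (π u) x' s₁ s₂ (Fr.β b) →
      d * b * d⁻¹ = bp p (B8 t (Fr.β b)) * b := by
    intro b hb hbC
    rw [← ht hb, fwd (hbs _) hb (by rw [hbs']; exact hpc (Fr.β_inW b)) (by rw [hbs', pc_id hbC])]
    exact hf b hb hbC
  -- the vector is orthogonal to the axis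
  have horth : ∀ x s, InW (π u) x' x → tvp s₁ s₂ x + x = s → InC (π u) x' s₁ s₂ s → q8 s = 0 →
      B8 t s = 0 := by
    intro x s hx hxs hsC hqs
    obtain ⟨bv, hbv, hbvv⟩ := Fr.β_surj hx
    obtain ⟨hm, hβ⟩ := Fr.conj_halfB dp du hbv
    have hbi : bv⁻¹ ∈ half F u p := inv_mem hbv
    have hem : d * bv * d⁻¹ * bv⁻¹ ∈ half F u p := mul_mem hm hbi
    have heβ : Fr.β (d * bv * d⁻¹ * bv⁻¹) = s := by
      rw [Fr.β_mul hm hbi, hβ, hbvv,
        show Fr.β bv⁻¹ = x by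
          have := Fr.β_mul hbv hbi
          rw [mul_inv_cancel, Fr.β_mem (one_mem _), hbvv] at this
          exact (eq_of_vadd_eq_zero this.symm).symm]
      show Fr.gW d x + x = s
      rw [gWd hx, hxs]
    have he2 : d * bv * d⁻¹ * bv⁻¹ * (d * bv * d⁻¹ * bv⁻¹) = 1 := by
      rw [Fr.sq_b hem, heβ, hqs, bp_zero]
    rw [← heβ, ← ht hem, fwd (hbs _) hem (by rw [hbs']; exact hpc (Fr.β_inW _))
      (by rw [hbs', pc_id (by rw [heβ]; exact hsC)])]
    refine finj hem (by rw [heβ]; exact hsC) ?_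
    rw [bp_zero, one_mul]
    calc d * (d * bv * d⁻¹ * bv⁻¹) * d⁻¹ = (d * d) * bv * d⁻¹ * bv⁻¹ * d⁻¹ := by group
      _ = (d * bv * d⁻¹ * bv⁻¹)⁻¹ := by rw [dd, one_mul, di]; simp [di, mul_assoc]
      _ = _ := inv_eq_of_mul_eq_one_right he2
  have hs1C : InC (π u) x' s₁ s₂ s₁ := ⟨h1, B_self _, hB⟩
  have hs2C : InC (π u) x' s₁ s₂ s₂ := ⟨h2, by rw [polB_comm]; exact hB, B_self _⟩
  have tC : InC (π u) x' s₁ s₂ t := ⟨htW,
    horth v s₁ hv (by rw [tvp, v1, v2, one_smul, zero_smul, add_zero, add_comm v, add_assoc, vadd_self,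
      add_zero]) hs1C q1,
    horth w s₂ hw (by rw [tvp, w1, w2, zero_smul, one_smul, add_zero, add_comm w, add_assoc, vadd_self,
      add_zero]) hs2C q2⟩
  exact ⟨d, d * y, w₁, w₂, t, hv, hw, h1, h2, hi, q1, q2, hB, v1, v2, w1, w2, dd, dp, du, hρd,
    by rw [← mul_assoc, dd, one_mul], hr, w1C, w2C, tC, dA, dB⟩

variable {y d r : G} {v w s₁ s₂ w₁ w₂ t : V8}

theorem Outer.lin {Fr : Frame F z p u π ρ x'} (O : Fr.Outer y d r v w s₁ s₂ w₁ w₂ t) :
    InL s₁ s₂ s₁ ∧ InL s₁ s₂ s₂ ∧ ∀ l, InL s₁ s₂ l → q8 l = 0 ∧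
      ∀ x, InC (π u) x' s₁ s₂ x → B8 l x = 0 := by
  refine ⟨Or.inr (Or.inl rfl), Or.inr (Or.inr (Or.inl rfl)), fun l hl => ⟨?_, fun x hx => ?_⟩⟩
  · rcases hl with rfl | rfl | rfl | rfl
    · simp
    · exact O.q1
    · exact O.q2
    · rw [q_add, O.q1, O.q2, zero_add, zero_add]; exact O.hB
  · have a : polB q8 s₁ x = 0 := by rw [polB_comm]; exact hx.2.1
    have b : polB q8 s₂ x = 0 := by rw [polB_comm]; exact hx.2.2
    rcases hl with rfl | rfl | rfl | rfl <;> simp [a, b]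

/-- The vector of the outer element is singular. -/
theorem Outer.qt {Fr : Frame F z p u π ρ x'} (O : Fr.Outer y d r v w s₁ s₂ w₁ w₂ t) : q8 t = 0 := by
  by_cases htL : InL s₁ s₂ t
  · exact (O.lin.2.2 t htL).1
  obtain ⟨x, hxC, hx1⟩ : ∃ x, InC (π u) x' s₁ s₂ x ∧ B8 t x = 1 := by
    by_contra hno
    push Not at hno
    exact htL (Fr.H.perp_C O.h1 O.h2 O.tC.1 fun x hx => (z2c _).resolve_right (hno x hx))
  obtain ⟨πu, ρu, Pu⟩ := Fr.W.pt u Fr.su
  have hFu : ∀ {b}, b ∈ half F u p → b ∈ F u := fun hb => (mem_half.mp hb).1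
  obtain ⟨bx, hbx, hbxv⟩ := Fr.β_surj hxC.1
  obtain ⟨bt, hbt, hbtv⟩ := Fr.β_surj O.tC.1
  obtain ⟨bv, hbv, hbvv⟩ := Fr.β_surj O.hv
  obtain ⟨bw, hbw, hbwv⟩ := Fr.β_surj O.hw
  have hres : ∀ {f}, f ∈ F u → πu (d * f * d⁻¹ * f⁻¹) ∈ resid (ρu d) := fun {f} hf => by
    rw [Pu.map_mul _ (Pu.norm d O.du f hf) _ (inv_mem hf), Pu.act d O.du f hf, Pu.πinv hf]
    exact mem_resid _ _
  have hx2 : d * bx * d⁻¹ * bx⁻¹ = p := by
    rw [O.dB bx hbx (by rw [hbxv]; exact hxC), hbxv, hx1, bp_one, mul_inv_cancel_right]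
  set e1 := d * bv * d⁻¹ * bv⁻¹ with he1
  set e2 := d * bw * d⁻¹ * bw⁻¹ with he2
  have hcom : ∀ {b x s}, b ∈ half F u p → Fr.β b = x → tvp s₁ s₂ x + x = s → InW (π u) x' x →
      d * b * d⁻¹ * b⁻¹ ∈ half F u p ∧ Fr.β (d * b * d⁻¹ * b⁻¹) = s := by
    intro b x s hb hbv' hxs hxW
    obtain ⟨hm, hβ⟩ := Fr.conj_halfB O.dp O.du hb
    refine ⟨mul_mem hm (inv_mem hb), ?_⟩
    have hinv : Fr.β b⁻¹ = x := by
      have := Fr.β_mul hb (inv_mem hb)
      rw [mul_inv_cancel, Fr.β_mem (one_mem _), hbv'] at this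
      exact (eq_of_vadd_eq_zero this.symm).symm
    rw [Fr.β_mul hm (inv_mem hb), hβ, hbv', hinv]
    show Fr.gW d x + x = s
    rw [Fr.gW_tvp O.h1 O.h2 O.q1 O.q2 O.hB O.hρ hxW, hxs]
  obtain ⟨he1m, he1β⟩ := hcom hbv hbvv (s := s₁) (by
    rw [tvp, O.v1, O.v2, one_smul, zero_smul, add_zero, add_comm v, add_assoc, vadd_self, add_zero]) O.hv
  obtain ⟨he2m, he2β⟩ := hcom hbw hbwv (s := s₂) (by
    rw [tvp, O.w1, O.w2, zero_smul, one_smul, add_zero, add_comm w, add_assoc, vadd_self, add_zero]) O.hw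
  rw [← he1] at he1m he1β
  rw [← he2] at he2m he2β
  have hli : LinearIndependent (ZMod 2) ![πu p, πu e1, πu e2] := by
    rw [Fintype.linearIndependent_iff]
    intro f hf
    simp only [Fin.sum_univ_three, Matrix.cons_val_zero, Matrix.cons_val_one, Matrix.cons_val] at hf
    have key : ∀ {g : G} (a : ZMod 2), g ∈ F u → πu (bp g a) = a • πu g := fun a hg => by
      rcases z2c a with rfl | rfl
      · rw [bp_zero, Pu.one, zero_smul]
      · rw [bp_one, one_smul]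
    have hpu : p ∈ F u := Fr.pair.vu
    have hb12 : bp e1 (f 1) * bp e2 (f 2) ∈ half F u p := mul_mem (bp_mem he1m _) (bp_mem he2m _)
    have hsum : πu (bp p (f 0) * (bp e1 (f 1) * bp e2 (f 2))) = 0 := by
      rw [Pu.map_mul _ (bp_mem hpu _) _ (hFu hb12),
        Pu.map_mul _ (bp_mem (hFu he1m) _) _ (bp_mem (hFu he2m) _), key _ hpu, key _ (hFu he1m),
        key _ (hFu he2m), ← add_assoc]
      exact hf
    have hmem := mul_mem (bp_mem (Fr.pair.symm.inf_le_half ⟨hpu, Fr.P.mem⟩ : p ∈ half F u p) (f 0)) hb12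
    have hβ0 : Fr.β (bp p (f 0) * (bp e1 (f 1) * bp e2 (f 2))) = 0 := by
      rcases Pu.ker _ (hFu hmem) hsum with e | e <;> rw [e]
      · exact Fr.β_mem (one_mem _)
      · exact Fr.β_mem Fr.hu
    have hbp : ∀ {g : G} (a : ZMod 2), g ∈ half F u p → Fr.β (bp g a) = a • Fr.β g := fun a hg => by
      rcases z2c a with rfl | rfl
      · rw [bp_zero, Fr.β_mem (one_mem _), zero_smul]
      · rw [bp_one, one_smul]
    rw [Fr.β_mul (bp_mem (Fr.pair.symm.inf_le_half ⟨hpu, Fr.P.mem⟩) _) hb12,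
      Fr.β_mul (bp_mem he1m _) (bp_mem he2m _), hbp _ he1m, hbp _ he2m, he1β, he2β,
      Fr.β_mem (bp_mem Fr.P.mem _), zero_add] at hβ0
    have f12 : f 1 = 0 ∧ f 2 = 0 := by
      rcases z2c (f 1) with a | a <;> rcases z2c (f 2) with b | b <;> rw [a, b] at hβ0 <;>
        simp at hβ0
      · exact ⟨a, b⟩
      · exact absurd hβ0 O.hi.2.1
      · exact absurd hβ0 O.hi.1
      · exact absurd (eq_of_vadd_eq_zero hβ0) O.hi.2.2
    rw [f12.1, f12.2, zero_smul, zero_smul, add_zero, add_zero, smul_eq_zero] at hf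
    have f0 : f 0 = 0 := hf.resolve_right fun h => by
      rcases Pu.ker p hpu h with e | e
      exacts [Fr.P.pne e, Fr.ne e.symm]
    intro i
    fin_cases i
    exacts [f0, f12.1, f12.2]
  have h3 : 3 ≤ Module.finrank (ZMod 2) (resid (ρu d)) := by
    have hle : Submodule.span (ZMod 2) (Set.range ![πu p, πu e1, πu e2]) ≤ resid (ρu d) := by
      rw [Submodule.span_le]
      rintro _ ⟨i, rfl⟩
      fin_cases i
      · have := hres (hFu hbx)
        rw [hx2] at this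
        exact this
      · exact hres (hFu hbv)
      · exact hres (hFu hbw)
    have := Submodule.finrank_mono hle
    rwa [finrank_span_eq_card hli, Fintype.card_fin] at this
  have hg2 : ρu d * ρu d = 1 := by rw [← Pu.ρ_mul O.du O.du, O.dd, Pu.ρ_one]
  have h4 := H44.finrank_resid_le nd8 hg2
  rw [dim8] at h4
  obtain ⟨k, hk⟩ := even_resid (Pu.even d O.du)
  have hsum := finrank_fixed_add (ρu d)
  have hle : resid (ρu d) ≤ LinearMap.ker (resMap (ρu d)) := by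
    rintro _ ⟨m, rfl⟩
    exact LinearMap.mem_ker.mpr (H44.resMap_resMap hg2 m)
  have heq := Submodule.eq_of_le_of_finrank_le hle (by omega)
  have hdbt : d * bt * d⁻¹ = bt := by
    rw [O.dB bt hbt (by rw [hbtv]; exact O.tC), hbtv, B_self, bp_zero, one_mul]
  have hfix : πu bt ∈ resid (ρu d) := by
    rw [heq, mem_fixed, ← Pu.act d O.du bt (hFu hbt), hdbt]
  obtain ⟨m, hm⟩ := hfix
  rw [resMap_eq_add] at hm
  obtain ⟨g, hg, rfl⟩ := Pu.surj m
  set k' := d * g * d⁻¹ * g⁻¹ with hk'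
  have hk'F : k' ∈ F u := mul_mem (Pu.norm d O.du g hg) (inv_mem hg)
  have hπk : πu k' = πu bt := by
    rw [hk', Pu.map_mul _ (Pu.norm d O.du g hg) _ (inv_mem hg), Pu.act d O.du g hg, Pu.πinv hg, hm]
  have di : d⁻¹ = d := inv_eq_of_mul_eq_one_right O.dd
  have hconj : d * k' * d⁻¹ = k'⁻¹ := by
    rw [hk']
    calc d * (d * g * d⁻¹ * g⁻¹) * d⁻¹ = (d * d) * g * d⁻¹ * g⁻¹ * d⁻¹ := by group
      _ = _ := by rw [O.dd, one_mul, di]; simp [di, mul_assoc]
  have hbt2 : bt * bt = 1 := by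
    rcases Pu.eq_cases hk'F (hFu hbt) hπk with e | e
    · rw [e] at hdbt
      rw [hconj] at hdbt
      rw [e]
      nth_rewrite 1 [← hdbt]
      exact inv_mul_cancel k'
    · have : d * k' * d⁻¹ = k' := by
        rw [e, show d * (k' * u) * d⁻¹ = d * k' * d⁻¹ * (d * u * d⁻¹) by group,
          show d * u * d⁻¹ = u by rw [O.du.eq, mul_inv_cancel_right]] at hdbt
        exact mul_right_cancel hdbt
      rw [hconj] at this
      have hk2 : k' * k' = 1 := by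
        nth_rewrite 1 [← this]
        exact inv_mul_cancel k'
      rw [e, show k' * u * (k' * u) = k' * (u * k') * u by group, ← (Pu.comm k' hk'F).eq,
        show k' * (k' * u) * u = k' * k' * (u * u) by group, hk2, Fr.uu, mul_one]
  rw [Fr.sq_b hbt, hbtv] at hbt2
  exact bp_inj Fr.upne (hbt2.trans (bp_zero u).symm)

theorem Outer.commute {Fr : Frame F z p u π ρ x'} (O : Fr.Outer y d r v w s₁ s₂ w₁ w₂ t) :
    Commute y p ∧ Commute y u := by
  rw [O.hy]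
  exact ⟨O.dp.mul_left O.hr.comm.1, O.du.mul_left O.hr.comm.2⟩

/-- Fixed cosets at `p`. -/
theorem Outer.not_w2 {Fr : Frame F z p u π ρ x'} (O : Fr.Outer y d r v w s₁ s₂ w₁ w₂ t)
    (h3 : 3 ≤ Module.finrank (ZMod 2) (resid (ρ y))) : ¬ InL s₁ s₂ w₂ := by
  intro hL
  have hle : Module.finrank (ZMod 2) (resid (ρ y)) ≤ 3 := by
    refine resid_le_three (ι := {x // InC (π u) x' s₁ s₂ x} × ZMod 2) ?_
      (fun i => i.1.1 + i.2 • π u) ?_ ?_
    · rw [Nat.card_prod, Fr.H.card_C O.h1 O.h2 O.hi]; simp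
    · rintro ⟨⟨a, ha⟩, i⟩ ⟨⟨b, hb⟩, j⟩ h
      have h1 := congrArg (proj (π u) x') h
      simp only [map_add, map_smul, Fr.H.proj_c, smul_zero, add_zero, ha.1.proj_eq, hb.1.proj_eq] at h1
      subst h1
      simp only [add_right_inj] at h
      have h2 := congrArg (fun e => B8 e x') h
      simp only [map_smul, LinearMap.smul_apply, show B8 (π u) x' = 1 from Fr.hxu, smul_eq_mul,
        mul_one] at h2
      simp [h2]
    · rintro ⟨⟨a, ha⟩, i⟩
      have hr' : (ρ r).1 (a + i • π u) = a + i • π u := by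
        rw [O.hr.rho]
        refine eichler_fix Fr.H.qc O.hr.inW.2.mono.1 ?_ ?_
        · simp [ha.1.1, B_self]
        · have : B8 a w₂ = 0 := by rw [polB_comm]; exact (O.lin.2.2 w₂ hL).2 a ha
          simp [this, O.hr.inW.2.mono.1]
      rw [O.hy, Fr.P.ρ_mul O.dp O.hr.comm.1, orth_mul_apply, hr', O.hρ]
      refine eichler_fix O.q1 O.hB ?_ ?_
      · simp [ha.2.1, O.h1.mono.1]
      · simp [ha.2.2, O.h2.mono.1]
  have := resid_le_two (Fr.P.even y O.commute.1) hle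
  omega

/-- Fixed cosets at `u`. -/
theorem Outer.fix_u {Fr : Frame F z p u π ρ x'} (O : Fr.Outer y d r v w s₁ s₂ w₁ w₂ t)
    (hL : InL s₁ s₂ (w₁ + t)) {πu : G → V8} {ρu : G → orthGroup q8} (Pu : Pt (F u) u πu ρu) :
    Module.finrank (ZMod 2) (resid (ρu y)) ≤ 3 := by
  have hyu := O.commute.2
  have hpu : p ∈ F u := Fr.pair.vu
  choose b hb hbv using fun x : {x // InC (π u) x' s₁ s₂ x} => Fr.β_surj x.2.1
  have hbF : ∀ x, b x ∈ F u := fun x => (mem_half.mp (hb x)).1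
  have hpB : p ∈ half F u p := Fr.pair.symm.inf_le_half ⟨hpu, Fr.P.mem⟩
  have hel : ∀ i : {x // InC (π u) x' s₁ s₂ x} × ZMod 2, b i.1 * bp p i.2 ∈ half F u p := fun i =>
    mul_mem (hb i.1) (bp_mem hpB _)
  refine resid_le_three (ι := {x // InC (π u) x' s₁ s₂ x} × ZMod 2) ?_
    (fun i => πu (b i.1 * bp p i.2)) ?_ ?_
  · rw [Nat.card_prod, Fr.H.card_C O.h1 O.h2 O.hi]; simp
  · intro i j h
    have hβ : ∀ k : {x // InC (π u) x' s₁ s₂ x} × ZMod 2, Fr.β (b k.1 * bp p k.2) = k.1.1 := fun k => by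
      rw [Fr.β_mul (hb _) (bp_mem hpB _), hbv, Fr.β_mem (bp_mem Fr.P.mem _), add_zero]
    have hu' : u ∈ half F u p := mem_half.mpr ⟨Pu.mem, Fr.upc.eq⟩
    have e1 : i.1.1 = j.1.1 := by
      rw [← hβ i, ← hβ j]
      rcases Pu.eq_cases (mem_half.mp (hel i)).1 (mem_half.mp (hel j)).1 h with e | e <;> rw [e]
      rw [Fr.β_mul (hel i) hu', Fr.β_mem Fr.hu, add_zero]
    have e2 : i.1 = j.1 := Subtype.ext e1
    refine Prod.ext e2 ?_
    simp only [Pu.map_mul _ (hbF _) _ (bp_mem hpu _), e2, add_right_inj] at h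
    have hp0 : πu p ≠ 0 := fun e => by
      rcases Pu.ker p hpu e with e' | e'
      exacts [Fr.P.pne e', Fr.ne e'.symm]
    rcases z2c i.2 with a | a <;> rcases z2c j.2 with c | c <;>
      simp [a, c, bp_zero, bp_one, Pu.one, hp0, hp0.symm] at h ⊢
  · rintro ⟨x, i⟩
    show (ρu y).1 (πu (b x * bp p i)) = _
    rw [← Pu.act y hyu _ (mem_half.mp (hel (x, i))).1]
    have hzero : B8 (w₁ + t) x.1 = 0 := (O.lin.2.2 _ hL).2 x.1 x.2
    have hc := O.hr.commutator (Fr.pair_B (hb x))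
    simp only [hbv, map_zero, LinearMap.zero_apply, zero_add, add_zero] at hc
    have h1 : r * b x * r⁻¹ = ep p u (B8 w₁ x.1) (B8 w₂ x.1 + B8 w₁ x.1) * b x :=
      mul_inv_eq_iff_eq_mul.mp hc
    have h2 : y * (b x * bp p i) * y⁻¹
        = bp u (B8 w₂ x.1 + B8 w₁ x.1) * (b x * bp p i) := by
      rw [show y * (b x * bp p i) * y⁻¹ = y * b x * y⁻¹ * (y * bp p i * y⁻¹) by group,
        Fr.P.conj_bp O.commute.1, O.hy,
        show d * r * b x * (d * r)⁻¹ = d * (r * b x * r⁻¹) * d⁻¹ by group, h1,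
        show d * (ep p u (B8 w₁ x.1) (B8 w₂ x.1 + B8 w₁ x.1) * b x) * d⁻¹
          = d * ep p u (B8 w₁ x.1) (B8 w₂ x.1 + B8 w₁ x.1) * d⁻¹ * (d * b x * d⁻¹) by group,
        Fr.ep_conj O.dp O.du, O.dB (b x) (hb x) (by rw [hbv]; exact x.2), hbv]
      have e : ep p u (B8 w₁ x.1) (B8 w₂ x.1 + B8 w₁ x.1) * bp p (B8 t x.1)
          = bp u (B8 w₂ x.1 + B8 w₁ x.1) := by
        have h0 : B8 w₁ x.1 + B8 t x.1 = 0 := by rw [← LinearMap.add_apply, ← map_add]; exact hzero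
        rw [show bp p (B8 t x.1) = ep p u (B8 t x.1) 0 by simp [ep, bp_zero], Fr.ep_mul, h0, add_zero]
        simp [ep, bp_zero]
      rw [← mul_assoc, e, mul_assoc]
    rw [h2, Pu.map_mul _ (bp_mem Pu.mem _) _ (mem_half.mp (hel (x, i))).1, Pu.πbp, zero_add]

/-- Fixed cosets at `p * u`. -/
theorem Outer.fix_pu {Fr : Frame F z p u π ρ x'} (O : Fr.Outer y d r v w s₁ s₂ w₁ w₂ t)
    (hL : InL s₁ s₂ (w₁ + t + w₂)) {πq : G → V8} {ρq : G → orthGroup q8}
    (Pq : Pt (F (p * u)) (p * u) πq ρq) :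
    Module.finrank (ZMod 2) (resid (ρq y)) ≤ 3 := by
  obtain ⟨m, hm, hmv⟩ := Fr.P.surj x'
  have hyq : Commute y (p * u) := O.commute.1.mul_right O.commute.2
  have hmu : m * u * m⁻¹ = p * u := Fr.mover hm hmv
  have hpu : p ∈ F (p * u) := by
    have := Fr.W.L.mem_Q_conj m Fr.pair.vu
    rwa [hmu, Fr.P.comm m hm |>.eq, mul_inv_cancel_right] at this
  choose b hb hbv using fun x : {x // InC (π u) x' s₁ s₂ x} => Fr.β_surj x.2.1
  choose a ha hα hab using fun x => Fr.mover_conj hm hmv (hb x)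
  have hcF : ∀ x, a x * b x ∈ F (p * u) := fun x => by
    rw [← hab x, ← hmu]
    exact Fr.W.L.mem_Q_conj m (mem_half.mp (hb x)).1
  have hel : ∀ i : {x // InC (π u) x' s₁ s₂ x} × ZMod 2, a i.1 * b i.1 * bp p i.2 ∈ F (p * u) :=
    fun i => mul_mem (hcF i.1) (bp_mem hpu _)
  have hpair : ∀ i : {x // InC (π u) x' s₁ s₂ x} × ZMod 2,
      Fr.IsPair (a i.1 * b i.1 * bp p i.2) i.1.1 i.1.1 := fun i => by
    have h := ((Fr.pair_A (ha i.1)).mul (Fr.pair_B (hb i.1))).mul (Fr.pair_ep i.2 0)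
    simp only [hα, hbv, add_zero, zero_add, ep, bp_zero, mul_one] at h
    exact h
  refine resid_le_three (ι := {x // InC (π u) x' s₁ s₂ x} × ZMod 2) ?_
    (fun i => πq (a i.1 * b i.1 * bp p i.2)) ?_ ?_
  · rw [Nat.card_prod, Fr.H.card_C O.h1 O.h2 O.hi]; simp
  · intro i j h
    have e1 : i.1.1 = j.1.1 := by
      rcases Pq.eq_cases (hel i) (hel j) h with e | e
      · have := hpair j
        rw [e] at this
        exact ((hpair i).unique this).1
      · have h' := (hpair i).mul (Fr.pair_ep 1 1)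
        rw [add_zero, show ep p u 1 1 = p * u by simp [ep, bp_one], ← e] at h'
        exact (h'.unique (hpair j)).1
    have e2 : i.1 = j.1 := Subtype.ext e1
    refine Prod.ext e2 ?_
    simp only [Pq.map_mul _ (hcF _) _ (bp_mem hpu _), e2, add_right_inj] at h
    have hp0 : πq p ≠ 0 := fun e => by
      rcases Pq.ker p hpu e with e' | e'
      exacts [Fr.P.pne e', Fr.upne (left_eq_mul.mp e')]
    rcases z2c i.2 with c | c <;> rcases z2c j.2 with c' | c' <;>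
      simp [c, c', bp_zero, bp_one, Pq.one, hp0, hp0.symm] at h ⊢
  · rintro ⟨x, i⟩
    show (ρq y).1 (πq (a x * b x * bp p i)) = _
    rw [← Pq.act y hyq _ (hel (x, i))]
    have hz : B8 w₁ x.1 + B8 t x.1 + B8 w₂ x.1 = 0 := by
      have := (O.lin.2.2 _ hL).2 x.1 x.2
      simpa using this
    have hc := O.hr.commutator ((Fr.pair_A (ha x)).mul (Fr.pair_B (hb x)))
    simp only [hα, hbv, add_zero, zero_add, polB_comm x.1 w₂] at hc
    have h1 : r * (a x * b x) * r⁻¹ = ep p u (B8 w₁ x.1 + B8 w₁ x.1 + B8 w₂ x.1)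
        (B8 w₂ x.1 + B8 w₁ x.1 + B8 w₂ x.1) * (a x * b x) :=
      mul_inv_eq_iff_eq_mul.mp (by rw [← hc])
    have e1 : B8 w₂ x.1 + B8 w₁ x.1 + B8 w₂ x.1 = B8 w₁ x.1 := by
      rw [add_right_comm, ZModModule.add_self, zero_add]
    have e2 : B8 w₁ x.1 + B8 w₁ x.1 + B8 w₂ x.1 = B8 w₂ x.1 := by
      rw [ZModModule.add_self, zero_add]
    rw [e1, e2] at h1
    have hdb : d * (a x * b x) * d⁻¹ = bp p (B8 t x.1) * (a x * b x) := by
      rw [show d * (a x * b x) * d⁻¹ = d * a x * d⁻¹ * (d * b x * d⁻¹) by group,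
        O.dA (a x) (ha x) (by rw [hα, hbv]; exact x.2), O.dB (b x) (hb x) (by rw [hbv]; exact x.2),
        hbv, ← mul_assoc, (bp_comm (Fr.acomm (ha x)).1 _).eq, mul_assoc]
    have h2 : y * (a x * b x * bp p i) * y⁻¹ = bp (p * u) (B8 w₁ x.1) * (a x * b x * bp p i) := by
      rw [show y * (a x * b x * bp p i) * y⁻¹ = y * (a x * b x) * y⁻¹ * (y * bp p i * y⁻¹) by group,
        Fr.P.conj_bp O.commute.1, O.hy,
        show d * r * (a x * b x) * (d * r)⁻¹ = d * (r * (a x * b x) * r⁻¹) * d⁻¹ by group, h1,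
        show d * (ep p u (B8 w₂ x.1) (B8 w₁ x.1) * (a x * b x)) * d⁻¹
          = d * ep p u (B8 w₂ x.1) (B8 w₁ x.1) * d⁻¹ * (d * (a x * b x) * d⁻¹) by group,
        Fr.ep_conj O.dp O.du, hdb, ← mul_assoc, mul_assoc _ (a x * b x)]
      congr 1
      have hzz : B8 w₂ x.1 + B8 t x.1 = B8 w₁ x.1 := by
        revert hz
        generalize B8 w₁ x.1 = k1
        generalize B8 w₂ x.1 = k2
        generalize B8 t x.1 = k3
        revert k1 k2 k3
        decide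
      rw [show bp p (B8 t x.1) = ep p u (B8 t x.1) 0 by simp [ep, bp_zero], Fr.ep_mul, hzz, add_zero]
      simp only [ep, bp]
      rw [← Fr.upc.symm.mul_pow]
    rw [h2, Pq.map_mul _ (bp_mem Pq.mem _) _ (hel (x, i)), Pq.πbp, zero_add]

/-- One of the two other vertices is good. -/
theorem Outer.good {Fr : Frame F z p u π ρ x'} (O : Fr.Outer y d r v w s₁ s₂ w₁ w₂ t) (hy2 : y * y = 1)
    (h3 : 3 ≤ Module.finrank (ZMod 2) (resid (ρ y))) :
    InL s₁ s₂ (w₁ + t) ∨ InL s₁ s₂ (w₁ + t + w₂) := by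
  by_contra hbad
  push Not at hbad
  have hb := O.not_w2 h3
  have qt := O.qt
  -- squares
  obtain ⟨a, ha, b, hbm, hrab, hαa, hβb⟩ := O.hr
  have hd1 : d * r * d⁻¹ = bp p (B8 t w₂) * r := by
    rw [hrab, show d * (a * b) * d⁻¹ = d * a * d⁻¹ * (d * b * d⁻¹) by group,
      O.dA a ha (by rw [hαa]; exact O.w1C), O.dB b hbm (by rw [hβb]; exact O.w2C), hβb, ← mul_assoc,
      (bp_comm (Fr.acomm ha).1 _).eq, mul_assoc]
  have di : d⁻¹ = d := inv_eq_of_mul_eq_one_right O.dd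
  have hsq : bp p (B8 t w₂) * (r * r) = 1 := by
    rw [← mul_assoc, ← hd1, di, mul_assoc, ← O.hy]
    exact hy2
  rw [O.hr.sq, show bp p (B8 t w₂) = ep p u (B8 t w₂) 0 by simp [ep, bp_zero], Fr.ep_mul,
    ← Fr.ep_zero] at hsq
  obtain ⟨hk1, hk2⟩ := Fr.ep_inj hsq
  simp only [kp, ku, zero_add] at hk1 hk2
  have haC : InC (π u) x' s₁ s₂ (w₁ + t) :=
    ⟨O.w1C.1.add O.tC.1, by simp [O.w1C.2.1, O.tC.2.1], by simp [O.w1C.2.2, O.tC.2.2]⟩
  obtain ⟨hab, hcomb⟩ := Fr.H.combos O.h1 O.h2 O.hi O.q1 O.q2 O.hB haC O.w2C hbad.1 hb hbad.2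
  simp only [map_add, LinearMap.add_apply] at hab
  have etw : polB q8 t w₁ = polB q8 w₁ t := polB_comm t w₁
  have φ1 : q8 (w₁ + t) + B8 t (w₁ + t) = 1 := by
    rw [q_add, map_add, B_self, qt, show B8 t w₁ = polB q8 w₁ t from etw]
    revert hk1 hk2 hab
    simp only [B8]
    generalize q8 w₁ = c1
    generalize q8 w₂ = c2
    generalize polB q8 w₁ w₂ = c3
    generalize polB q8 t w₂ = c4
    generalize polB q8 w₁ t = c5
    revert c1 c2 c3 c4 c5
    decide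
  have φ2 : q8 w₂ + B8 t w₂ = 1 := by
    revert hk1 hk2 hab
    simp only [B8]
    generalize q8 w₁ = c1
    generalize q8 w₂ = c2
    generalize polB q8 w₁ w₂ = c3
    generalize polB q8 t w₂ = c4
    revert c1 c2 c3 c4
    decide
  -- every class outside the axis has value one
  have hφ : ∀ x, InC (π u) x' s₁ s₂ x → q8 x + B8 t x = 0 → InL s₁ s₂ x := by
    intro x hx h0
    obtain ⟨l, i, j, hl, rfl⟩ := hcomb x hx
    have hl0 := O.lin.2.2 l hl
    have lt' : B8 t l = 0 := by rw [polB_comm]; exact hl0.2 t O.tC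
    have la : B8 l (w₁ + t) = 0 := hl0.2 _ haC
    have lb : B8 l w₂ = 0 := hl0.2 _ O.w2C
    rcases z2c i with rfl | rfl <;> rcases z2c j with rfl | rfl <;>
      simp only [zero_smul, one_smul, add_zero] at h0 ⊢
    · exact hl
    · exfalso
      rw [q_add, hl0.1, show polB q8 l w₂ = 0 from lb, map_add, lt', zero_add, zero_add, add_zero, φ2] at h0
      exact one_ne_zero h0
    · exfalso
      rw [q_add l (w₁ + t), hl0.1, show polB q8 l (w₁ + t) = 0 from la, zero_add, add_zero,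
        map_add (B8 t) l (w₁ + t), lt', zero_add, φ1] at h0
      exact one_ne_zero h0
    · exfalso
      rw [add_assoc l, q_add l, hl0.1, show polB q8 l (w₁ + t + w₂) = 0 by
          show B8 l (w₁ + t + w₂) = 0
          rw [map_add, la, lb, add_zero],
        zero_add, add_zero, map_add (B8 t) l, lt', zero_add, q_add (w₁ + t),
        map_add (B8 t) (w₁ + t) w₂, show polB q8 (w₁ + t) w₂ = 1 by
          show B8 (w₁ + t) w₂ = 1
          simp only [map_add, LinearMap.add_apply]; exact hab] at h0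
      revert φ1 φ2 h0
      generalize q8 (w₁ + t) = c1
      generalize q8 w₂ = c2
      generalize B8 t (w₁ + t) = c3
      generalize B8 t w₂ = c4
      revert c1 c2 c3 c4
      decide
  have htL : InL s₁ s₂ t := hφ t O.tC (by rw [qt, B_self, add_zero])
  obtain ⟨d₁, d₂, e, f, -, -, he, hf, -, -, -, -, -, -, -, -, hef, qe⟩ :=
    Fr.H.extend O.h1 O.h2 O.hi O.q1 O.q2 O.hB
  have heL := hφ e he (by rw [qe, (O.lin.2.2 t htL).2 e he, add_zero])
  rw [(O.lin.2.2 e heL).2 f hf] at hef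
  exact zero_ne_one hef

end Frame

/-- Every involution centralising a conjugate of the central one lies in a radical or is such a
conjugate. -/
theorem World.exists_radR {F : G → Subgroup G} {z p y : G} (W : World F z) (sp : Sing z p)
    (hy : y * y = 1) (hy1 : y ≠ 1) (hyp : Commute y p) :
    Sing z y ∨ ∃ p' u' π' ρ' x', Frame F z p' u' π' ρ' x' ∧ y ∈ radR F p' u' := by
  obtain ⟨π, ρ, P⟩ := W.pt p sp
  by_cases hyF : y ∈ F p
  · exact Or.inl (W.sing_mem sp hyF hy hy1)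
  obtain ⟨u, x', Fr, hyu, hres, halt⟩ := W.exists_adapted P sp hy hyp hyF
  by_cases hR : y ∈ radR F p u
  · exact Or.inr ⟨p, u, π, ρ, x', Fr, hR⟩
  obtain ⟨v, w, s₁, s₂, hv, hw, h1, h2, hi, q1, q2, hB, v1, v2, w1, w2, hT, h3⟩ :=
    Fr.split hy hyp hyu hres halt hR
  obtain ⟨d, r, w₁, w₂, t, O⟩ := Fr.exists_outer hy hyp hyu hv hw h1 h2 hi q1 q2 hB v1 v2 w1 w2 hT
  rcases O.good hy h3 with hL | hL
  · obtain ⟨πu, ρu, Pu⟩ := W.pt u Fr.su
    exact W.radR_of_small Pu Fr.su hy hy1 hyu (O.fix_u hL Pu)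
  · have hs : Sing z (p * u) := by
      refine W.sing_mem sp (mul_mem P.mem Fr.hu) ?_ ?_
      · rw [show p * u * (p * u) = p * (u * p) * u by group, Fr.upc.eq,
          show p * (p * u) * u = p * p * (u * u) by group, P.pp, Fr.uu, mul_one]
      · intro e
        apply Fr.ne
        calc u = p * p * u := by rw [P.pp, one_mul]
          _ = p := by rw [mul_assoc, e, mul_one]
    obtain ⟨πq, ρq, Pq⟩ := W.pt (p * u) hs
    exact W.radR_of_small Pq hs hy hy1 (hyp.mul_right hyu) (O.fix_pu hL Pq)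

end H79.Co1T
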