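import Cfsg.Agent.H79.Co1T.Plane
import Cfsg.Agent.H73.Suz.Setup
import Cfsg.Agent.H45.OmegaTools

/-!
Groups of Conway type: coordinates on every subgroup attached to a conjugate of the central
involution.
-/

set_option autoImplicit false
set_option linter.unusedSectionVars false

namespace H79.Co1T

open H43
open H69 (LXFam lxQ)
open H69.LXFam (Sing)

variable {G : Type*} [Group G] [Finite G]

/-- Coordinates on the subgroup attached to `p` together with the action of the centraliser. -/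
structure Pt (Fp : Subgroup G) (p : G) (π : G → V8) (ρ : G → orthGroup q8) : Prop where
  map_mul : ∀ a ∈ Fp, ∀ b ∈ Fp, π (a * b) = π a + π b
  ker : ∀ a ∈ Fp, π a = 0 → a = 1 ∨ a = p
  surj : ∀ v, ∃ a ∈ Fp, π a = v
  sq : ∀ a ∈ Fp, a * a = p ^ (q8 (π a)).val
  comm : ∀ a ∈ Fp, Commute a p
  norm : ∀ c, Commute c p → ∀ a ∈ Fp, c * a * c⁻¹ ∈ Fp
  act : ∀ c, Commute c p → ∀ a ∈ Fp, π (c * a * c⁻¹) = (ρ c).1 (π a)
  faithful : ∀ c, Commute c p → ρ c = 1 → c ∈ Fp
  even : ∀ c, Commute c p → dickson (ρ c) = 1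
  lift : ∀ g : orthGroup q8, dickson g = 1 → ∃ c, Commute c p ∧ ρ c = g
  mem : p ∈ Fp
  πp : π p = 0
  pp : p * p = 1
  pne : p ≠ 1

/-- Bits as powers. -/
def bp (p : G) (a : ZMod 2) : G := p ^ a.val

theorem bp_zero (p : G) : bp p 0 = 1 := pow_zero p

theorem bp_one (p : G) : bp p 1 = p := by
  show p ^ (1 : ZMod 2).val = p
  rw [ZMod.val_one, pow_one]

theorem bp_mem {H : Subgroup G} {p : G} (hp : p ∈ H) (a : ZMod 2) : bp p a ∈ H := pow_mem hp _

theorem bp_add {p : G} (hp : p * p = 1) (a b : ZMod 2) : bp p a * bp p b = bp p (a + b) := by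
  rcases z2c a with rfl | rfl <;> rcases z2c b with rfl | rfl <;>
    simp [bp_zero, bp_one, hp, show (1 : ZMod 2) + 1 = 0 from rfl]

theorem bp_inv {p : G} (hp : p * p = 1) (a : ZMod 2) : (bp p a)⁻¹ = bp p a :=
  inv_eq_of_mul_eq_one_right (by rw [bp_add hp, ZModModule.add_self, bp_zero])

theorem bp_inj {p : G} (hp : p ≠ 1) {a b : ZMod 2} (h : bp p a = bp p b) : a = b := by
  rcases z2c a with rfl | rfl <;> rcases z2c b with rfl | rfl <;>
    simp [bp_zero, bp_one, hp, hp.symm] at h ⊢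

theorem bp_comm {p x : G} (h : Commute x p) (a : ZMod 2) : Commute x (bp p a) := h.pow_right _

namespace Pt

variable {Fp : Subgroup G} {p : G} {π : G → V8} {ρ : G → orthGroup q8}

theorem one (P : Pt Fp p π ρ) : π 1 = 0 := by
  have h := P.map_mul 1 (one_mem _) 1 (one_mem _)
  rw [mul_one] at h
  exact left_eq_add.mp h

theorem πinv (P : Pt Fp p π ρ) {a : G} (ha : a ∈ Fp) : π a⁻¹ = π a := by
  have h := P.map_mul a ha a⁻¹ (inv_mem ha)
  rw [mul_inv_cancel, P.one] at h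
  exact (eq_of_vadd_eq_zero h.symm).symm

theorem πbp (P : Pt Fp p π ρ) (a : ZMod 2) : π (bp p a) = 0 := by
  rcases z2c a with rfl | rfl
  · rw [bp_zero, P.one]
  · rw [bp_one, P.πp]

theorem eq_cases (P : Pt Fp p π ρ) {a b : G} (ha : a ∈ Fp) (hb : b ∈ Fp) (h : π a = π b) :
    b = a ∨ b = a * p := by
  rcases P.ker (a⁻¹ * b) (mul_mem (inv_mem ha) hb)
    (by rw [P.map_mul _ (inv_mem ha) _ hb, P.πinv ha, h, vadd_self]) with e | e
  · exact Or.inl (inv_mul_eq_one.mp e).symm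
  · exact Or.inr (by rw [← e, mul_inv_cancel_left])

theorem commutator (P : Pt Fp p π ρ) {a b : G} (ha : a ∈ Fp) (hb : b ∈ Fp) :
    a * b * a⁻¹ = bp p (B8 (π a) (π b)) * b := by
  have hb' : b⁻¹ = bp p (q8 (π b)) * b := by
    refine inv_eq_of_mul_eq_one_right ?_
    rw [← mul_assoc, (bp_comm (P.comm b hb) _).eq, mul_assoc, P.sq b hb]
    exact (bp_add P.pp _ _).trans (by rw [ZModModule.add_self, bp_zero])
  have hab : a * b * (a * b) = bp p (q8 (π a) + q8 (π b) + B8 (π a) (π b)) := by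
    rw [P.sq (a * b) (mul_mem ha hb), P.map_mul a ha b hb, q_add]; rfl
  have haa : (a * a)⁻¹ = bp p (q8 (π a)) := by rw [P.sq a ha]; exact bp_inv P.pp _
  calc a * b * a⁻¹ = a * b * (a * b) * b⁻¹ * (a * a)⁻¹ := by group
    _ = bp p (q8 (π a) + q8 (π b) + B8 (π a) (π b)) *
          (bp p (q8 (π b)) * bp p (q8 (π a))) * b := by
        rw [hab, hb', haa, mul_assoc _ _ (bp p (q8 (π a))), mul_assoc (bp p (q8 (π b))),
          (bp_comm (P.comm b hb) _).eq]
        group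
    _ = _ := by
        rw [bp_add P.pp, bp_add P.pp]
        congr 2
        generalize q8 (π a) = x
        generalize q8 (π b) = y
        generalize B8 (π a) (π b) = w
        revert x y w
        decide

theorem commute_iff (P : Pt Fp p π ρ) {a b : G} (ha : a ∈ Fp) (hb : b ∈ Fp) :
    Commute a b ↔ B8 (π a) (π b) = 0 := by
  have h := P.commutator ha hb
  constructor
  · intro hc
    rw [hc.eq, mul_inv_cancel_right] at h
    exact bp_inj P.pne ((right_eq_mul.mp h).trans (bp_zero p).symm)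
  · intro h0
    rw [h0, bp_zero, one_mul] at h
    exact mul_inv_eq_iff_eq_mul.mp h

theorem ρ_ext (P : Pt Fp p π ρ) {c : G} {g : orthGroup q8}
    (h : ∀ a ∈ Fp, π (c * a * c⁻¹) = g.1 (π a)) (hc : Commute c p) : ρ c = g := by
  refine orth_ext fun v => ?_
  obtain ⟨a, ha, rfl⟩ := P.surj v
  rw [← P.act c hc a ha, h a ha]

theorem ρ_mul (P : Pt Fp p π ρ) {c d : G} (hc : Commute c p) (hd : Commute d p) :
    ρ (c * d) = ρ c * ρ d := P.ρ_ext (fun a ha => by
      rw [show c * d * a * (c * d)⁻¹ = c * (d * a * d⁻¹) * c⁻¹ by group,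
        P.act c hc _ (P.norm d hd a ha), P.act d hd a ha]
      rfl) (hc.mul_left hd)

theorem ρ_mem (P : Pt Fp p π ρ) {c : G} (hc : c ∈ Fp) : ρ c = 1 := P.ρ_ext (fun a ha => by
  rw [P.commutator hc ha, P.map_mul _ (bp_mem P.mem _) _ ha, P.πbp, zero_add, orth_one_apply])
  (P.comm c hc)

theorem ρ_one (P : Pt Fp p π ρ) : ρ 1 = 1 := P.ρ_mem (one_mem _)

theorem ρ_inv (P : Pt Fp p π ρ) {c : G} (hc : Commute c p) : ρ c⁻¹ = (ρ c)⁻¹ := by
  refine eq_inv_of_mul_eq_one_left ?_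
  rw [← P.ρ_mul hc.inv_left hc, inv_mul_cancel, P.ρ_one]

theorem ρ_eq (P : Pt Fp p π ρ) {c d : G} (hc : Commute c p) (hd : Commute d p) (h : ρ c = ρ d) :
    c⁻¹ * d ∈ Fp :=
  P.faithful _ (hc.inv_left.mul_left hd) (by rw [P.ρ_mul hc.inv_left hd, P.ρ_inv hc, h, inv_mul_cancel])

theorem conj_bp (P : Pt Fp p π ρ) {c : G} (hc : Commute c p) (a : ZMod 2) :
    c * bp p a * c⁻¹ = bp p a := by
  rw [(bp_comm hc a).eq, mul_inv_cancel_right]

end Pt

/-- The hypotheses used: a conjugation invariant family of subgroups with coordinates. -/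
structure World (F : G → Subgroup G) (z : G) : Prop where
  L : LXFam F z
  pt : ∀ p, Sing z p → ∃ π ρ, Pt (F p) p π ρ
  nwc : ∃ u ∈ F z, Sing z u ∧ u ≠ z

namespace World

variable {F : G → Subgroup G} {z : G}

theorem sing_self : Sing z z := ⟨1, by group⟩

theorem sing_conj {p : G} (hp : Sing z p) (g : G) : Sing z (g * p * g⁻¹) := by
  obtain ⟨f, rfl⟩ := hp
  exact ⟨g * f, by group⟩

theorem sing_mem_z (W : World F z) {a : G} (ha : a ∈ F z) (h2 : a * a = 1) (h1 : a ≠ 1) :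
    Sing z a := by
  obtain ⟨π, ρ, P⟩ := W.pt z sing_self
  by_cases haz : a = z
  · rw [haz]; exact sing_self
  obtain ⟨u, hu, hsu, huz⟩ := W.nwc
  have key : ∀ x ∈ F z, x * x = 1 → x ≠ 1 → x ≠ z → q8 (π x) = 0 ∧ π x ≠ 0 := by
    intro x hx hx2 hx1 hxz
    refine ⟨bp_inj P.pne ?_, fun h => ?_⟩
    · rw [bp_zero, ← hx2, P.sq x hx]; rfl
    · rcases P.ker x hx h with e | e
      exacts [hx1 e, hxz e]
  obtain ⟨qa, na⟩ := key a ha h2 h1 haz
  obtain ⟨qu, nu⟩ := key u hu (W.L.sq_one hsu) (W.L.ne_one hsu) huz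
  obtain ⟨x1, H1⟩ := exists_hyp qu nu
  obtain ⟨x2, H2⟩ := exists_hyp qa na
  obtain ⟨g, hg, hgu, -⟩ := witt2 H1 H2
  obtain ⟨c, hc, hcg⟩ := P.lift g hg
  have hm := P.norm c hc u hu
  have hπ : π (c * u * c⁻¹) = π a := by rw [P.act c hc u hu, hcg, hgu]
  rcases P.eq_cases hm ha hπ with e | e
  · rw [e]; exact sing_conj hsu c
  · obtain ⟨m, hm', hmv⟩ := P.surj x2
    have hflip : m * (c * u * c⁻¹) * m⁻¹ = a := by
      rw [P.commutator hm' hm, hmv, hπ, show B8 x2 (π a) = 1 from H2.xc, bp_one, e,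
        (P.comm _ hm).eq]
    rw [← hflip]
    exact sing_conj (sing_conj hsu c) m

/-- Involutions of an attached subgroup are conjugates of the central one. -/
theorem sing_mem (W : World F z) {p a : G} (hp : Sing z p) (ha : a ∈ F p) (h2 : a * a = 1)
    (h1 : a ≠ 1) : Sing z a := by
  obtain ⟨g, rfl⟩ := hp
  have h := W.sing_mem_z (W.L.mem_Q_conj' g ha)
    (by rw [show g⁻¹ * a * g * (g⁻¹ * a * g) = g⁻¹ * (a * a) * g by group, h2, mul_one, inv_mul_cancel])
    (fun e => h1 (by rw [show a = g * (g⁻¹ * a * g) * g⁻¹ by group, e]; group))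
  have := sing_conj h g
  simpa [mul_assoc] using this

end World

end H79.Co1T
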