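import Cfsg.Agent.H43.Witt
import Cfsg.Agent.H43.Wall
import Cfsg.Agent.H44.InvolData

/-!
Eight dimensional quadratic spaces over the field with two elements: even isometries, isometries
fixing a singular vector and acting trivially above it, and the point of an even involution.
-/

set_option autoImplicit false
set_option linter.unusedSectionVars false

namespace H79.Co1T

open H43

variable {V : Type*} [AddCommGroup V] [Module (ZMod 2) V] [FiniteDimensional (ZMod 2) V]
variable {q : QuadraticForm (ZMod 2) V}

theorem z2c : ∀ a : ZMod 2, a = 0 ∨ a = 1 := by decide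

omit [FiniteDimensional (ZMod 2) V] in
theorem vadd_self (x : V) : x + x = 0 := ZModModule.add_self x

omit [FiniteDimensional (ZMod 2) V] in
theorem B_self (x : V) : polB q x x = 0 := by
  rw [polB_self, show (2 : ZMod 2) = 0 from rfl, zero_mul]

omit [FiniteDimensional (ZMod 2) V] in
theorem vsub (x y : V) : x - y = x + y := ZModModule.sub_eq_add x y

omit [FiniteDimensional (ZMod 2) V] in
theorem vneg (x : V) : -x = x := ZModModule.neg_eq_self x

omit [FiniteDimensional (ZMod 2) V] in
theorem eq_of_vadd_eq_zero {x y : V} (h : x + y = 0) : x = y := by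
  rw [← vneg y]; exact eq_neg_of_add_eq_zero_left h

omit [FiniteDimensional (ZMod 2) V] in
theorem q_add (x y : V) : q (x + y) = q x + q y + polB q x y := qmap_add x y

omit [FiniteDimensional (ZMod 2) V] in
theorem resMap_eq_add (g : orthGroup q) (x : V) : resMap g x = g.1 x + x := by
  rw [resMap_apply, vsub, add_comm]

omit [FiniteDimensional (ZMod 2) V] in
theorem mem_resid (g : orthGroup q) (x : V) : g.1 x + x ∈ resid g := by
  rw [← resMap_eq_add]; exact resMap_mem g x

omit [FiniteDimensional (ZMod 2) V] in
theorem eichler2 {u w : V} (hu : q u = 0) (huw : polB q u w = 0) (x : V) :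
    (eichler q u w).1 x = x + polB q x u • w + polB q x w • u + (q w * polB q x u) • u := by
  rw [eichler_apply hu huw, vsub, vsub]

theorem exists_ns_perp (hQ : (polB q).Nondegenerate) (hd : Module.finrank (ZMod 2) V = 8)
    (X : Submodule (ZMod 2) V) (hX : Module.finrank (ZMod 2) X ≤ 4) (hns : ∃ x ∈ X, q x = 1) :
    ∃ n, q n = 1 ∧ ∀ x ∈ X, polB q n x = 0 := by
  by_contra hno
  push Not at hno
  have hTS : ∀ n ∈ (polB q).orthogonal X, q n = 0 := by
    intro n hn
    rcases z2c (q n) with h | h
    · exact h
    · obtain ⟨x, hx, hne⟩ := hno n h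
      exact absurd (by rw [polB_comm]; exact hn x hx) hne
  have hsum := finrank_orth_add hQ X
  have h2 := two_mul_finrank_singular_le hQ _ hTS
  have hle : (polB q).orthogonal X ≤ (polB q).orthogonal ((polB q).orthogonal X) := fun a ha b hb =>
    polB_eq_zero_of_singular hTS hb ha
  rw [LinearMap.BilinForm.orthogonal_orthogonal hQ (polB_isRefl q)] at hle
  have heq := Submodule.eq_of_le_of_finrank_le hle (by omega)
  obtain ⟨x, hx, hx1⟩ := hns
  rw [← heq] at hx
  rw [hTS x hx] at hx1
  exact zero_ne_one hx1

theorem even_conj_refl (hQ : (polB q).Nondegenerate) (g : orthGroup q) {n : V} (hn : q n = 1) :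
    dickson (g * refl q n) = Multiplicative.ofAdd 1 * dickson g := by
  have hgn : q (g.1 n) ≠ 0 := by rw [orth_qmap, hn]; exact one_ne_zero
  rw [show g * refl q n = refl q (g.1 n) * g by rw [← refl_conj g n, inv_mul_cancel_right]]
  exact dickson_refl_mul hQ g hgn

/-- Witt transitivity inside the even isometries. -/
theorem witt_even (hQ : (polB q).Nondegenerate) (hd : Module.finrank (ZMod 2) V = 8) {k : ℕ}
    (hk : k ≤ 4) (v w : Fin k → V) (hv : LinearIndependent (ZMod 2) v)
    (hw : LinearIndependent (ZMod 2) w) (hq : ∀ i, q (v i) = q (w i))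
    (hp : ∀ i j, polB q (v i) (v j) = polB q (w i) (w j)) (i₀ j₀ : Fin k)
    (hh : q (v i₀) = 0 ∧ q (v j₀) = 0 ∧ polB q (v i₀) (v j₀) = 1) :
    ∃ g : orthGroup q, dickson g = 1 ∧ ∀ i, g.1 (v i) = w i := by
  obtain ⟨g, hg⟩ := witt_family hQ v w hv hw hq hp
  rcases z2c (Multiplicative.toAdd (dickson g)) with h | h
  · exact ⟨g, h, hg⟩
  · obtain ⟨n, hn1, hn⟩ := exists_ns_perp hQ hd (Submodule.span (ZMod 2) (Set.range v))
      ((finrank_range_le_card v).trans (by simpa using hk))
      ⟨v i₀ + v j₀, add_mem (Submodule.subset_span ⟨i₀, rfl⟩) (Submodule.subset_span ⟨j₀, rfl⟩),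
        by rw [q_add, hh.1, hh.2.1, hh.2.2]; decide⟩
    refine ⟨g * refl q n, ?_, fun i => ?_⟩
    · rw [even_conj_refl hQ g hn1]
      apply Multiplicative.toAdd.injective
      show (1 : ZMod 2) + Multiplicative.toAdd (dickson g) = 0
      rw [h]; decide
    · rw [orth_mul_apply, refl_fix (by rw [polB_comm]; exact hn _ (Submodule.subset_span ⟨i, rfl⟩))]
      exact hg i

theorem exists_partner (hQ : (polB q).Nondegenerate) {u : V} (hu : q u = 0) (hu0 : u ≠ 0) :
    ∃ x, q x = 0 ∧ polB q x u = 1 := by
  obtain ⟨c', h⟩ := exists_hypPair hQ hu hu0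
  exact ⟨c', h.right, by rw [polB_comm]; exact h.pair⟩

/-- An isometry fixing a singular vector and acting trivially above it. -/
theorem eq_eichler {u x' : V} (hu : q u = 0) (hx' : q x' = 0) (hxu : polB q x' u = 1)
    (g : orthGroup q) (hgu : g.1 u = u) (htriv : ∀ x, polB q x u = 0 → g.1 x = x ∨ g.1 x = x + u) :
    polB q u (g.1 x' + x') = 0 ∧ g = eichler q u (g.1 x' + x') := by
  set w := g.1 x' + x' with hw
  have huw : polB q u w = 0 := by
    have e : polB q u (g.1 x') = polB q u x' := by
      conv_lhs => enter [1, 2]; rw [← hgu]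
      exact orth_polB_map g u x'
    rw [hw, map_add, e]
    exact ZModModule.add_self _
  refine ⟨huw, orth_ext fun x => ?_⟩
  have hqw : q w = polB q x' w := by
    have h1 : q (g.1 x') = q x' := orth_qmap g x'
    have h2 : g.1 x' = x' + w := by rw [hw, add_comm (g.1 x'), ← add_assoc, vadd_self, zero_add]
    rw [h2, q_add, hx', zero_add] at h1
    have key : ∀ a b : ZMod 2, a + b = 0 → a = b := by decide
    exact key _ _ h1
  have hperp : ∀ y, polB q y u = 0 → g.1 y = (eichler q u w).1 y := by
    intro y hy
    rw [eichler2 hu huw, hy, mul_zero, zero_smul, zero_smul, add_zero, add_zero]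
    have h2 : g.1 x' = x' + w := by rw [hw, add_comm (g.1 x'), ← add_assoc, vadd_self, zero_add]
    have hb : polB q (g.1 y) (g.1 x') = polB q y x' := orth_polB_map g y x'
    rw [h2, map_add] at hb
    rcases htriv y hy with e | e <;> rw [e] at hb ⊢
    · have : polB q y w = 0 := by simpa using hb
      rw [this, zero_smul, add_zero]
    · simp only [map_add, LinearMap.add_apply] at hb
      rw [polB_comm u x', hxu, huw] at hb
      have key : ∀ a b : ZMod 2, a + 1 + (b + 0) = a → b = 1 := by decide
      rw [key _ _ hb, one_smul]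
  have hy0 : polB q (x + polB q x u • x') u = 0 := by
    simp only [map_add, map_smul, LinearMap.add_apply, LinearMap.smul_apply, hxu, smul_eq_mul, mul_one]
    exact ZModModule.add_self _
  have hx'e : g.1 x' = (eichler q u w).1 x' := by
    rw [eichler2 hu huw, hxu, one_smul, mul_one, add_assoc (x' + w), ← add_smul, hqw,
      ZModModule.add_self, zero_smul, add_zero, hw, add_comm (g.1 x'), ← add_assoc, vadd_self, zero_add]
  obtain ⟨y, hy, hxy⟩ : ∃ y, polB q y u = 0 ∧ x = y + polB q x u • x' :=
    ⟨_, hy0, by rw [add_assoc, vadd_self, add_zero]⟩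
  generalize polB q x u = a at hxy
  subst hxy
  rw [map_add, map_add, map_smul, map_smul, hperp _ hy, hx'e]

/-- The point of an even involution. -/
theorem exists_point (hQ : (polB q).Nondegenerate) {g : orthGroup q} (hg2 : g * g = 1)
    (hev : dickson g = 1) (hg1 : g ≠ 1) :
    ∃ c, c ≠ 0 ∧ c ∈ resid g ∧ q c = 0 ∧ ∀ x, polB q x c = 0 → q (g.1 x + x) = 0 := by
  classical
  have hsymm : ∀ x y, polB q x (g.1 y + y) = polB q y (g.1 x + x) := fun x y => by
    rw [← resMap_eq_add, ← resMap_eq_add]; exact H44.polB_resMap_comm hg2 x y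
  -- the linear functional
  let lam : V →ₗ[ZMod 2] ZMod 2 :=
    { toFun := fun x => q (g.1 x + x)
      map_add' := fun x y => by
        have e : g.1 (x + y) + (x + y) = (g.1 x + x) + (g.1 y + y) := by rw [map_add]; abel
        rw [e, q_add]
        have : polB q (g.1 x + x) (g.1 y + y) = 0 := by
          rw [hsymm (g.1 x + x) y, map_add g.1, H44.invol_apply_apply hg2, add_comm x (g.1 x),
            vadd_self, map_zero]
        rw [this, add_zero]
      map_smul' := fun a x => by
        rcases z2c a with rfl | rfl <;> simp }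
  obtain ⟨c, hc⟩ : ∃ c, ∀ x, polB q x c = q (g.1 x + x) := by
    refine ⟨(LinearMap.BilinForm.toDual (polB q) hQ).symm lam, fun x => ?_⟩
    rw [polB_comm, LinearMap.BilinForm.apply_toDual_symm_apply]
    rfl
  have hcR : c ∈ resid g := by
    rw [mem_resid_iff hQ]
    intro x hx
    rw [hc, hx, vadd_self, map_zero]
  by_cases hc0 : c = 0
  · have hne : resid g ≠ ⊥ := fun h => hg1 (eq_one_of_resid_eq_bot h)
    obtain ⟨m, hm, hm0⟩ := Submodule.exists_mem_ne_zero_of_ne_bot hne
    have hall : ∀ x, q (g.1 x + x) = 0 := fun x => by rw [← hc, hc0, map_zero]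
    refine ⟨m, hm0, hm, ?_, fun x _ => hall x⟩
    obtain ⟨x, rfl⟩ := hm
    rw [resMap_eq_add]; exact hall x
  refine ⟨c, hc0, hcR, ?_, fun x hx => by rw [← hc, hx]⟩
  rcases z2c (q c) with h | h
  · exact h
  exfalso
  have hqc : q c ≠ 0 := by rw [h]; exact one_ne_zero
  obtain ⟨x₀, hx₀⟩ := hcR
  have hgc : g.1 c = c := by
    rw [← hx₀, resMap_eq_add, map_add, H44.invol_apply_apply hg2, add_comm]
  have hh : (refl q c * g) * (refl q c * g) = 1 := by
    have e : g * refl q c = refl q c * g := by
      have h1 := refl_conj g c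
      rw [hgc] at h1
      exact mul_inv_eq_iff_eq_mul.mp h1
    calc refl q c * g * (refl q c * g) = refl q c * (g * refl q c) * g := by group
      _ = (refl q c * refl q c) * (g * g) := by rw [e]; group
      _ = 1 := by rw [refl_sq, hg2, one_mul]
  have halt : H44.IsAlt (refl q c * g) := by
    rintro _ ⟨x, rfl⟩
    rw [resMap_refl_mul, resMap_eq_add, h, inv_one, one_mul, q_add, qmap_smul, h, map_smul,
      smul_eq_mul, mul_one]
    have e1 : polB q (g.1 x) c = polB q x c := by
      conv_lhs => enter [2]; rw [← hgc]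
      exact orth_polB_map g x c
    have e2 : polB q (g.1 x + x) c = 0 := by
      rw [map_add, LinearMap.add_apply, e1]; exact ZModModule.add_self _
    rw [e1, e2, mul_zero, add_zero, ← hc]
    have key : ∀ a : ZMod 2, a + a * a = 0 := by decide
    exact key _
  have hodd := dickson_refl_mul hQ g hqc
  rw [hev, mul_one] at hodd
  obtain ⟨r, hr⟩ := H44.even_of_isAlt hQ hh halt
  have := congrArg Multiplicative.toAdd hodd
  rw [dickson, toAdd_ofAdd, toAdd_ofAdd, hr] at this
  push_cast at this
  rw [ZModModule.add_self] at this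
  exact zero_ne_one this

/-- The residual space of an even isometry has even dimension. -/
theorem even_resid {g : orthGroup q} (hev : dickson g = 1) :
    Even (Module.finrank (ZMod 2) (resid g)) := by
  have := congrArg Multiplicative.toAdd hev
  rw [dickson, toAdd_ofAdd, toAdd_one, ZMod.natCast_eq_zero_iff_even] at this
  exact this

end H79.Co1T
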