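import Cfsg.Agent.H79.Co1T.Rad

/-!
Groups of Conway type: every involution is conjugate into the radical of a frame.
-/

set_option autoImplicit false
set_option linter.unusedSectionVars false

namespace H79.Co1T

open H43
open H69 (LXFam)
open H69.LXFam (Sing)
open H69.Pair (half mem_half)

variable {G : Type*} [Group G] [Finite G]

theorem ts_span {S : Set V8} (hq : ∀ x ∈ S, q8 x = 0) (hB : ∀ x ∈ S, ∀ y ∈ S, B8 x y = 0) :
    ∀ x ∈ Submodule.span (ZMod 2) S, q8 x = 0 := by
  intro x hx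
  suffices q8 x = 0 ∧ ∀ y ∈ S, B8 x y = 0 from this.1
  induction hx using Submodule.span_induction with
  | mem x hx => exact ⟨hq x hx, hB x hx⟩
  | zero => exact ⟨map_zero _, fun y _ => by simp⟩
  | add a b ha hb iha ihb =>
    refine ⟨?_, fun y hy => by simp [iha.2 y hy, ihb.2 y hy]⟩
    rw [q_add, iha.1, ihb.1, zero_add, zero_add]
    exact perp_span iha.2 b hb
  | smul c a _ iha => exact ⟨by rw [qmap_smul, iha.1, mul_zero], fun y hy => by simp [iha.2 y hy]⟩

theorem finrank_fixed_add (g : orthGroup q8) :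
    Module.finrank (ZMod 2) (resid g) + Module.finrank (ZMod 2) (LinearMap.ker (resMap g)) = 8 := by
  rw [← dim8]
  exact LinearMap.finrank_range_add_finrank_ker (resMap g)

theorem mem_fixed {g : orthGroup q8} {x : V8} : x ∈ LinearMap.ker (resMap g) ↔ g.1 x = x := by
  rw [LinearMap.mem_ker, resMap_eq_add]
  exact ⟨eq_of_vadd_eq_zero, fun h => by rw [h, vadd_self]⟩

/-- Thirty-two fixed vectors bound the residual space. -/
theorem resid_le_three {g : orthGroup q8} {ι : Type} (hι : Nat.card ι = 32) (f : ι → V8)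
    (hf : Function.Injective f) (hfix : ∀ i, g.1 (f i) = f i) :
    Module.finrank (ZMod 2) (resid g) ≤ 3 := by
  have h := Nat.card_le_card_of_injective (fun i => (⟨f i, mem_fixed.mpr (hfix i)⟩ :
    LinearMap.ker (resMap g))) fun i j e => hf (congrArg Subtype.val e)
  rw [hι, card8, show (32 : ℕ) = 2 ^ 5 by norm_num] at h
  have := (Nat.pow_le_pow_iff_right (le_refl 2)).mp h
  have := finrank_fixed_add g
  omega

theorem resid_le_two {g : orthGroup q8} (hev : dickson g = 1)
    (h : Module.finrank (ZMod 2) (resid g) ≤ 3) : Module.finrank (ZMod 2) (resid g) ≤ 2 := by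
  obtain ⟨k, hk⟩ := even_resid hev
  omega

/-- A frame adapted to an involution of the centraliser. -/
theorem World.exists_adapted {F : G → Subgroup G} {z p y : G} {π : G → V8} {ρ : G → orthGroup q8}
    (W : World F z) (P : Pt (F p) p π ρ) (sp : Sing z p) (hy : y * y = 1) (hyp : Commute y p)
    (hyF : y ∉ F p) :
    ∃ u x', Frame F z p u π ρ x' ∧ Commute y u ∧ π u ∈ resid (ρ y) ∧
      ∀ x, B8 x (π u) = 0 → q8 ((ρ y).1 x + x) = 0 := by
  have hg2 : ρ y * ρ y = 1 := by rw [← P.ρ_mul hyp hyp, hy, P.ρ_one]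
  obtain ⟨c, hc0, hcR, hqc, hc⟩ := exists_point nd8 hg2 (P.even y hyp)
    (fun h => hyF (P.faithful y hyp h))
  obtain ⟨x, hx⟩ := hcR
  rw [resMap_eq_add] at hx
  obtain ⟨a, ha, rfl⟩ := P.surj x
  set m := y * a * y⁻¹ * a⁻¹ with hm
  have hmF : m ∈ F p := mul_mem (P.norm y hyp a ha) (inv_mem ha)
  have hπ : π m = c := by
    rw [hm, P.map_mul _ (P.norm y hyp a ha) _ (inv_mem ha), P.act y hyp a ha, P.πinv ha, hx]
  have hy' : y⁻¹ = y := inv_eq_of_mul_eq_one_right hy
  have hm2 : m * m = 1 := by rw [P.sq m hmF, hπ, hqc]; simp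
  have hym : Commute y m := by
    refine mul_inv_eq_iff_eq_mul.mp ?_
    calc y * m * y⁻¹ = y * y * a * y⁻¹ * a⁻¹ * y⁻¹ := by rw [hm]; group
      _ = (y * a * y⁻¹ * a⁻¹)⁻¹ := by rw [hy, hy', one_mul]; simp [hy', mul_assoc]
      _ = m := by rw [← hm]; exact inv_eq_of_mul_eq_one_right hm2
  have hm1 : m ≠ 1 := fun h => hc0 (by rw [← hπ, h, P.one])
  have hmp : m ≠ p := fun h => hc0 (by rw [← hπ, h, P.πp])
  obtain ⟨x', H⟩ := exists_hyp hqc hc0
  refine ⟨m, x', ⟨W, P, sp, hmF, W.sing_mem sp hmF hm2 hm1, hmp, H.qx, by rw [hπ]; exact H.cx⟩,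
    hym, ?_, fun v hv => hc v (by rw [← hπ]; exact hv)⟩
  rw [hπ, ← hx]
  exact mem_resid _ _

namespace Frame

variable {F : G → Subgroup G} {z p u : G} {π : G → V8} {ρ : G → orthGroup q8} {x' : V8}

/-- The transvection pair attached to two vectors. -/
noncomputable def tvp (s₁ s₂ x : V8) : V8 := x + B8 x s₂ • s₁ + B8 x s₁ • s₂

/-- Outside the radical an adapted involution acts on the complement by a pair of transvections. -/
theorem split (Fr : Frame F z p u π ρ x') {y : G} (hy : y * y = 1) (hyp : Commute y p)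
    (hyu : Commute y u) (hres : π u ∈ resid (ρ y))
    (halt : ∀ x, B8 x (π u) = 0 → q8 ((ρ y).1 x + x) = 0) (hR : y ∉ radR F p u) :
    ∃ v w s₁ s₂, InW (π u) x' v ∧ InW (π u) x' w ∧ InW (π u) x' s₁ ∧ InW (π u) x' s₂ ∧
      Ind s₁ s₂ ∧ q8 s₁ = 0 ∧ q8 s₂ = 0 ∧ B8 s₁ s₂ = 0 ∧
      B8 v s₁ = 0 ∧ B8 v s₂ = 1 ∧ B8 w s₁ = 1 ∧ B8 w s₂ = 0 ∧
      (∀ x, InW (π u) x' x → Fr.gW y x = tvp s₁ s₂ x) ∧
      3 ≤ Module.finrank (ZMod 2) (resid (ρ y)) := by
  have hfix := Fr.fix_u hyp hyu
  let N : V8 → V8 := fun x => Fr.gW y x + x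
  have hNW : ∀ {x}, InW (π u) x' x → InW (π u) x' (N x) := fun hx => (Fr.gW_inW y _).add hx
  have hinv : ∀ {x}, InW (π u) x' x → Fr.gW y (Fr.gW y x) = x := fun {x} hx => by
    rw [← Fr.gW_mul hyp hyu hyp hyu hx, hy, Fr.gW_ep hx]
  have hadd : ∀ a b, N (a + b) = N a + N b := fun a b => by
    show Fr.gW y (a + b) + (a + b) = _
    simp only [gW, map_add, N]
    abel
  have hproj : ∀ {x}, InW (π u) x' x → N x = proj (π u) x' ((ρ y).1 x + x) := fun hx => by
    rw [map_add, hx.proj_eq]; rfl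
  have hq : ∀ {x}, InW (π u) x' x → q8 (N x) = 0 := fun {x} hx => by
    rw [hproj hx, Fr.H.q_proj, halt x hx.1]
    simp [show polB q8 ((ρ y).1 x) (π u) = 0 from perp_g hfix hx.1, hx.1]
  have hNN : ∀ {a b}, InW (π u) x' a → InW (π u) x' b → B8 (N a) (N b) = 0 := fun {a b} ha hb => by
    have h := hq (ha.add hb)
    rwa [hadd, q_add, hq ha, hq hb, zero_add, zero_add] at h
  have hBN : ∀ {x}, InW (π u) x' x → B8 x (N x) = 0 := fun {x} hx => by
    have h : q8 (Fr.gW y x) = q8 x := Fr.gW_q hyp hyu hx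
    rw [show Fr.gW y x = x + N x by show _ = x + (Fr.gW y x + x); rw [add_comm (Fr.gW y x),
      ← add_assoc, vadd_self, zero_add], q_add, hq hx, add_zero] at h
    exact add_eq_left.mp h
  have hsym : ∀ {a b}, InW (π u) x' a → InW (π u) x' b → B8 (N a) b = B8 a (N b) := fun {a b} ha hb => by
    simp only [N, map_add, LinearMap.add_apply]
    congr 1
    conv_lhs => rw [← hinv hb]
    exact Fr.gW_B hyp hyu ha (Fr.gW_inW y b)
  obtain ⟨v, hv, hv0⟩ : ∃ v, InW (π u) x' v ∧ N v ≠ 0 := by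
    by_contra hno
    push Not at hno
    exact hR (Fr.mem_radR_of hyp hyu fun w hw => eq_of_vadd_eq_zero (hno w hw))
  obtain ⟨w, hw, hwv⟩ := Fr.H.exists_dual (hNW hv) hv0
  set s₁ := N v with hs₁
  set s₂ := N w with hs₂
  have b1 : B8 v s₁ = 0 := hBN hv
  have b4 : B8 w s₂ = 0 := hBN hw
  have b2 : B8 v s₂ = 1 := by
    rw [hs₂, ← hsym hv hw, ← hs₁, polB_comm]; exact hwv
  have hs12 : B8 s₁ s₂ = 0 := hNN hv hw
  have hi : Ind s₁ s₂ := ⟨fun e => by rw [e, map_zero] at hwv; exact zero_ne_one hwv,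
    fun e => by rw [e, map_zero] at b2; exact zero_ne_one b2,
    fun e => by rw [e, b4] at hwv; exact zero_ne_one hwv⟩
  have h1W : InW (π u) x' s₁ := hNW hv
  have h2W : InW (π u) x' s₂ := hNW hw
  refine ⟨v, w, s₁, s₂, hv, hw, hNW hv, hNW hw, hi, hq hv, hq hw, hs12, b1, b2, hwv, b4, ?_, ?_⟩
  · intro x₀ hx₀
    let N' : V8 → V8 := fun x => N x + B8 x s₂ • s₁ + B8 x s₁ • s₂
    suffices h : N' x₀ = 0 by
      have h' : N' x₀ = Fr.gW y x₀ + tvp s₁ s₂ x₀ := by simp only [N', N, tvp, add_assoc]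
      rw [h'] at h
      exact eq_of_vadd_eq_zero h
    by_contra h3
    have hN'W : ∀ {x}, InW (π u) x' x → InW (π u) x' (N' x) := fun hx =>
      ((hNW hx).add ((hNW hv).smul _)).add ((hNW hw).smul _)
    have e1 : B8 s₁ v = 0 := by rw [polB_comm]; exact b1
    have e2 : B8 s₂ v = 1 := by rw [polB_comm]; exact b2
    have e3 : B8 s₁ w = 1 := by rw [polB_comm]; exact hwv
    have e4 : B8 s₂ w = 0 := by rw [polB_comm]; exact b4
    have hv' : ∀ {x}, InW (π u) x' x → B8 (N' x) v = 0 := fun {x} hx => by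
      show B8 (N x + B8 x s₂ • s₁ + B8 x s₁ • s₂) v = 0
      simp only [map_add, map_smul, LinearMap.add_apply, LinearMap.smul_apply, e1, e2, hsym hx hv,
        ← hs₁, smul_eq_mul, mul_zero, mul_one, add_zero]
      exact ZModModule.add_self _
    have hw' : ∀ {x}, InW (π u) x' x → B8 (N' x) w = 0 := fun {x} hx => by
      show B8 (N x + B8 x s₂ • s₁ + B8 x s₁ • s₂) w = 0
      simp only [map_add, map_smul, LinearMap.add_apply, LinearMap.smul_apply, e3, e4, hsym hx hw,
        ← hs₂, smul_eq_mul, mul_zero, mul_one, add_zero]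
      exact ZModModule.add_self _
    have hsym' : ∀ {a b}, InW (π u) x' a → InW (π u) x' b → B8 (N' a) b = B8 a (N' b) :=
      fun {a b} ha hb => by
        show B8 (N a + B8 a s₂ • s₁ + B8 a s₁ • s₂) b = B8 a (N b + B8 b s₂ • s₁ + B8 b s₁ • s₂)
        simp only [map_add, map_smul, LinearMap.add_apply, LinearMap.smul_apply, hsym ha hb,
          smul_eq_mul, B8, polB_comm s₁ b, polB_comm s₂ b]
        ring
    have hBN' : ∀ {x}, InW (π u) x' x → B8 x (N' x) = 0 := fun {x} hx => by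
      show B8 x (N x + B8 x s₂ • s₁ + B8 x s₁ • s₂) = 0
      simp only [map_add, map_smul, hBN hx, smul_eq_mul, zero_add]
      rw [mul_comm]; exact ZModModule.add_self _
    obtain ⟨d, hd, hd3⟩ := Fr.H.exists_dual (hN'W hx₀) h3
    have hd4 : B8 x₀ (N' d) = 1 := by rw [← hsym' hx₀ hd, polB_comm]; exact hd3
    let S : Fin 5 → V8 := ![π u, s₁, s₂, N' x₀, N' d]
    have hS0 : ∀ {x}, InW (π u) x' x → q8 (N' x) = 0 ∧ B8 (N' x) s₁ = 0 ∧ B8 (N' x) s₂ = 0 := by
      intro x hx
      have h21 : B8 s₂ s₁ = 0 := by rw [polB_comm]; exact hs12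
      have n1 : B8 (N x) s₁ = 0 := hNN hx hv
      have n2 : B8 (N x) s₂ = 0 := hNN hx hw
      refine ⟨?_, ?_, ?_⟩
      · show q8 (N x + B8 x s₂ • s₁ + B8 x s₁ • s₂) = 0
        rw [q_add, q_add, qmap_smul, qmap_smul, hq hx, hs₁, hs₂, hq hv, hq hw, ← hs₁, ← hs₂]
        simp [n1, n2, hs12]
      · show B8 (N x + B8 x s₂ • s₁ + B8 x s₁ • s₂) s₁ = 0
        simp [n1, h21, B_self]
      · show B8 (N x + B8 x s₂ • s₁ + B8 x s₁ • s₂) s₂ = 0
        simp [n2, hs12, B_self]
    obtain ⟨c3, c31, c32⟩ := hS0 hx₀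
    obtain ⟨c4, c41, c42⟩ := hS0 hd
    have h34 : B8 (N' x₀) (N' d) = 0 := by
      have h := (hS0 (hx₀.add hd)).1
      have e : N' (x₀ + d) = N' x₀ + N' d := by
        simp only [N', hadd, map_add, LinearMap.add_apply, add_smul]; abel
      rwa [e, q_add, c3, c4, zero_add, zero_add] at h
    have hSq : ∀ i, q8 (S i) = 0 := by
      intro i; fin_cases i
      exacts [Fr.H.qc, hq hv, hq hw, c3, c4]
    have hSB : ∀ i j, B8 (S i) (S j) = 0 := by
      intro i j
      fin_cases i <;> fin_cases j <;>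
        simp [S, B_self, h1W.1, h2W.1, h1W.mono.1, h2W.mono.1, (hN'W hx₀).1,
          (hN'W hd).1, (hN'W hx₀).mono.1, (hN'W hd).mono.1, hs12, show polB q8 s₂ s₁ = 0 by
          rw [polB_comm]; exact hs12, c31, c32, c41, c42, h34,
          show polB q8 (N' d) (N' x₀) = 0 by rw [polB_comm]; exact h34,
          show polB q8 s₁ (N' x₀) = 0 by rw [polB_comm]; exact c31,
          show polB q8 s₂ (N' x₀) = 0 by rw [polB_comm]; exact c32,
          show polB q8 s₁ (N' d) = 0 by rw [polB_comm]; exact c41,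
          show polB q8 s₂ (N' d) = 0 by rw [polB_comm]; exact c42]
    have hli : LinearIndependent (ZMod 2) S := by
      rw [Fintype.linearIndependent_iff]
      intro f hf
      simp only [Fin.sum_univ_five, S, Matrix.cons_val_zero, Matrix.cons_val_one, Matrix.cons_val] at hf
      have f0 : f 0 = 0 := by
        simpa [Fr.H.cx, h1W.2, h2W.2, (hN'W hx₀).2, (hN'W hd).2]
          using congrArg (fun t => B8 t x') hf
      have f1 : f 1 = 0 := by
        simpa [hw.mono.1, e3, e4, hw' hx₀, hw' hd] using congrArg (fun t => B8 t w) hf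
      have f2 : f 2 = 0 := by
        simpa [hv.mono.1, e1, e2, hv' hx₀, hv' hd] using congrArg (fun t => B8 t v) hf
      simp only [f0, f1, f2, zero_smul, zero_add] at hf
      have f3 : f 3 = 0 := by
        have := congrArg (fun t => B8 t d) hf
        simpa [show polB q8 (N' x₀) d = 1 by rw [polB_comm]; exact hd3,
          show polB q8 (N' d) d = 0 by rw [polB_comm]; exact hBN' hd] using this
      simp only [f3, zero_smul, zero_add] at hf
      have f4 : f 4 = 0 := by
        have := congrArg (fun t => B8 t x₀) hf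
        simpa [show polB q8 (N' d) x₀ = 1 by rw [polB_comm]; exact hd4] using this
      intro i
      fin_cases i
      exacts [f0, f1, f2, f3, f4]
    have := two_mul_finrank_singular_le nd8 (Submodule.span (ZMod 2) (Set.range S))
      (ts_span (by rintro _ ⟨i, rfl⟩; exact hSq i) (by rintro _ ⟨i, rfl⟩ _ ⟨j, rfl⟩; exact hSB i j))
    rw [finrank_span_eq_card hli, dim8, Fintype.card_fin] at this
    omega
  · have hmem : ∀ {x}, InW (π u) x' x → N x ∈ resid (ρ y) := fun {x} hx => by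
      rw [hproj hx, proj_of_perp (by
        simp [show polB q8 ((ρ y).1 x) (π u) = 0 from perp_g hfix hx.1, hx.1])]
      exact add_mem (mem_resid _ _) (Submodule.smul_mem _ _ hres)
    have hli : LinearIndependent (ZMod 2) ![π u, s₁, s₂] := by
      rw [Fintype.linearIndependent_iff]
      intro f hf
      simp only [Fin.sum_univ_three, Matrix.cons_val_zero, Matrix.cons_val_one, Matrix.cons_val] at hf
      have f0 : f 0 = 0 := by
        simpa [Fr.H.cx, h1W.2, h2W.2] using congrArg (fun t => B8 t x') hf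
      have f1 : f 1 = 0 := by
        simpa [hw.mono.1, show polB q8 s₁ w = 1 by rw [polB_comm]; exact hwv,
          show polB q8 s₂ w = 0 by rw [polB_comm]; exact b4] using congrArg (fun t => B8 t w) hf
      simp only [f0, f1, zero_smul, zero_add, smul_eq_zero, hi.2.1, or_false] at hf
      intro i
      fin_cases i
      exacts [f0, f1, hf]
    have hle : Submodule.span (ZMod 2) (Set.range ![π u, s₁, s₂]) ≤ resid (ρ y) := by
      rw [Submodule.span_le]
      rintro _ ⟨i, rfl⟩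
      fin_cases i
      exacts [hres, hmem hv, hmem hw]
    have := Submodule.finrank_mono hle
    rwa [finrank_span_eq_card hli, Fintype.card_fin] at this

end Frame

/-- Small residual spaces lead into the radical. -/
theorem World.radR_of_small {F : G → Subgroup G} {z p y : G} {π : G → V8} {ρ : G → orthGroup q8}
    (W : World F z) (P : Pt (F p) p π ρ) (sp : Sing z p) (hy : y * y = 1) (hy1 : y ≠ 1)
    (hyp : Commute y p) (h : Module.finrank (ZMod 2) (resid (ρ y)) ≤ 3) :
    Sing z y ∨ ∃ p' u' π' ρ' x', Frame F z p' u' π' ρ' x' ∧ y ∈ radR F p' u' := by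
  by_cases hyF : y ∈ F p
  · exact Or.inl (W.sing_mem sp hyF hy hy1)
  obtain ⟨u, x', Fr, hyu, hres, halt⟩ := W.exists_adapted P sp hy hyp hyF
  by_cases hR : y ∈ radR F p u
  · exact Or.inr ⟨p, u, π, ρ, x', Fr, hR⟩
  obtain ⟨-, -, -, -, -, -, -, -, -, -, -, -, -, -, -, -, -, h3⟩ := Fr.split hy hyp hyu hres halt hR
  have := resid_le_two (P.even y hyp) h
  omega

end H79.Co1T
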